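import Cfsg.Agent.UGT.I34.Cov_m3
import Cfsg.Agent.UGT.HFAbs_m3
import Cfsg.Agent.UGT.A9.LTwoFacts_m3
import Cfsg.Agent.GH.L2AutSyl_m3
import Cfsg.Agent.UGT.FL34.FixX_m3
import Cfsg.Agent.StdL3.OneNoTwo
import Cfsg.Agent.UGT.Parity_m3
import Cfsg.Agent.S0242
import Cfsg.Agent.Lib.KleinGen
import Cfsg.Agent.OddHalf.D9.DoubleKill_m3
import Cfsg.Agent.UGT.NoGamma_m3
import Cfsg.Agent.Lib.Refl
import Cfsg.Agent.SporadicA.FieldFour
import Cfsg.Agent.UGT.L2Inner.WBAut_m3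
import Cfsg.Agent.UAlt.FourConj_m3
import Cfsg.Agent.UGT.I34.OnCode_m3
import Cfsg.Agent.FastGrp
import Cfsg.Agent.Prune
set_option linter.all false

section
prune_inst 0x7fb0fcfb8df8addeffff7e7faedddffdf9bcffffffdff9cbffe069efafdf6b0ecde56b8d8fe858fe1ee2e29410f87b53f9ffeeffea6bdc7ffffd5ff45ffbff9fedf7bd08519688340fbc0ff783f07f8e7f3fffffffffffffffffffffffffffbeffffffffffff

-- part: UGT/LTF/KF2
section
prune_inst 0x4d01007200520100000000000200000402000000200400000004000000000000000020000302000101000080020000060000000004000000000000000000401000000000090080100000000000000000000000000000000000000000000000000000000000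
set_option linter.all false
open scoped Cfsg.Agent.FastGrp

/-!
# `KF2` : facts on outer involutory automorphisms of `L₂(q)`

* `Rep.f2` : `F2 ξ`;
* `kf2 : KF2`.
-/

set_option autoImplicit false

open Cfsg Subgroup
open Cfsg.Agent.GH.L2Aut Cfsg.Agent.Lib.SL2Mat
open Cfsg.Agent.UGT.Iface (IsL2)

namespace Cfsg.Agent.UGT.LTF.KF2

universe u

open Cfsg.Agent.UGT.LTF.Defs (F2)

/-- an element of odd order in a subgroup closed under squares from it -/
theorem mem_of_sq {G : Type*} [Group G] {H : Subgroup G} {e : G} (ho : Odd (orderOf e))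
    (h : e * e ∈ H) : e ∈ H := by
  obtain ⟨k, hk⟩ := ho
  have h1 : e = (e * e) ^ (k + 1) := by
    have h2 : (e * e) ^ (k + 1) = e ^ orderOf e * e := by
      rw [← sq, ← pow_mul, hk, ← pow_succ]
      congr 1
    rw [h2, pow_orderOf_eq_one, one_mul]
  rw [h1]
  exact pow_mem h _

theorem odd_orderOf {G : Type*} [Group G] {E : Subgroup G} (hE : Odd (Nat.card E)) {e : G}
    (he : e ∈ E) : Odd (orderOf e) := by
  have h1 : orderOf e ∣ Nat.card E := by
    have := orderOf_dvd_natCard (⟨e, he⟩ : E)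
    rwa [Subgroup.orderOf_mk] at this
  exact Odd.of_dvd_nat hE h1

/-- subgroups of a cyclic group are determined by their order -/
theorem le_of_card {G : Type*} [Group G] [Finite G] {T A B : Subgroup G} (hT : IsCyclic T)
    (hA : A ≤ T) (hB : B ≤ T) (h : Nat.card A = Nat.card B) : A ≤ B := by
  classical
  have : Fintype T := Fintype.ofFinite _
  have h1 := IsCyclic.card_pow_eq_one_le (α := T) (n := Nat.card B) Nat.card_pos
  have h2 : (Finset.univ.filter fun x : T => x ∈ B.subgroupOf T) ⊆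
      Finset.univ.filter fun x : T => x ^ Nat.card B = 1 := by
    intro x hx
    rw [Finset.mem_filter] at hx ⊢
    refine ⟨hx.1, ?_⟩
    have h3 : (⟨x, hx.2⟩ : B) ^ Nat.card B = 1 := pow_card_eq_one'
    have h4 : (x : G) ^ Nat.card B = 1 := congrArg Subtype.val h3
    exact Subtype.ext h4
  have h3 : (Finset.univ.filter fun x : T => x ∈ B.subgroupOf T).card = Nat.card B := by
    rw [← Fintype.card_subtype, ← Nat.card_eq_fintype_card]
    exact Nat.card_congr (subgroupOfEquivOfLe hB).toEquiv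
  have h4 := Finset.eq_of_subset_of_card_le h2 (by rw [h3]; exact h1)
  intro x hx
  have h5 : (⟨x, hA hx⟩ : T) ∈ Finset.univ.filter fun x : T => x ^ Nat.card B = 1 := by
    rw [Finset.mem_filter]
    refine ⟨Finset.mem_univ _, ?_⟩
    have h6 : (⟨x, hx⟩ : A) ^ Nat.card A = 1 := pow_card_eq_one'
    have h7 : x ^ Nat.card A = 1 := congrArg Subtype.val h6
    rw [h] at h7
    exact Subtype.ext h7
  rw [← h4, Finset.mem_filter] at h5
  exact h5.2

section rep

variable {F : Type*} [Field F] [Finite F] {L : Type*} [Group L] (R : Cfsg.Agent.GH.L2Aut.Rep F L)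

local notation "M2" => Matrix (Fin 2) (Fin 2) F

/-! ### field type -/

/-- involutions of field type centralize no odd group normalized by their centralizer -/
theorem field_bot {ξ : MulAut L} (hξ : ξ * ξ = 1) (hf : R.fld ξ ≠ 1) {E : Subgroup L}
    (hE : Odd (Nat.card E)) (hc : ∀ e ∈ E, ξ e = e)
    (hn : ∀ l, ξ l = l → ∀ e ∈ E, l * e * l⁻¹ ∈ E) : E = ⊥ := by
  have hfin : Finite L := R.finite
  have hσ2 : R.fld ξ * R.fld ξ = 1 := by rw [← map_mul, hξ, map_one]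
  have ho : orderOf (R.fld ξ) = 2 := by
    apply orderOf_eq_prime
    · rw [sq, hσ2]
    · exact hf
  obtain ⟨R', -, -, hR⟩ := R.exists_rep ξ (by rw [ho, sq, hξ])
  generalize R.fld ξ = σ at hf hσ2 ho hR
  subst hR
  obtain ⟨K, hK, hcard⟩ := exists_fixed_field σ
  have hsub : R'.sub K ≤ fixSub (R'.fa σ) := R'.sub_le_fix hK
  obtain ⟨w, hw, hws, hcov⟩ := R'.exists_outer (ho ▸ even_two) hK hcard
  -- `E ≤ sub K`
  have hES : E ≤ R'.sub K := by
    intro e he
    apply mem_of_sq (odd_orderOf hE he)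
    by_cases h : e ∈ R'.sub K
    · exact mul_mem h h
    · have h1 := hcov e (hc e he) h
      have h2 := hcov e⁻¹ (hc e⁻¹ (inv_mem he)) (fun h3 => h (inv_mem_iff.1 h3))
      have h3 := mul_mem (inv_mem h2) h1
      have h4 : (w * e⁻¹)⁻¹ * (w * e) = e * e := by group
      rwa [h4] at h3
  have hK2 : Odd (Nat.card K) := by
    have h1 := odd_card R'.two
    rw [hcard] at h1
    exact (Nat.odd_pow_iff (by rw [ho]; norm_num)).1 h1
  have hK1 : 1 < Nat.card K := Finite.one_lt_card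
  have hK3 : 3 ≤ Nat.card K := by
    obtain ⟨k, hk⟩ := hK2
    omega
  rcases Nat.lt_or_ge 3 (Nat.card K) with h3 | h3
  · -- `sub K` simple
    have hsim : IsSimpleGroup (R'.sub K) := A9.LTwo.simple_rep (R'.subRep K) h3
    have hN : (E.subgroupOf (R'.sub K)).Normal := by
      refine ⟨fun e he g => ?_⟩
      rw [mem_subgroupOf] at he ⊢
      exact hn g (hsub g.2) e he
    rcases hsim.eq_bot_or_eq_top_of_normal _ hN with h1 | h1
    · rw [subgroupOf_eq_bot] at h1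
      exact (disjoint_iff.1 h1 ▸ inf_eq_left.2 hES).symm
    · exfalso
      rw [subgroupOf_eq_top] at h1
      have h2 : E = R'.sub K := le_antisymm hES h1
      rw [h2] at hE
      exact (Nat.not_odd_iff_even.2 (even_iff_two_dvd.2 (A9.LTwo.two_dvd_rep (R'.subRep K)))) hE
  · have hc9 : Nat.card F = 9 := by
      rw [hcard, ho, show Nat.card K = 3 by omega]
      norm_num
    by_contra hE1
    obtain ⟨a, b, hab⟩ := (R'.subRep K).exists_four
    have haa : (a : L) * a = 1 := congrArg Subtype.val hab.aa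
    have hbb : (b : L) * b = 1 := congrArg Subtype.val hab.bb
    have hcom : (a : L) * b = b * a := congrArg Subtype.val hab.comm
    obtain ⟨u, hu, d, hd, hd1, hdu⟩ := HFAbs.exists_fix hE hE1 haa hbb hcom
      (fun d hd => hn a (hsub a.2) d hd) (fun d hd => hn b (hsub b.2) d hd)
    have huu : u * u = 1 ∧ u ≠ 1 := by
      rcases hu with rfl | rfl | rfl
      · exact ⟨haa, fun h => hab.a1 (Subtype.ext h)⟩
      · exact ⟨hbb, fun h => hab.b1 (Subtype.ext h)⟩
      · exact ⟨congrArg Subtype.val hab.right.bb, fun h => hab.right.b1 (Subtype.ext h)⟩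
    apply hd1
    apply R'.conj_injective
    rw [map_one]
    apply A9.LTwo.eq_one_of_odd_nine R' hc9 huu.1 huu.2
    · exact Odd.of_dvd_nat (odd_orderOf hE hd) (orderOf_map_dvd _ _)
    · rw [← map_mul, ← map_mul, hdu]

/-! ### `PGL` type: the torus -/

section torus

variable {g : GL (Fin 2) F} {r : AlgebraicClosure F}

local notation "ι" => algebraMap F (AlgebraicClosure F)

/-- `e` is induced by `a + b g` and `ρ = (a + b r) / (a - b r)` -/
def Wt (g : GL (Fin 2) F) (r : AlgebraicClosure F) (e : L) (ρ : AlgebraicClosure F) : Prop :=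
  ∃ (t : GL (Fin 2) F) (a b : F), MulAut.conj e = R.gl t ∧ t.1 = a • (1 : M2) + b • g.1 ∧
    ι a - ι b * r ≠ 0 ∧ ρ * (ι a - ι b * r) = ι a + ι b * r

omit [Finite F] in
theorem ab_unique (hs : ∀ c : F, g.1 ≠ c • (1 : M2)) {a b a' b' : F}
    (h : a • (1 : M2) + b • g.1 = a' • (1 : M2) + b' • g.1) : a = a' ∧ b = b' := by
  have hb : b = b' := by
    by_contra hb
    have hb' : b - b' ≠ 0 := sub_ne_zero.2 hb
    apply hs ((b - b')⁻¹ * (a' - a))
    have h1 : (b - b') • g.1 = (a' - a) • (1 : M2) := by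
      rw [sub_smul, sub_smul]
      have h2 : b • g.1 = a' • (1 : M2) + b' • g.1 - a • (1 : M2) := by rw [← h]; abel
      rw [h2]; abel
    rw [mul_smul, ← h1, smul_smul, inv_mul_cancel₀ hb', one_smul]
  subst hb
  refine ⟨?_, rfl⟩
  have h1 := add_right_cancel h
  have h2 := congrFun (congrFun h1 0) 0
  simpa using h2

omit [Finite F] in
theorem det_ab (htr : g.1.trace = 0) (a b : F) :
    (a • (1 : M2) + b • g.1).det = a ^ 2 + b ^ 2 * g.1.det := by
  rw [Matrix.trace_fin_two] at htr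
  rw [Matrix.det_fin_two, Matrix.det_fin_two]
  simp
  linear_combination a * b * htr

theorem wt_exists (htr : g.1.trace = 0) (hs : ∀ c : F, g.1 ≠ c • (1 : M2))
    (hr : r * r = - ι g.1.det) {e : L} {t : GL (Fin 2) F} (he : MulAut.conj e = R.gl t)
    (ht : g.1 * t.1 = t.1 * g.1) : ∃ ρ, Wt R g r e ρ := by
  obtain ⟨a, b, hab⟩ := exists_ab hs ht
  have h1 : t.1.det ≠ 0 := (Matrix.GeneralLinearGroup.det t).ne_zero
  rw [hab, det_ab htr] at h1
  have h2 : (ι a - ι b * r) * (ι a + ι b * r) ≠ 0 := by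
    have h3 : (ι a - ι b * r) * (ι a + ι b * r) = ι (a ^ 2 + b ^ 2 * g.1.det) := by
      rw [map_add, map_mul, map_pow, map_pow]
      linear_combination (-(ι b) ^ 2) * hr
    rw [h3]
    exact (map_ne_zero_iff _ (algebraMap F (AlgebraicClosure F)).injective).2 h1
  have h3 := left_ne_zero_of_mul h2
  exact ⟨(ι a + ι b * r) / (ι a - ι b * r), t, a, b, he, hab, h3, div_mul_cancel₀ _ h3⟩

theorem wt_unique (hs : ∀ c : F, g.1 ≠ c • (1 : M2)) {e : L} {ρ ρ' : AlgebraicClosure F}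
    (h : Wt R g r e ρ) (h' : Wt R g r e ρ') : ρ = ρ' := by
  obtain ⟨t, a, b, h1, h2, h3, h4⟩ := h
  obtain ⟨t', a', b', h1', h2', h3', h4'⟩ := h'
  have h5 : R.gl (t⁻¹ * t') = 1 := by rw [map_mul, map_inv, ← h1, ← h1', inv_mul_cancel]
  obtain ⟨c, hc⟩ := R.gl_eq_one_iff.1 h5
  have h6 : t'.1 = c • t.1 := by
    have h7 : t'.1 = t.1 * (t⁻¹ * t').1 := by rw [← Units.val_mul, mul_inv_cancel_left]
    rw [h7, hc, Matrix.mul_smul, Matrix.mul_one]
  rw [h2, h2', smul_add, smul_smul, smul_smul] at h6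
  obtain ⟨h7, h8⟩ := ab_unique hs h6
  subst h7 h8
  rw [map_mul, map_mul] at h3' h4'
  have h9 : ι c ≠ 0 := by
    intro h0
    apply h3'
    rw [h0]; ring
  have h10 : (ρ - ρ') * (ι c * (ι a - ι b * r)) = 0 := by
    linear_combination ι c * h4 - h4'
  rcases mul_eq_zero.1 h10 with h11 | h11
  · exact sub_eq_zero.1 h11
  · exact absurd h11 (mul_ne_zero h9 h3)

theorem wt_mul (htr : g.1.trace = 0) (hr : r * r = - ι g.1.det) {e e' : L}
    {ρ ρ' : AlgebraicClosure F} (h : Wt R g r e ρ) (h' : Wt R g r e' ρ') :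
    Wt R g r (e * e') (ρ * ρ') := by
  obtain ⟨t, a, b, h1, h2, h3, h4⟩ := h
  obtain ⟨t', a', b', h1', h2', h3', h4'⟩ := h'
  have h5 : ι (a * a' - b * b' * g.1.det) - ι (a * b' + b * a') * r =
      (ι a - ι b * r) * (ι a' - ι b' * r) := by
    rw [map_sub, map_add, map_mul, map_mul, map_mul, map_mul, map_mul]
    linear_combination (-(ι b) * ι b') * hr
  have h6 : ι (a * a' - b * b' * g.1.det) + ι (a * b' + b * a') * r =
      (ι a + ι b * r) * (ι a' + ι b' * r) := by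
    rw [map_sub, map_add, map_mul, map_mul, map_mul, map_mul, map_mul]
    linear_combination (-(ι b) * ι b') * hr
  refine ⟨t * t', a * a' - b * b' * g.1.det, a * b' + b * a', ?_, ?_, ?_, ?_⟩
  · rw [map_mul, map_mul, h1, h1']
  · have h7 := Rep.sq_of_tr htr
    rw [Units.val_mul, h2, h2', Matrix.add_mul, Matrix.mul_add, Matrix.mul_add, Matrix.smul_mul,
      Matrix.smul_mul, Matrix.smul_mul, Matrix.smul_mul, Matrix.mul_smul, Matrix.mul_smul,
      Matrix.mul_smul, Matrix.mul_smul, Matrix.one_mul, Matrix.one_mul, Matrix.mul_one, h7]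
    module
  · rw [h5]
    exact mul_ne_zero h3 h3'
  · rw [h5, h6, ← h4, ← h4']
    ring

theorem wt_one : Wt R g r 1 1 :=
  ⟨1, 1, 0, by rw [map_one, map_one], by rw [Units.val_one, one_smul, zero_smul, add_zero],
    by rw [map_one, map_zero, zero_mul, sub_zero]; exact one_ne_zero,
    by rw [map_one, map_zero]; ring⟩

theorem eq_one_of_wt (hr : r * r = - ι g.1.det) {e : L} (h : Wt R g r e 1) : e = 1 := by
  obtain ⟨t, a, b, h1, h2, h3, h4⟩ := h
  have hd : g.1.det ≠ 0 := (Matrix.GeneralLinearGroup.det g).ne_zero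
  have hr0 : r ≠ 0 := by
    rintro rfl
    rw [mul_zero] at hr
    have h5 : ι g.1.det = 0 := neg_eq_zero.1 hr.symm
    exact hd ((map_eq_zero_iff _ (algebraMap F (AlgebraicClosure F)).injective).1 h5)
  have h20 : (2 : AlgebraicClosure F) ≠ 0 := by
    have h5 : ι (2 : F) ≠ 0 := (map_ne_zero_iff _ (algebraMap F (AlgebraicClosure F)).injective).2 R.two
    rwa [map_ofNat] at h5
  have hb : b = 0 := by
    have h5 : (2 : AlgebraicClosure F) * r * ι b = 0 := by linear_combination -h4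
    have h6 := (mul_eq_zero.1 h5).resolve_left (mul_ne_zero h20 hr0)
    exact (map_eq_zero_iff _ (algebraMap F (AlgebraicClosure F)).injective).1 h6
  rw [hb, zero_smul, add_zero] at h2
  have h5 : R.gl t = 1 := R.gl_eq_one_iff.2 ⟨a, h2⟩
  apply R.conj_injective
  rw [h1, h5, map_one]

/-- the torus -/
def Tor (g : GL (Fin 2) F) : Subgroup L where
  carrier := {e | ∃ t : GL (Fin 2) F, MulAut.conj e = R.gl t ∧ g.1 * t.1 = t.1 * g.1}
  one_mem' := ⟨1, by rw [map_one, map_one], by rw [Units.val_one, Matrix.mul_one, Matrix.one_mul]⟩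
  mul_mem' := by
    rintro x y ⟨t, h1, h2⟩ ⟨t', h1', h2'⟩
    refine ⟨t * t', by rw [map_mul, map_mul, h1, h1'], ?_⟩
    rw [Units.val_mul, ← Matrix.mul_assoc, h2, Matrix.mul_assoc, h2', Matrix.mul_assoc]
  inv_mem' := by
    rintro x ⟨t, h1, h2⟩
    refine ⟨t⁻¹, by rw [map_inv, map_inv, h1], ?_⟩
    have h3 : g * t = t * g := Units.ext h2
    have h4 : g * t⁻¹ = t⁻¹ * g := by
      rw [eq_inv_mul_iff_mul_eq, ← mul_assoc, ← h3, mul_inv_cancel_right]
    exact congrArg Units.val h4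

theorem cyclic_tor (htr : g.1.trace = 0) (hs : ∀ c : F, g.1 ≠ c • (1 : M2)) :
    IsCyclic (Tor R g) := by
  have hfin : Finite L := R.finite
  obtain ⟨r, hr⟩ := IsAlgClosed.exists_pow_nat_eq (- ι g.1.det) (n := 2) (by norm_num)
  rw [sq] at hr
  have hex : ∀ e : Tor R g, ∃ ρ, Wt R g r e ρ := by
    rintro ⟨e, t, h1, h2⟩
    exact wt_exists R htr hs hr h1 h2
  choose f hf using hex
  let φ : Tor R g →* AlgebraicClosure F :=
    { toFun := f
      map_one' := wt_unique R hs (hf 1) (wt_one R)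
      map_mul' := fun x y => wt_unique R hs (hf (x * y)) (wt_mul R htr hr (hf x) (hf y)) }
  have hk : ∀ x, φ x = 1 → x = 1 := by
    intro x hx
    have h1 := hf x
    have h2 : f x = 1 := hx
    rw [h2] at h1
    exact Subtype.ext (eq_one_of_wt R hr h1)
  refine isCyclic_of_injective_ringHom φ ?_
  intro x y hxy
  have h1 : φ (x * y⁻¹) = 1 := by
    have h2 : φ y * φ y⁻¹ = 1 := by rw [← map_mul, mul_inv_cancel, map_one]
    rw [map_mul, hxy, h2]
  exact mul_inv_eq_one.1 (hk _ h1)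

end torus

/-- odd groups centralized by an involution of `PGL` lie in its torus -/
theorem le_tor {g : GL (Fin 2) F} {E : Subgroup L} (hE : Odd (Nat.card E))
    (hc : ∀ e ∈ E, R.gl g e = e) : E ≤ Tor R g := by
  intro e he
  obtain ⟨t, ht⟩ := R.mem_PGL.1 (R.conj_mem_PGL e)
  have h1 : R.gl g * MulAut.conj e = MulAut.conj e * R.gl g := by
    ext x
    rw [MulAut.mul_apply, MulAut.mul_apply, MulAut.conj_apply, MulAut.conj_apply, map_mul, map_mul,
      map_inv, hc e he]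
  rw [ht] at h1
  rcases R.comm_cases h1.symm with h2 | h2
  · exact ⟨t, ht, h2.symm⟩
  · have h3 := R.anticomm_inv h2
    rw [← ht, ← map_mul] at h3
    have h4 : e * e = 1 := R.conj_injective (by rw [h3, map_one])
    have h5 : e ∈ (⊥ : Subgroup L) := mem_of_sq (odd_orderOf hE he) (by rw [h4]; exact one_mem _)
    rw [mem_bot.1 h5]
    exact one_mem _

include R in
/-- `F2` -/
theorem f2 {ξ : MulAut L} (hξ : ξ * ξ = 1) (ho : ∀ l, ξ ≠ MulAut.conj l) : F2 ξ := by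
  have hfin : Finite L := R.finite
  have hout : ∀ α β : MulAut L, Odd (orderOf β) → α * β * α⁻¹ = β⁻¹ → ∃ l, β = MulAut.conj l := by
    intro α β hβ hab
    have h1 : R.fld β = 1 := by
      have h2 : R.fld β * R.fld β = 1 := by
        have h3 := congrArg R.fld hab
        rw [map_mul, map_mul, map_inv, map_inv] at h3
        have h4 : R.fld α * R.fld β = R.fld β * R.fld α := Cfsg.Agent.Lib.AutSL2Out.ringEquiv_comm _ _
        rw [h4, mul_inv_cancel_right] at h3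
        exact mul_eq_one_iff_eq_inv.2 h3
      have h5 : R.fld β ∈ (⊥ : Subgroup (F ≃+* F)) :=
        mem_of_sq (Odd.of_dvd_nat hβ (orderOf_map_dvd _ _)) (by rw [h2]; exact one_mem _)
      exact mem_bot.1 h5
    have h2 : R.o1 β = 1 := by
      have h5 : R.o1 β ∈ (⊥ : Subgroup ℤˣ) :=
        mem_of_sq (Odd.of_dvd_nat hβ (orderOf_map_dvd _ _)) (by
          rw [Int.units_mul_self]; exact one_mem _)
      exact mem_bot.1 h5
    have h3 := R.mem_inn_iff.2 ⟨h1, h2⟩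
    obtain ⟨l, hl⟩ := h3
    exact ⟨l, hl.symm⟩
  by_cases hf : R.fld ξ = 1
  · obtain ⟨g, rfl⟩ := R.mem_PGL.1 (R.mem_PGL_iff_fld.2 hf)
    have hne : R.gl g ≠ 1 := fun h => ho 1 (by rw [h, map_one])
    have hT := cyclic_tor R (R.tr_of_inv hne hξ) (R.not_scalar_of_ne hne)
    refine ⟨fun E h1 h2 _ => ?_, fun E E' h1 h2 _ h3 _ h4 => ?_, hout⟩
    · exact Subgroup.isCyclic_of_le (le_tor R h1 h2)
    · have h5 := le_tor R h1 h2
      have h6 := le_tor R (h4 ▸ h1) h3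
      exact le_antisymm (le_of_card hT h5 h6 h4) (le_of_card hT h6 h5 h4.symm)
  · refine ⟨fun E h1 h2 h3 => ?_, fun E E' h1 h2 h3 h4 h5 h6 => ?_, hout⟩
    · rw [field_bot R hξ hf h1 h2 h3]
      infer_instance
    · rw [field_bot R hξ hf h1 h2 h3, field_bot R hξ hf (h6 ▸ h1) h4 h5]

end rep

/-- **`KF2`** -/
theorem kf2 : Defs.KF2.{u} := by
  rintro D _ ⟨F, _, _, hodd, -, ⟨e⟩⟩
  let R := Rep.ofEquiv (two_ne_zero_of_odd hodd) e
  refine ⟨fun z hz => ?_, fun ξ hξ ho => f2 R hξ ho⟩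
  have h1 : z ∈ center D := Subgroup.mem_center_iff.2 fun d => (hz d).symm
  rwa [R.center_eq_bot, mem_bot] at h1

end Cfsg.Agent.UGT.LTF.KF2
end

-- part: UGT/FL34/KFCore
section
prune_inst 0x102001200400100000180012200000443000000000000000c82104000000032009002101380014014002aa400008002001000050020000000000000000000120800252061340a104060087808000000000000000000000000000000000000000000000000
set_option linter.all false
open scoped Cfsg.Agent.FastGrp

-- part: UGT/FL34/Gen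
section
/-!
# Coordinates adapted to involutory outer automorphisms of `L₃(4)`
-/

set_option autoImplicit false
set_option linter.constructorNameAsVariable false
set_option linter.unusedVariables false

namespace Cfsg.Agent.UGT.FL34

open Subgroup
open Cfsg.Agent.SporadicA.FieldFour
open Cfsg.Agent.LThreeFour Cfsg.Agent.LThreeFour.Dat
open Cfsg.Agent.ONType.Psl (PSL3)
open Cfsg.Agent.UGT.ThEL34

variable {L : Type*} [Group L]

/-- coordinates given by an isomorphism with `PSL(3,4)` -/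
noncomputable abbrev D (e : PSL3 ≃* L) : Dat L := datPSL.map e

theorem bits_of_hom : ∀ g h : TyG, bitsHom g = bitsHom h → bits g = bits h := by decide +kernel

theorem hasTy_map {A : Dat L} (γ : MulAut L) {β : MulAut L} {τ : Ty}
    (h : A.HasTy (γ⁻¹ * β * γ) τ) : (A.map γ).HasTy β τ := by
  obtain ⟨l, hl⟩ := h
  have h1 := isTau_map (A := A) (γ : L ≃* L) hl
  refine ⟨γ l, ?_⟩
  rw [tr_conj] at h1
  have e : γ * (MulAut.conj l * (γ⁻¹ * β * γ)) * γ⁻¹ = MulAut.conj (γ l) * β := by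
    rw [conj_map]; group
  rwa [e] at h1

theorem bits_conj (A : Dat L) (γ β : MulAut L) :
    bits (A.tyHom (γ⁻¹ * β * γ)) = bits (A.tyHom β) := by
  apply bits_of_hom
  rw [map_mul, map_mul, map_mul, map_mul, map_inv, map_inv, mul_comm, mul_inv_cancel_left]

theorem bits_map (A : Dat L) (γ β : MulAut L) :
    bits ((A.map γ).tyHom β) = bits (A.tyHom β) := by
  have h := hasTy_map (A := A) γ (β := β) (A.hasTy_tyHom _)
  rw [h.tyHom, ← bits_conj A γ β]

theorem D_map (e : PSL3 ≃* L) (γ : MulAut L) : (D e).map γ = D (e.trans γ) := rfl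

theorem bits_indep (e e' : PSL3 ≃* L) (β : MulAut L) :
    bits ((D e').tyHom β) = bits ((D e).tyHom β) := by
  have h : e' = e.trans ((e.symm.trans e' : MulAut L) : L ≃* L) := by
    apply MulEquiv.ext
    intro l
    show e' l = e' (e.symm (e l))
    rw [MulEquiv.symm_apply_apply]
  rw [h, ← D_map]
  exact bits_map _ _ _

theorem mem_MT_map {A : Dat L} {γ β : MulAut L} (h : γ * β * γ⁻¹ ∈ A.MT) :
    β ∈ (A.map (γ⁻¹ : MulAut L)).MT := by
  rw [mem_MT_iff] at h ⊢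
  show β (γ⁻¹ (A.x 0 2 1)) = γ⁻¹ (A.x 0 2 1)
  nth_rw 2 [← h]
  rw [MulAut.mul_apply, MulAut.mul_apply, MulAut.inv_apply_self]

/-! ### 2-groups generated by commuting involutions -/

theorem two_closure {G : Type*} [Group G] {S : Set G} (h2 : ∀ a ∈ S, a * a = 1)
    (hc : ∀ a ∈ S, ∀ b ∈ S, a * b = b * a) : IsPGroup 2 (closure S) := by
  have h1 : closure S ≤ centralizer S := by
    rw [closure_le]
    intro a ha
    rw [SetLike.mem_coe, mem_centralizer_iff]
    intro b hb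
    exact hc b hb a ha
  have h3 : closure S ≤ centralizer (closure S : Set G) := by
    rw [closure_le]
    intro a ha
    rw [SetLike.mem_coe, mem_centralizer_iff]
    intro b hb
    exact ((mem_centralizer_iff.1 (h1 hb)) a ha).symm
  have h4 : ∀ a ∈ closure S, a * a = 1 := by
    intro a ha
    induction ha using closure_induction with
    | mem a ha => exact h2 a ha
    | one => exact one_mul 1
    | mul a b ha hb iha ihb =>
      have h5 := mem_centralizer_iff.1 (h3 ha) b hb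
      calc a * b * (a * b) = a * (b * a) * b := by group
        _ = (a * a) * (b * b) := by rw [h5]; group
        _ = 1 := by rw [iha, ihb, one_mul]
    | inv a ha ih =>
      rw [← mul_inv_rev, ih, inv_one]
  rintro ⟨a, ha⟩
  refine ⟨1, Subtype.ext ?_⟩
  show a ^ (2 ^ 1) = 1
  rw [pow_one, pow_two, h4 a ha]

/-! ### Adapted coordinates -/

theorem adj : ∀ τ : Ty, τ.mul τ = ty1 → τ ≠ ty1 →
    ∃ k : Fin 3, Ty.mul (Ty.mul (false, false, k) τ) (Ty.inv (false, false, k)) =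
      (τ.1, τ.2.1, 0) := by decide +kernel

theorem x02_one (A : Dat L) {τ : Ty} {β : MulAut L} (h : A.IsTau τ β) :
    β (A.x 0 2 1) = A.x 0 2 1 := by
  have e : ∀ b, fr b (1 : F4) = 1 := by decide
  rw [h.x02, e]

theorem x20_one (A : Dat L) {τ : Ty} {β : MulAut L} (h : A.IsTau τ β) :
    β (A.x 2 0 1) = A.x 2 0 1 := by
  have e : ∀ b, fr b (1 : F4) = 1 := by decide
  rw [h.x20, e]

/-- a 2-group of automorphisms containing an outer involutory automorphism -/
theorem pl (e : PSL3 ≃* L) (Q : Subgroup (MulAut L)) (hQ : IsPGroup 2 Q) {α : MulAut L}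
    (hα : α ∈ Q) (h2 : α * α = 1) {b1 b2 : Bool} (hb : bits ((D e).tyHom α) = (b1, b2))
    (hne : (b1, b2) ≠ (false, false)) :
    ∃ e' : PSL3 ≃* L, (D e').IsTau (b1, b2, 0) α ∧ ∀ β ∈ Q, β ∈ (D e').MT := by
  set τ := ((D e).tyHom α).ty with hτ
  have hty : (D e).HasTy α τ := (D e).hasTy_tyHom α
  have e1 : τ.1 = b1 := congrArg Prod.fst hb
  have e2 : τ.2.1 = b2 := congrArg Prod.snd hb
  have hτ1 : τ ≠ ty1 := by
    intro h
    apply hne
    rw [← e1, ← e2, h]
  have hττ : τ.mul τ = ty1 := by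
    have h1 := hty.mul hty
    rw [h2] at h1
    exact h1.unique (D e).hasTy_one
  obtain ⟨l, hl, hl'⟩ := exists_conj_pure Q hQ hα h2 hτ1 hty
  have h3 := isTau_map_conj (MulAut.conj l) hl
  have h4 : ∀ β ∈ Q, β ∈ ((D e).map ((MulAut.conj l)⁻¹ : MulAut L)).MT :=
    fun β hβ => mem_MT_map (hl' β hβ)
  rw [D_map] at h3 h4
  set e' : PSL3 ≃* L := e.trans ((MulAut.conj l)⁻¹ : MulAut L) with he'
  obtain ⟨k, hk⟩ := adj τ hττ hτ1
  set δ : MulAut L := tr e' (dl k) with hδ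
  have h5 : (D e').IsTau (false, false, k) δ := isTau_map e' (isTau_dl k)
  have h6 := (h5.mul h3).mul h5.inv
  rw [hk, e1, e2] at h6
  refine ⟨e'.trans (δ⁻¹ : MulAut L), by rw [← D_map]; exact isTau_map_conj δ h6, ?_⟩
  intro β hβ
  rw [← D_map]
  apply mem_MT_map
  exact mul_mem (mul_mem h5.mem_MT (h4 β hβ)) (inv_mem h5.mem_MT)

/-- an inner automorphism in `MT` -/
theorem conj_mem {A : Dat L} {s : L} (h : MulAut.conj s ∈ A.MT) : ∃ p, s = A.el p := by
  obtain ⟨p, hp⟩ := mem_MT_inner h (A.tyHom_conj s)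
  exact ⟨p, A.conj_injective hp⟩

theorem conj_comm {β : MulAut L} {s : L} (h : β s = s) : β * MulAut.conj s = MulAut.conj s * β := by
  have h1 := conj_map β s
  rw [h] at h1
  calc β * MulAut.conj s = β * MulAut.conj s * β⁻¹ * β := by group
    _ = MulAut.conj s * β := by rw [← h1]

theorem fx_tt : ∀ p : Code, ctau (true, true, 0) p = p → cmul p p = cone → p = cone ∨
    p = ⟨0, 0, 1⟩ := by decide +kernel

theorem el_sq {A : Dat L} {p : Code} (h : A.el p * A.el p = 1) : cmul p p = cone := by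
  rwa [A.el_mul, A.el_eq_one] at h

/-- a unitary polarity and a fixed involution, with another automorphism -/
theorem plx' (e : PSL3 ≃* L) {x : MulAut L} (hx : x * x = 1)
    (hb : bits ((D e).tyHom x) = (true, true)) {s : L} (hs : s * s = 1) (hs1 : s ≠ 1) (hxs : x s = s) :
    ∃ e' : PSL3 ≃* L, (D e').IsTau (true, true, 0) x ∧ s = (D e').x 0 2 1 := by
  have hQ : IsPGroup 2 (closure ({x, MulAut.conj s} : Set (MulAut L))) := by
    apply two_closure
    · rintro a (rfl | rfl)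
      · exact hx
      · rw [← map_mul, hs, map_one]
    · rintro a (rfl | rfl) b (rfl | rfl)
      · rfl
      · exact conj_comm hxs
      · exact (conj_comm hxs).symm
      · rfl
  obtain ⟨e', h1, h2⟩ := pl e _ hQ (subset_closure (Set.mem_insert _ _)) hx hb (by decide)
  obtain ⟨p, hp⟩ := conj_mem (h2 (MulAut.conj s) (subset_closure (Set.mem_insert_of_mem _ rfl)))
  refine ⟨e', h1, ?_⟩
  have k1 : ctau (true, true, 0) p = p := (D e').inj (by rw [← h1.el, ← hp, hxs])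
  have k2 : cmul p p = cone := el_sq (A := D e') (by rw [← hp, hs])
  rcases fx_tt p k1 k2 with h3 | h3
  · exfalso
    apply hs1
    rw [hp, h3]; exact (D e').el_one
  · rw [hp, h3, (D e').el_x02]

theorem wild_bits (e : PSL3 ≃* L) {x a : MulAut L} (hx : x * x = 1)
    (hb : bits ((D e).tyHom x) = (true, true)) (ha : Wild x a) :
    bits ((D e).tyHom a) = (true, false) ∨ bits ((D e).tyHom a) = (false, true) := by
  have hx1 : (D e).tyHom x = ⟨(true, true, 0)⟩ := by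
    apply tt_unique _ _ hb
    rw [← map_mul, hx, map_one]
  have h1 := ty_sq ((D e).tyHom a) (by rw [← map_mul, ha.sq, map_one])
  rcases h1 with h1 | h1 | h1 | h1
  · obtain ⟨l, hl⟩ := (D e).inner_iff.1 h1
    exact absurd hl (ha.inn l)
  · exact Or.inl h1
  · exact Or.inr h1
  · rw [← hx1] at h1
    have h2 : (D e).tyHom (x⁻¹ * a) = 1 := by
      rw [map_mul, map_inv, h1, inv_mul_cancel]
    obtain ⟨l, hl⟩ := (D e).inner_iff.1 h2
    exact absurd (by rw [← hl]; group) (ha.xinn l)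

theorem fx_tf : ∀ p : Code, ctau (true, false, 0) p = p → cmul p p = cone → p ≠ cone →
    ∃ q, ctau (true, false, 0) q = q ∧ (cmul (cmul q p) (cinv q) = ⟨0, 0, 1⟩ ∨
      cmul (cmul q p) (cinv q) = ⟨1, 0, 0⟩ ∨ cmul (cmul q p) (cinv q) = ⟨0, 1, 0⟩) := by
  decide +kernel

theorem fx_ft : ∀ p : Code, ctau (false, true, 0) p = p → p.a = 0 ∧ p.b = 0 := by
  decide +kernel

/-- conjugating coordinates by a fixed element -/
theorem isTau_conj_fix {e : PSL3 ≃* L} {τ : Ty} {a : MulAut L} (h : (D e).IsTau τ a) {g : L}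
    (hg : a g = g) : (D (e.trans ((MulAut.conj g)⁻¹ : MulAut L))).IsTau τ a := by
  rw [← D_map]
  apply isTau_map_conj
  have h1 : MulAut.conj g * a * (MulAut.conj g)⁻¹ = a := by
    rw [← conj_comm hg]; group
  rwa [h1]

/-- a wild automorphism and a fixed involution -/
theorem pla (e : PSL3 ≃* L) {a : MulAut L} (ha : a * a = 1)
    (hb : bits ((D e).tyHom a) = (true, false) ∨ bits ((D e).tyHom a) = (false, true))
    {i : L} (hi : i * i = 1) (hi1 : i ≠ 1) (hai : a i = i) :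
    ∃ e' : PSL3 ≃* L, ((D e').IsTau (true, false, 0) a ∨ (D e').IsTau (false, true, 0) a) ∧
      ∃ c, c ≠ 0 ∧ i = (D e').x 0 2 c := by
  have hQ : IsPGroup 2 (closure ({a, MulAut.conj i} : Set (MulAut L))) := by
    apply two_closure
    · rintro b (rfl | rfl)
      · exact ha
      · rw [← map_mul, hi, map_one]
    · rintro b (rfl | rfl) c (rfl | rfl)
      · rfl
      · exact conj_comm hai
      · exact (conj_comm hai).symm
      · rfl
  have hmem : a ∈ closure ({a, MulAut.conj i} : Set (MulAut L)) :=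
    subset_closure (Set.mem_insert _ _)
  have hmem' : MulAut.conj i ∈ closure ({a, MulAut.conj i} : Set (MulAut L)) :=
    subset_closure (Set.mem_insert_of_mem _ rfl)
  rcases hb with hb | hb
  · obtain ⟨e', h1, h2⟩ := pl e _ hQ hmem ha hb (by decide)
    obtain ⟨p, hp⟩ := conj_mem (h2 _ hmem')
    have hp1 : ctau (true, false, 0) p = p := (D e').inj (by rw [← h1.el, ← hp, hai])
    have hp2 : cmul p p = cone := el_sq (A := D e') (by rw [← hp, hi])
    have hp3 : p ≠ cone := by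
      rintro rfl
      exact hi1 (hp.trans (D e').el_one)
    obtain ⟨q, hq, hq'⟩ := fx_tf p hp1 hp2 hp3
    have hcj : (D e').el q * i * ((D e').el q)⁻¹ = (D e').el (cmul (cmul q p) (cinv q)) := by
      rw [hp, (D e').el_inv, (D e').el_mul, (D e').el_mul]
    have hfq : a ((D e').el q) = (D e').el q := by rw [h1.el, hq]
    have hf : ∀ k l : Fin 3, k ≠ l → a ((D e').x k l 1) = (D e').x k l 1 := by
      intro k l hkl
      rw [h1 k l hkl]
      have : ∀ k l, pu (true, false, 0) k l 1 = 1 := by decide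
      show (D e').x k l (pu (true, false, 0) k l 1) = _
      rw [this]
    have hfn : ∀ k l : Fin 3, k ≠ l → a ((D e').x k l 1 * (D e').x l k 1 * (D e').x k l 1) =
        (D e').x k l 1 * (D e').x l k 1 * (D e').x k l 1 := by
      intro k l hkl
      rw [map_mul, map_mul, hf k l hkl, hf l k hkl.symm]
    have key : ∃ g, a g = g ∧ g * i * g⁻¹ = (D e').x 0 2 1 := by
      rcases hq' with h3 | h3 | h3
      · refine ⟨(D e').el q, hfq, ?_⟩
        rw [hcj, h3, (D e').el_x02]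
      · set n := (D e').x 1 2 1 * (D e').x 2 1 1 * (D e').x 1 2 1 with hn
        refine ⟨n⁻¹ * (D e').el q, by rw [map_mul, map_inv, hfn 1 2 (by decide), hfq], ?_⟩
        have h4 := (D e').x_wey 1 2 0 1 (by decide) (by decide) 1
        calc n⁻¹ * (D e').el q * i * (n⁻¹ * (D e').el q)⁻¹
            = n⁻¹ * ((D e').el q * i * ((D e').el q)⁻¹) * n := by group
          _ = n⁻¹ * (D e').x 0 1 1 * n := by rw [hcj, h3, (D e').el_x01]
          _ = _ := h4
      · set n := (D e').x 0 1 1 * (D e').x 1 0 1 * (D e').x 0 1 1 with hn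
        refine ⟨n⁻¹ * (D e').el q, by rw [map_mul, map_inv, hfn 0 1 (by decide), hfq], ?_⟩
        have h4 := (D e').x_wey 0 1 1 2 (by decide) (by decide) 1
        calc n⁻¹ * (D e').el q * i * (n⁻¹ * (D e').el q)⁻¹
            = n⁻¹ * ((D e').el q * i * ((D e').el q)⁻¹) * n := by group
          _ = n⁻¹ * (D e').x 1 2 1 * n := by rw [hcj, h3, (D e').el_x12]
          _ = _ := h4
    obtain ⟨g, hg, hgi⟩ := key
    refine ⟨e'.trans ((MulAut.conj g)⁻¹ : MulAut L), Or.inl (isTau_conj_fix h1 hg), 1, by decide, ?_⟩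
    show i = (MulAut.conj g)⁻¹ ((D e').x 0 2 1)
    rw [← hgi, MulAut.conj_inv_apply]
    group
  · obtain ⟨e', h1, h2⟩ := pl e _ hQ hmem ha hb (by decide)
    obtain ⟨p, hp⟩ := conj_mem (h2 _ hmem')
    have hp1 : ctau (false, true, 0) p = p := (D e').inj (by rw [← h1.el, ← hp, hai])
    obtain ⟨h3, h4⟩ := fx_ft p hp1
    obtain ⟨pa, pb, pc⟩ := p
    simp only at h3 h4
    subst h3 h4
    rw [(D e').el_x02] at hp
    refine ⟨e', Or.inr h1, pc, ?_, hp⟩
    rintro rfl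
    exact hi1 (hp.trans ((D e').x_zero 0 2 (by decide)))

theorem adj2 : ∀ d : Fin 3, ∃ k : Fin 3,
    Ty.mul (Ty.mul (false, false, k) (true, false, d)) (Ty.inv (false, false, k)) =
      (true, false, 0) ∧
    Ty.mul (Ty.mul (false, false, k) (true, true, 0)) (Ty.inv (false, false, k)) =
      (true, true, 0) := by decide +kernel

theorem code2 : ∀ p : Code, ctau (true, true, 0) p = p → cmul (ctau (true, false, 0) p) p = cone →
    ∃ q, ctau (true, true, 0) q = q ∧ cmul (ctau (true, false, 0) q) (cmul p (cinv q)) = cone := by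
  decide +kernel

theorem ctau_cone : ∀ τ : Ty, ctau τ cone = cone := by decide

/-- commuting polarity and field automorphism -/
theorem pl2 (e : PSL3 ≃* L) {x a : MulAut L} (hx : x * x = 1)
    (hb : bits ((D e).tyHom x) = (true, true)) (ha : a * a = 1)
    (hba : bits ((D e).tyHom a) = (true, false)) (hc : a * x = x * a) :
    ∃ e' : PSL3 ≃* L, (D e').IsTau (true, true, 0) x ∧ (D e').IsTau (true, false, 0) a := by
  have hQ : IsPGroup 2 (closure ({x, a} : Set (MulAut L))) := by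
    apply two_closure
    · rintro b (rfl | rfl)
      · exact hx
      · exact ha
    · rintro b (rfl | rfl) c (rfl | rfl)
      · rfl
      · exact hc.symm
      · exact hc
      · rfl
  obtain ⟨e1, h1, h2⟩ := pl e _ hQ (subset_closure (Set.mem_insert _ _)) hx hb (by decide)
  have h3 := h2 a (subset_closure (Set.mem_insert_of_mem _ rfl))
  rw [← bits_indep e e1] at hba
  -- the diagonal part
  set τ := ((D e1).tyHom a).ty with hτ
  have hty : (D e1).HasTy a τ := (D e1).hasTy_tyHom a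
  obtain ⟨k, hk1, hk2⟩ := adj2 τ.2.2
  have hτe : τ = (true, false, τ.2.2) := by
    have e1 : τ.1 = true := congrArg Prod.fst hba
    have e2 : τ.2.1 = false := congrArg Prod.snd hba
    rw [← e1, ← e2]
  rw [← hτe] at hk1
  set δ : MulAut L := tr e1 (dl k) with hδ
  have h5 : (D e1).IsTau (false, false, k) δ := isTau_map e1 (isTau_dl k)
  have h6 := (h5.mul h1).mul h5.inv
  rw [hk2] at h6
  have h7 := isTau_map_conj δ h6
  have h8 := (h5.hasTy.mul hty).mul h5.hasTy.inv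
  rw [hk1] at h8
  have h9 : ((D e1).map (δ⁻¹ : MulAut L)).HasTy a (true, false, 0) := by
    apply hasTy_map
    rw [inv_inv]
    exact h8
  have h10 : a ∈ ((D e1).map (δ⁻¹ : MulAut L)).MT := by
    apply mem_MT_map
    exact mul_mem (mul_mem h5.mem_MT h3) (inv_mem h5.mem_MT)
  rw [D_map] at h7 h9 h10
  set e2 := e1.trans (δ⁻¹ : MulAut L) with he2
  -- the code
  obtain ⟨p, ρ, hp⟩ := h10
  have hρ : ρ = (true, false, 0) := hp.hasTy.unique h9
  subst hρ
  have c1 : ctau (true, true, 0) p = p := by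
    have u1 := h7.cd.mul hp
    have u2 := hp.mul h7.cd
    rw [hc] at u2
    have u3 := (u1.unique u2).2
    rw [ctau_cone, cone_cmul, cmul_cone] at u3
    exact u3.symm
  have c2 : cmul (ctau (true, false, 0) p) p = cone := by
    have u1 := hp.mul hp
    rw [ha] at u1
    exact u1.one.2
  obtain ⟨q, hq1, hq2⟩ := code2 p c1 c2
  have h11 : x ((D e2).el q) = (D e2).el q := by rw [h7.el, hq1]
  refine ⟨e2.trans ((MulAut.conj ((D e2).el q))⁻¹ : MulAut L), isTau_conj_fix h7 h11, ?_⟩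
  rw [← D_map]
  apply isTau_map_conj
  have h12 := hp.conj q
  rw [hq2] at h12
  exact h12.cone

/-- commuting polarity and wild automorphism -/
theorem pl2' (e : PSL3 ≃* L) {x a : MulAut L} (hx : x * x = 1)
    (hb : bits ((D e).tyHom x) = (true, true)) (ha : a * a = 1)
    (hba : bits ((D e).tyHom a) = (true, false) ∨ bits ((D e).tyHom a) = (false, true))
    (hc : a * x = x * a) :
    ∃ e' : PSL3 ≃* L, (D e').IsTau (true, true, 0) x ∧
      ((D e').IsTau (true, false, 0) a ∨ (D e').IsTau (false, true, 0) a) := by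
  rcases hba with hba | hba
  · obtain ⟨e', h1, h2⟩ := pl2 e hx hb ha hba hc
    exact ⟨e', h1, Or.inl h2⟩
  · have h1 : (a * x) * (a * x) = 1 := by
      calc (a * x) * (a * x) = a * (x * a) * x := by group
        _ = (a * a) * (x * x) := by rw [← hc]; group
        _ = 1 := by rw [ha, hx, one_mul]
    have h2 : bits ((D e).tyHom (a * x)) = (true, false) := by
      have k : ∀ g h : TyG, bits g = (false, true) → bits h = (true, true) →
        bits (g * h) = (true, false) := by decide +kernel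
      rw [map_mul]
      exact k _ _ hba hb
    obtain ⟨e', h3, h4⟩ := pl2 e hx hb h1 h2 (by
      rw [← mul_assoc x a x, ← hc])
    refine ⟨e', h3, Or.inr ?_⟩
    have h5 := h4.mul h3
    have h6 : a * x * x = a := by rw [mul_assoc, hx, mul_one]
    rw [h6] at h5
    exact h5

end Cfsg.Agent.UGT.FL34
end

-- part: UGT/FL34/Main
section
/-!
# The facts on `L₃(4)`
-/

set_option autoImplicit false
set_option linter.constructorNameAsVariable false
set_option linter.unusedVariables false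

namespace Cfsg.Agent.UGT.FL34

open Subgroup
open Cfsg.Agent.SporadicA.FieldFour
open Cfsg.Agent.LThreeFour Cfsg.Agent.LThreeFour.Dat
open Cfsg.Agent.ONType.Psl (PSL3 kap)
open Cfsg.Agent.UGT.ThEL34
open scoped commutatorElement

variable {L : Type*} [Group L]

/-! ### Generation -/

theorem gen_T (A : Dat L) {H : Subgroup L} (h1 : A.T ≤ H) (h2 : A.x 2 0 1 ∈ H) : H = ⊤ := by
  have h02 : ∀ u, A.x 0 2 u ∈ H := fun u => h1 (by rw [← A.el_x02]; exact A.el_mem _)
  have h01 : ∀ u, A.x 0 1 u ∈ H := fun u => h1 (by rw [← A.el_x01]; exact A.el_mem _)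
  have h12 : ∀ u, A.x 1 2 u ∈ H := fun u => h1 (by rw [← A.el_x12]; exact A.el_mem _)
  have hn : A.x 0 2 1 * A.x 2 0 1 * A.x 0 2 1 ∈ H := mul_mem (mul_mem (h02 1) h2) (h02 1)
  have hw : ∀ k l, k ≠ l → ∀ u, A.x k l u ∈ H → A.x (Equiv.swap 0 2 k) (Equiv.swap 0 2 l) u ∈ H := by
    intro k l hkl u h
    rw [← A.x_wey 0 2 k l (by decide) hkl u]
    exact mul_mem (mul_mem (inv_mem hn) h) hn
  rw [eq_top_iff, ← A.gen, closure_le]
  rintro _ ⟨i, j, u, hij, rfl⟩
  fin_cases i <;> fin_cases j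
  · exact absurd rfl hij
  · exact h01 u
  · exact h02 u
  · exact hw 1 2 (by decide) u (h12 u)
  · exact absurd rfl hij
  · exact h12 u
  · exact hw 0 2 (by decide) u (h02 u)
  · exact hw 0 1 (by decide) u (h01 u)
  · exact absurd rfl hij

theorem gen_pair (A : Dat L) {H : Subgroup L} (h1 : ∀ i j, i ≠ j → A.x i j 1 ∈ H)
    (h2 : ∀ u, A.x 0 2 u ∈ H) : H = ⊤ := by
  have hn : ∀ i j, i ≠ j → A.x i j 1 * A.x j i 1 * A.x i j 1 ∈ H := fun i j hij =>
    mul_mem (mul_mem (h1 i j hij) (h1 j i hij.symm)) (h1 i j hij)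
  have h01 : ∀ u, A.x 0 1 u ∈ H := by
    intro u
    have h := A.x_wey 1 2 0 2 (by decide) (by decide) u
    have e : A.x (Equiv.swap 1 2 0) (Equiv.swap 1 2 2) u = A.x 0 1 u := rfl
    rw [← e, ← h]
    exact mul_mem (mul_mem (inv_mem (hn 1 2 (by decide))) (h2 u)) (hn 1 2 (by decide))
  have h12 : ∀ u, A.x 1 2 u ∈ H := by
    intro u
    have h := A.x_wey 0 1 0 2 (by decide) (by decide) u
    have e : A.x (Equiv.swap 0 1 0) (Equiv.swap 0 1 2) u = A.x 1 2 u := rfl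
    rw [← e, ← h]
    exact mul_mem (mul_mem (inv_mem (hn 0 1 (by decide))) (h2 u)) (hn 0 1 (by decide))
  apply gen_T A _ (h1 2 0 (by decide))
  rintro _ ⟨p, rfl⟩
  rw [A.el_eq]
  exact mul_mem (mul_mem (h01 _) (h12 _)) (h2 _)

/-! ### The opposite root group -/

theorem code_four : ∀ p : Code, cmul (cmul p p) (cmul p p) = cone := by decide +kernel

theorem code_three : ∀ p : Code, cmul (cmul p p) p = cone → p = cone := by decide +kernel

theorem cent_r (A : Dat L) {t : L} (ht1 : t ≠ 1) (ht : t * t = 1) (h02 : t * A.x 0 2 1 = A.x 0 2 1 * t)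
    (h20 : t * A.x 2 0 1 = A.x 2 0 1 * t) : False := by
  obtain ⟨k, hk⟩ := A.invol_conj t ht1 ht
  set r := A.x 0 2 1 * A.x 2 0 1 with hr
  have hr1 : t * r = r * t := by
    rw [hr, ← mul_assoc, h02, mul_assoc, h20, mul_assoc]
  have h1 : (k * r * k⁻¹) * A.x 0 2 1 = A.x 0 2 1 * (k * r * k⁻¹) := by
    rw [← hk]
    calc k * r * k⁻¹ * (k * t * k⁻¹) = k * (r * t) * k⁻¹ := by group
      _ = k * t * k⁻¹ * (k * r * k⁻¹) := by rw [← hr1]; group
  obtain ⟨q, hq⟩ := cent_x02.1 h1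
  have h2 : cmul (cmul q q) q = cone := by
    rw [← A.el_eq_one, ← A.el_mul, ← A.el_mul, hq]
    calc k * r * k⁻¹ * (k * r * k⁻¹) * (k * r * k⁻¹) = k * (r * r * r) * k⁻¹ := by group
      _ = 1 := by rw [← pow_three', A.r_pow]; group
  rw [code_three q h2, A.el_one] at hq
  apply A.r_ne
  show r = 1
  calc r = k⁻¹ * (k * r * k⁻¹) * k := by group
    _ = 1 := by rw [← hq]; group

theorem comm_x20 (A : Dat L) {p : Code} (h : A.el p * A.x 2 0 1 = A.x 2 0 1 * A.el p) :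
    p = cone := by
  by_contra hp
  have hT : ∀ q, A.el q * A.x 0 2 1 = A.x 0 2 1 * A.el q := fun q => cent_x02.2 (A.el_mem q)
  by_cases h2 : cmul p p = cone
  · exact cent_r A (t := A.el p) (fun h => hp (A.el_eq_one.1 h)) (by rw [A.el_mul, h2, A.el_one])
      (hT p) h
  · apply cent_r A (t := A.el (cmul p p)) (fun h => h2 (A.el_eq_one.1 h))
      (by rw [A.el_mul, code_four, A.el_one]) (hT _)
    rw [← A.el_mul, mul_assoc, h, ← mul_assoc, h, mul_assoc]

/-! ### Involutions of `L` -/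

theorem exists_x02 (e : PSL3 ≃* L) {s : L} (hs : s * s = 1) (hs1 : s ≠ 1) :
    ∃ e' : PSL3 ≃* L, (D e').x 0 2 1 = s := by
  obtain ⟨g, hg⟩ := (D e).invol_conj s hs1 hs
  refine ⟨e.trans ((MulAut.conj g)⁻¹ : MulAut L), ?_⟩
  show (MulAut.conj g)⁻¹ ((D e).x 0 2 1) = s
  rw [← hg, MulAut.conj_inv_apply]
  group

theorem cl (e : PSL3 ≃* L) (l : L) (h : MulAut.conj l = 1) : l = 1 := (D e).conj_eq_one h

theorem simp (e : PSL3 ≃* L) : IsSimpleGroup L := by
  have h : IsSimpleGroup PSL3 := S0249.result 3 le_rfl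
  exact MulEquiv.isSimpleGroup e.symm

theorem inn (e : PSL3 ≃* L) (ψ : L →* MulAut L) (l : L) : ∃ l', ψ l = MulAut.conj l' := by
  have hs := simp e
  set φ : L →* TyG := (D e).tyHom.comp ψ with hφ
  rcases hs.eq_bot_or_eq_top_of_normal φ.ker inferInstance with h | h
  · exfalso
    have h1 : Function.Injective φ := (MonoidHom.ker_eq_bot_iff φ).1 h
    have h2 := Nat.card_le_card_of_injective φ h1
    rw [(D e).card, TyG.card_tyG] at h2
    omega
  · rw [← (D e).inner_iff]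
    have h1 : l ∈ φ.ker := by rw [h]; exact mem_top _
    exact MonoidHom.mem_ker.1 h1

theorem cmt (e : PSL3 ≃* L) (s : L) (hs : s * s = 1) (hs1 : s ≠ 1) :
    ∃ a b : L, a * s = s * a ∧ b * s = s * b ∧ s = a * b * a⁻¹ * b⁻¹ := by
  obtain ⟨e', rfl⟩ := exists_x02 e hs hs1
  refine ⟨(D e').el ⟨1, 0, 0⟩, (D e').el ⟨0, 1, 0⟩, cent_x02.2 ((D e').el_mem _),
    cent_x02.2 ((D e').el_mem _), ?_⟩
  have h := (D e').el_comm ⟨1, 0, 0⟩ ⟨0, 1, 0⟩
  rw [commutatorElement_def] at h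
  rw [h]
  rfl

theorem sols (e : PSL3 ≃* L) (s : L) (hs : s * s = 1) (hs1 : s ≠ 1) :
    Group.IsSolvable (centralizer ({MulAut.conj s} : Set (MulAut L))) := by
  obtain ⟨e', rfl⟩ := exists_x02 e hs hs1
  have h1 : centralizer ({MulAut.conj ((D e').x 0 2 1)} : Set (MulAut L)) ≤ (D e').MT := by
    intro β hβ
    rw [mem_centralizer_singleton_iff] at hβ
    rw [mem_MT_iff]
    apply (D e').conj_injective
    rw [conj_map, hβ]
    group
  have h2 := isSolvable_MT (A := D e')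
  exact Group.isSolvable_of_isSolvable_injective (Subgroup.inclusion_injective h1)

theorem eq_of_comm {G : Type*} [Group G] {a b c : G} (h : a * b = b * a * c) (h' : a * c = c * a)
    (h'' : b * c = c * b) : b * a * b⁻¹ * a⁻¹ = c⁻¹ := by
  calc b * a * b⁻¹ * a⁻¹ = (a * b * c⁻¹) * b⁻¹ * a⁻¹ := by rw [h]; group
    _ = a * (b * c⁻¹) * b⁻¹ * a⁻¹ := by group
    _ = a * (c⁻¹ * b) * b⁻¹ * a⁻¹ := by
        rw [show b * c⁻¹ = c⁻¹ * b from (Commute.inv_right (show Commute b c from h'')).eq]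
    _ = (a * c⁻¹) * a⁻¹ := by group
    _ = c⁻¹ := by
        rw [show a * c⁻¹ = c⁻¹ * a from (Commute.inv_right (show Commute a c from h')).eq]
        group

theorem code_a {r : Code} (h : r.b = 0) (h' : r.c = 0) : r = ⟨r.a, 0, 0⟩ := by
  obtain ⟨a, b, c⟩ := r
  simp only at h h'
  rw [h, h']

theorem code_b {r : Code} (h : r.a = 0) (h' : r.c = 0) : r = ⟨0, r.b, 0⟩ := by
  obtain ⟨a, b, c⟩ := r
  simp only at h h'
  rw [h, h']

/-- the core of `p3` -/
theorem p3_core (A : Dat L) {c : F4} (hc0 : c ≠ 0) {j : L} (hjT : j ∈ A.T) (hj : j * j = 1)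
    (hjZ : j ∉ A.Z) : ∃ n p : L, n * j = j * n ∧ p * A.x 0 2 c = A.x 0 2 c * p ∧
      A.x 0 2 1 = p * (n * A.x 0 2 c * n⁻¹ * (A.x 0 2 c)⁻¹) * p⁻¹ *
        (n * A.x 0 2 c * n⁻¹ * (A.x 0 2 c)⁻¹)⁻¹ := by
  obtain ⟨⟨a, b, c'⟩, rfl⟩ := hjT
  have hsq := el_sq hj
  have hne : ¬ (⟨a, b, c'⟩ : Code) = cone := by
    intro h
    apply hjZ
    rw [h, A.el_one]; exact one_mem _
  obtain ⟨a', b', hr⟩ := inv_inner' a b c' (inv_inner a b c' hsq) hne
  set t := A.el ⟨a', b', 0⟩ with ht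
  set r := cmul (cmul ⟨a', b', 0⟩ ⟨a, b, c'⟩) (cinv ⟨a', b', 0⟩) with hrd
  have hjr : A.el ⟨a, b, c'⟩ = t⁻¹ * A.el r * t := by
    rw [hrd, ← A.el_mul, ← A.el_mul, ← A.el_inv, ← ht]; group
  have htc : t * A.x 0 2 c = A.x 0 2 c * t := (cent_x02_any hc0).2 (A.el_mem _)
  -- a root element `y` commuting with `el r`, with commutator in `T`
  have key : ∃ (y : L) (w : Code), y * A.el r = A.el r * y ∧
      y * A.x 0 2 c * y⁻¹ * (A.x 0 2 c)⁻¹ = A.el w ∧ (w.a ≠ 0 ∨ w.b ≠ 0) := by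
    rcases hr with hr | hr | hr
    · exfalso
      apply hjZ
      have h1 : A.el r ∈ A.Z := A.el_mem_Z.2 hr
      rw [hjr]
      have h2 : t⁻¹ * A.el r * t = A.el r := by
        have h3 : A.el r * t = t * A.el r := Z_comm h1 (A.el_mem ⟨a', b', 0⟩)
        rw [mul_assoc, h3]; group
      rw [h2]; exact h1
    · refine ⟨A.x 2 1 1, ⟨c, 0, 0⟩, ?_, ?_, Or.inl hc0⟩
      · have h1 : r = ⟨r.a, 0, 0⟩ := code_a hr.1 hr.2
        rw [h1, A.el_x01]
        exact A.x_col 2 1 0 (by decide) (by decide) 1 _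
      · have h1 := A.x_sum 0 1 2 (by decide) (by decide) (by decide) c 1
        rw [mul_one] at h1
        rw [eq_of_comm h1 (A.x_row 0 2 1 (by decide) (by decide) _ _)
          (A.x_col 2 1 0 (by decide) (by decide) _ _), A.x_inv 0 1 (by decide), A.el_x01]
    · refine ⟨A.x 1 0 1, ⟨0, c, 0⟩, ?_, ?_, Or.inr hc0⟩
      · have h1 : r = ⟨0, r.b, 0⟩ := code_b hr.1 hr.2
        rw [h1, A.el_x12]
        exact A.x_row 1 0 2 (by decide) (by decide) 1 _
      · have h1 := A.x_sum 1 2 0 (by decide) (by decide) (by decide) 1 c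
        rw [one_mul] at h1
        have h2 := A.x_row 1 0 2 (by decide) (by decide) 1 c
        have h3 := A.x_col 0 2 1 (by decide) (by decide) c c
        -- `y x y⁻¹ x⁻¹` from `y x = x y w`
        rw [h1]
        calc A.x 0 2 c * A.x 1 0 1 * A.x 1 2 c * (A.x 1 0 1)⁻¹ * (A.x 0 2 c)⁻¹
            = A.x 0 2 c * (A.x 1 0 1 * A.x 1 2 c) * (A.x 1 0 1)⁻¹ * (A.x 0 2 c)⁻¹ := by group
          _ = (A.x 0 2 c * A.x 1 2 c) * (A.x 0 2 c)⁻¹ := by rw [h2]; group
          _ = A.el ⟨0, c, 0⟩ := by rw [h3, A.el_x12]; group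
  obtain ⟨y, w, hy1, hy2, hw⟩ := key
  -- the element `p`
  have hp : ∃ q : Code, q.a * w.b + q.b * w.a = 1 := by
    have k : ∀ u v : F4, u ≠ 0 ∨ v ≠ 0 → ∃ a b : F4, a * v + b * u = 1 := by decide
    obtain ⟨a, b, h⟩ := k w.a w.b hw
    exact ⟨⟨a, b, 0⟩, h⟩
  obtain ⟨q, hq⟩ := hp
  have hqc : t⁻¹ * A.el q * t * A.x 0 2 c = A.x 0 2 c * (t⁻¹ * A.el q * t) :=
    (cent_x02_any hc0).2 (mul_mem (mul_mem (inv_mem (A.el_mem _)) (A.el_mem _)) (A.el_mem _))
  refine ⟨t⁻¹ * y * t, t⁻¹ * A.el q * t, ?_, hqc, ?_⟩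
  · rw [hjr]
    calc t⁻¹ * y * t * (t⁻¹ * A.el r * t) = t⁻¹ * (y * A.el r) * t := by group
      _ = t⁻¹ * A.el r * t * (t⁻¹ * y * t) := by rw [hy1]; group
  · have h1 : t⁻¹ * y * t * A.x 0 2 c * (t⁻¹ * y * t)⁻¹ * (A.x 0 2 c)⁻¹ = t⁻¹ * A.el w * t := by
      have h2 : t * A.x 0 2 c * t⁻¹ = A.x 0 2 c := by rw [htc]; group
      calc t⁻¹ * y * t * A.x 0 2 c * (t⁻¹ * y * t)⁻¹ * (A.x 0 2 c)⁻¹
          = t⁻¹ * (y * (t * A.x 0 2 c * t⁻¹) * y⁻¹ * (t * A.x 0 2 c * t⁻¹)⁻¹) * t := by group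
        _ = t⁻¹ * A.el w * t := by rw [h2, hy2]
    rw [h1]
    have h3 := A.el_comm q w
    rw [hq, commutatorElement_def] at h3
    have h4 : t⁻¹ * A.x 0 2 1 * t = A.x 0 2 1 := by
      have h5 : A.x 0 2 1 * t = t * A.x 0 2 1 := (cent_x02.2 (A.el_mem _)).symm
      rw [mul_assoc, h5]; group
    calc A.x 0 2 1 = t⁻¹ * (A.el q * A.el w * (A.el q)⁻¹ * (A.el w)⁻¹) * t := by rw [h3, h4]
      _ = _ := by group

theorem p3 (e : PSL3 ≃* L) (s i j : L) (hs : s * s = 1) (hs1 : s ≠ 1) (hi : i * i = 1)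
    (hi1 : i ≠ 1) (hj : j * j = 1) (hj1 : j ≠ 1) (hC : ∀ p, p * s = s * p → p * i = i * p)
    (his : i ≠ s) (hjs : j * s = s * j) (hji : j * i = i * j) (h1 : j ≠ i) (h2 : j ≠ s)
    (h3 : j ≠ i * s) : ∃ n p : L, n * j = j * n ∧ p * i = i * p ∧
      s = p * (n * i * n⁻¹ * i⁻¹) * p⁻¹ * (n * i * n⁻¹ * i⁻¹)⁻¹ := by
  obtain ⟨e', rfl⟩ := exists_x02 e hs hs1
  set A := D e' with hA
  obtain ⟨⟨a, b, c⟩, rfl⟩ := cent_x02.1 (hC _ rfl).symm
  have k1 := hC (A.el ⟨1, 0, 0⟩) (cent_x02.2 (A.el_mem _))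
  have k2 := hC (A.el ⟨0, 1, 0⟩) (cent_x02.2 (A.el_mem _))
  rw [A.el_mul, A.el_mul] at k1 k2
  obtain ⟨h4, h5⟩ := comm_aux a b c (A.inj k1).symm (A.inj k2).symm
  subst h4 h5
  rw [A.el_x02] at *
  have hc0 : c ≠ 0 := by
    rintro rfl
    exact hi1 (A.x_zero 0 2 (by decide))
  have hc1 : c ≠ 1 := by
    rintro rfl
    exact his rfl
  apply p3_core A hc0 (cent_x02.1 hjs) hj
  rintro ⟨d, rfl⟩
  have hd : ∀ c d : F4, c ≠ 0 → c ≠ 1 → d = 0 ∨ d = c ∨ d = 1 ∨ d = c + 1 := by decide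
  rcases hd c d hc0 hc1 with rfl | rfl | rfl | rfl
  · exact hj1 (A.x_zero 0 2 (by decide))
  · exact h1 rfl
  · exact h2 rfl
  · exact h3 (A.x_add 0 2 (by decide) _ _).symm

theorem p4 (e : PSL3 ≃* L) (s : L) (hs : s * s = 1) (hs1 : s ≠ 1) (p q r : L) (hp : p * s = s * p)
    (hq : q * s = s * q) (hr : r * s = s * r) :
    (p * q * p⁻¹ * q⁻¹) * r = r * (p * q * p⁻¹ * q⁻¹) := by
  obtain ⟨e', rfl⟩ := exists_x02 e hs hs1
  exact Z_comm (comm_mem_Z (cent_x02.1 hp) (cent_x02.1 hq)) (cent_x02.1 hr)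

theorem p4' (e : PSL3 ≃* L) (s : L) (hs : s * s = 1) (hs1 : s ≠ 1) (p : L) (hp : p * s = s * p)
    (h : ∀ r, r * s = s * r → r * p = p * r) : p * p = 1 := by
  obtain ⟨e', rfl⟩ := exists_x02 e hs hs1
  obtain ⟨⟨a, b, c⟩, rfl⟩ := cent_x02.1 hp
  have h1 := h ((D e').el ⟨1, 0, 0⟩) (cent_x02.2 ((D e').el_mem _))
  have h2 := h ((D e').el ⟨0, 1, 0⟩) (cent_x02.2 ((D e').el_mem _))
  rw [(D e').el_mul, (D e').el_mul] at h1 h2
  obtain ⟨h3, h4⟩ := comm_aux a b c ((D e').inj h1).symm ((D e').inj h2).symm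
  subst h3 h4
  rw [(D e').el_x02, (D e').x_sq 0 2 (by decide)]

/-! ### The polarity -/

theorem pure1 (e : PSL3 ≃* L) {α : MulAut L} (h2 : α * α = 1) {b1 b2 : Bool}
    (hb : bits ((D e).tyHom α) = (b1, b2)) (hne : (b1, b2) ≠ (false, false)) :
    ∃ e' : PSL3 ≃* L, (D e').IsTau (b1, b2, 0) α := by
  have hQ : IsPGroup 2 (closure ({α} : Set (MulAut L))) := by
    apply two_closure
    · rintro a rfl; exact h2
    · rintro a rfl b rfl; rfl
  obtain ⟨e', h, _⟩ := pl e _ hQ (subset_closure rfl) h2 hb hne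
  exact ⟨e', h⟩

/-- Boolean characters -/
def z2u : Multiplicative (ZMod 2) →* ℤˣ where
  toFun a := if a = 1 then 1 else -1
  map_one' := by decide
  map_mul' := by decide

/-- the field character -/
noncomputable def chF (e : PSL3 ≃* L) : MulAut L →* ℤˣ :=
  z2u.comp ((MonoidHom.fst _ _).comp (bitsHom.comp (D e).tyHom))

/-- the graph character -/
noncomputable def chG (e : PSL3 ≃* L) : MulAut L →* ℤˣ :=
  z2u.comp ((MonoidHom.snd _ _).comp (bitsHom.comp (D e).tyHom))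

theorem z2u_fst : ∀ g : TyG, z2u (bitsHom g).1 = if (bits g).1 then -1 else 1 := by decide +kernel

theorem z2u_snd : ∀ g : TyG, z2u (bitsHom g).2 = if (bits g).2 then -1 else 1 := by decide +kernel

theorem chF_eq (e : PSL3 ≃* L) (α : MulAut L) :
    chF e α = if (bits ((D e).tyHom α)).1 then -1 else 1 := z2u_fst _

theorem chG_eq (e : PSL3 ≃* L) (α : MulAut L) :
    chG e α = if (bits ((D e).tyHom α)).2 then -1 else 1 := z2u_snd _

section

variable (e : PSL3 ≃* L) {x : MulAut L} (hx : x * x = 1)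
  (hb : bits ((D e).tyHom x) = (true, true))

include hb in
theorem chi0 : ∃ χ : MulAut L →* ℤˣ, χ x = -1 := ⟨chF e, by rw [chF_eq, hb]; rfl⟩

include hx hb in
theorem chi1 : ∃ χ : MulAut L →* ℤˣ, χ x = 1 ∧ ∀ a, Wild x a → χ a = -1 := by
  refine ⟨chF e * chG e, ?_, ?_⟩
  · rw [MonoidHom.mul_apply, chF_eq, chG_eq, hb]; rfl
  · intro a ha
    rw [MonoidHom.mul_apply, chF_eq, chG_eq]
    rcases wild_bits e hx hb ha with h | h
    · rw [h]; rfl
    · rw [h]; rfl

include hx hb in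
theorem xconj (l : L) (h : (x * MulAut.conj l) * (x * MulAut.conj l) = 1) :
    ∃ m, MulAut.conj m * (x * MulAut.conj l) * (MulAut.conj m)⁻¹ = x := by
  obtain ⟨e', he⟩ := pure1 e hx hb (by decide)
  have h1 : (D e').HasTy (x * MulAut.conj l) (true, true, 0) := by
    have h2 := he.hasTy.mul ((D e').hasTy_conj l)
    rwa [Ty.mul_one] at h2
  have hQ : IsPGroup 2 (closure ({x * MulAut.conj l} : Set (MulAut L))) := by
    apply two_closure
    · rintro a rfl; exact h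
    · rintro a rfl b rfl; rfl
  obtain ⟨m, hm, _⟩ := exists_conj_pure (A := D e') _ hQ (subset_closure rfl) h (by decide) h1
  exact ⟨m, hm.ext he⟩

include hx hb in
theorem comm (s s' : L) (hs : s * s = 1) (hs' : s' * s' = 1) (hs1 : s ≠ 1) (hs1' : s' ≠ 1)
    (hxs : x s = s) (hxs' : x s' = s') (hc : s * s' = s' * s) : s = s' := by
  obtain ⟨e', h1, rfl⟩ := plx' e hx hb hs hs1 hxs
  obtain ⟨p, rfl⟩ := cent_x02.1 hc.symm
  have k1 : ctau (true, true, 0) p = p := (D e').inj (by rw [← h1.el, hxs'])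
  rcases fx_tt p k1 (el_sq hs') with h3 | h3
  · exfalso
    apply hs1'
    rw [h3]; exact (D e').el_one
  · rw [h3, (D e').el_x02]

include hx hb in
theorem p5 (s i : L) (hs : s * s = 1) (hs1 : s ≠ 1) (hxs : x s = s) (hi : i * i = 1)
    (his : i * s = s * i) (hp : ∃ p, p * s = s * p ∧ p * i ≠ i * p) : i * x i ≠ x i * i := by
  obtain ⟨e', h1, rfl⟩ := plx' e hx hb hs hs1 hxs
  obtain ⟨q, rfl⟩ := cent_x02.1 his
  have h2 := el_sq hi
  rw [h1.el]
  intro h3
  rw [(D e').el_mul, (D e').el_mul] at h3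
  have k : ∀ q : Code, cmul q q = cone → cmul q (ctau (true, true, 0) q) =
      cmul (ctau (true, true, 0) q) q → q.a = 0 ∧ q.b = 0 := by decide +kernel
  have h4 := k q h2 ((D e').inj h3)
  have h5 : (D e').el q ∈ (D e').Z := (D e').el_mem_Z.2 h4
  obtain ⟨p, hp1, hp2⟩ := hp
  exact hp2 (Z_comm h5 (cent_x02.1 hp1)).symm

theorem fix_symm {M : Type*} [Group M] (f : L ≃* M) (β : MulAut L) {m : M} :
    tr f β m = m ↔ β (f.symm m) = f.symm m := by
  rw [tr_apply, ← f.eq_symm_apply]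

/-- fixed points of a transported automorphism -/
noncomputable def fxEquiv {M : Type*} [Group M] (f : L ≃* M) (β : MulAut L) :
    fx (tr f β) ≃* fx β where
  toFun y := ⟨f.symm y.1, (fix_symm f β).1 y.2⟩
  invFun y := ⟨f y.1, by rw [mem_fx, tr_e]; exact congrArg f y.2⟩
  left_inv y := Subtype.ext (f.apply_symm_apply _)
  right_inv y := Subtype.ext (f.symm_apply_apply _)
  map_mul' y z := Subtype.ext (map_mul f.symm _ _)

include hx hb in
theorem three (y z : L) (hy : y ^ 3 = 1) (hxy : x y = y) (hz : z ^ 3 = 1) (hxz : x z = z) :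
    (y * z) ^ 3 = 1 := by
  obtain ⟨e', he⟩ := pure1 e hx hb (by decide)
  have h1 := eq_tr e' isTau_x0 he
  rw [h1, fix_symm] at hxy hxz
  have h2 := three0 (y := e'.symm y) (z := e'.symm z) (by rw [← map_pow, hy, map_one]) hxy
    (by rw [← map_pow, hz, map_one]) hxz
  rw [← map_mul, ← map_pow] at h2
  apply e'.symm.injective
  rw [h2, map_one]

include hx hb in
theorem irr (y z : L) (hy : y ^ 3 = 1) (hy1 : y ≠ 1) (hxy : x y = y) (hz : z ^ 3 = 1)
    (hxz : x z = z) : z ∈ closure {w | ∃ r, x r = r ∧ w = r * y * r⁻¹} := by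
  obtain ⟨e', he⟩ := pure1 e hx hb (by decide)
  have h1 := eq_tr e' isTau_x0 he
  rw [h1, fix_symm] at hxy hxz
  have h2 := irr0 (y := e'.symm y) (z := e'.symm z) (by rw [← map_pow, hy, map_one])
    (fun h => hy1 (e'.symm.injective (by rw [h, map_one]))) hxy
    (by rw [← map_pow, hz, map_one]) hxz
  rcases h2 with h2 | ⟨r, hr, hzr⟩
  · have h3 : z = 1 := e'.symm.injective (by rw [h2, map_one])
    rw [h3]; exact one_mem _
  · apply Subgroup.subset_closure
    refine ⟨e' r, ?_, ?_⟩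
    · rw [h1, tr_e, hr]
    · apply e'.symm.injective
      rw [hzr, map_mul, map_mul, map_inv, e'.symm_apply_apply]

include hx hb in
theorem solfx : Group.IsSolvable (fx x) := by
  obtain ⟨e', he⟩ := pure1 e hx hb (by decide)
  rw [eq_tr e' isTau_x0 he]
  have := solv0
  exact Group.isSolvable_of_isSolvable_injective (f := (fxEquiv e' x0).toMonoidHom)
    (fxEquiv e' x0).injective

include hx hb in
theorem solx : Group.IsSolvable (centralizer ({x} : Set (MulAut L))) := by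
  have h1 := solfx e hx hb
  have h2 := TyG.isSolvable
  have hm : ∀ l : fx x, MulAut.conj (l : L) ∈ centralizer ({x} : Set (MulAut L)) := by
    intro l
    rw [mem_centralizer_singleton_iff]
    exact (conj_comm l.2).symm
  let f : fx x →* centralizer ({x} : Set (MulAut L)) :=
    ((MulAut.conj : L →* MulAut L).comp (fx x).subtype).codRestrict _ hm
  let g : centralizer ({x} : Set (MulAut L)) →* TyG := (D e).tyHom.comp (Subgroup.subtype _)
  refine Group.isSolvable_of_ker_le_range f g ?_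
  rintro ⟨β, hβ⟩ hk
  obtain ⟨l, rfl⟩ := (D e).inner_iff.1 (MonoidHom.mem_ker.1 hk)
  have h3 : x l = l := by
    apply (D e).conj_injective
    rw [conj_map, ← mem_centralizer_singleton_iff.1 hβ]
    group
  exact ⟨⟨l, h3⟩, Subtype.ext rfl⟩

/-! ### Wild automorphisms -/

include hx hb in
theorem wpure {a : MulAut L} (ha : Wild x a) :
    ∃ e' : PSL3 ≃* L, (D e').IsTau (true, false, 0) a ∨ (D e').IsTau (false, true, 0) a := by
  rcases wild_bits e hx hb ha with h | h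
  · obtain ⟨e', h1⟩ := pure1 e ha.sq h (by decide)
    exact ⟨e', Or.inl h1⟩
  · obtain ⟨e', h1⟩ := pure1 e ha.sq h (by decide)
    exact ⟨e', Or.inr h1⟩

include hx hb in
theorem wsimp (a : MulAut L) (ha : Wild x a) : IsSimpleGroup (fx a) := by
  obtain ⟨e', h | h⟩ := wpure e hx hb ha
  · rw [eq_tr e' isTau_f0 h]
    have := simple_f0
    exact MulEquiv.isSimpleGroup (fxEquiv e' f0)
  · rw [eq_tr e' isTau_g0 h]
    have := simple_g0
    exact MulEquiv.isSimpleGroup (fxEquiv e' g0)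

theorem fx_x02 {A : Dat L} {τ : Ty} {a : MulAut L} (h : A.IsTau τ a) : A.x 0 2 1 ∈ fx a :=
  x02_one A h

theorem fx_x20 {A : Dat L} {τ : Ty} {a : MulAut L} (h : A.IsTau τ a) : A.x 2 0 1 ∈ fx a :=
  x20_one A h

theorem x02_ne (A : Dat L) : A.x 0 2 1 ≠ 1 := by
  rw [← A.el_x02, Ne, A.el_eq_one]
  decide

theorem x02_x20 (A : Dat L) : A.x 0 2 1 * A.x 2 0 1 ≠ A.x 2 0 1 * A.x 0 2 1 := by
  intro h
  rw [← A.el_x02] at h
  exact absurd (comm_x20 A h) (by decide)

include hx hb in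
theorem wperf (a : MulAut L) (ha : Wild x a) : commutator (fx a) = ⊤ := by
  have hs := wsimp e hx hb a ha
  obtain ⟨e', h⟩ := wpure e hx hb ha
  have h02 : (D e').x 0 2 1 ∈ fx a := h.elim fx_x02 fx_x02
  have h20 : (D e').x 2 0 1 ∈ fx a := h.elim fx_x20 fx_x20
  rcases hs.eq_bot_or_eq_top_of_normal (commutator (fx a)) inferInstance with h1 | h1
  · exfalso
    have h2 : ⁅(⟨_, h02⟩ : fx a), (⟨_, h20⟩ : fx a)⁆ ∈ commutator (fx a) := by
      rw [commutator_def]
      exact commutator_mem_commutator (mem_top _) (mem_top _)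
    rw [h1, mem_bot, commutatorElement_eq_one_iff_mul_comm] at h2
    exact x02_x20 (D e') (congrArg Subtype.val h2)
  · exact h1

include hx hb in
theorem weven (a : MulAut L) (ha : Wild x a) : 2 ∣ Nat.card (fx a) := by
  obtain ⟨e', h⟩ := wpure e hx hb ha
  have h02 : (D e').x 0 2 1 ∈ fx a := h.elim fx_x02 fx_x02
  have h1 : orderOf (⟨_, h02⟩ : fx a) = 2 := by
    apply orderOf_eq_prime
    · apply Subtype.ext
      show (D e').x 0 2 1 ^ 2 = 1
      rw [pow_two, (D e').x_sq 0 2 (by decide)]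
    · intro h1
      exact x02_ne (D e') (congrArg Subtype.val h1)
  rw [← h1]
  exact orderOf_dvd_natCard _

include hx hb in
theorem wgen (a : MulAut L) (ha : Wild x a) (i : L) (hi : i * i = 1) (hi1 : i ≠ 1) (hai : a i = i) :
    fx a ⊔ centralizer ({i} : Set L) = ⊤ := by
  obtain ⟨e', h, c, hc, rfl⟩ := pla e ha.sq (wild_bits e hx hb ha) hi hi1 hai
  have h20 : (D e').x 2 0 1 ∈ fx a := h.elim fx_x20 fx_x20
  apply gen_T (D e')
  · intro l hl
    apply (le_sup_right : _ ≤ fx a ⊔ centralizer ({(D e').x 0 2 c} : Set L))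
    rw [mem_centralizer_singleton_iff]
    exact (cent_x02_any hc).2 hl
  · exact (le_sup_left : fx a ≤ _) h20

theorem pure_of_fix {A : Dat L} {b : MulAut L} (h1 : b (A.x 0 2 1) = A.x 0 2 1)
    (h2 : b (A.x 2 0 1) = A.x 2 0 1) : ∃ τ, A.IsTau τ b := by
  obtain ⟨p, τ, hp⟩ := A.exists_cd h1
  refine ⟨τ, ?_⟩
  have h3 := x20_one A hp
  rw [MulAut.mul_apply, h2, MulAut.conj_apply, mul_inv_eq_iff_eq_mul] at h3
  rw [comm_x20 A h3] at hp
  exact hp.cone

theorem fx_one {A : Dat L} {a : MulAut L} (h : A.IsTau (true, false, 0) a) {i j : Fin 3}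
    (hij : i ≠ j) : A.x i j 1 ∈ fx a := by
  show a (A.x i j 1) = A.x i j 1
  rw [h i j hij]
  have : ∀ k l, pu (true, false, 0) k l 1 = 1 := by decide
  show A.x i j (pu (true, false, 0) i j 1) = _
  rw [this]

theorem fx_u {A : Dat L} {a : MulAut L} (h : A.IsTau (false, true, 0) a) (u : F4) :
    A.x 0 2 u ∈ fx a := by
  show a (A.x 0 2 u) = A.x 0 2 u
  rw [h.x02]; rfl

include hb in
theorem pair_x {a b : MulAut L} (ha : Wild x a) (hb' : Wild x b) (hab : a * b = b * a)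
    (h : ∃ l, a * b = x * MulAut.conj l) :
    (a * b) * (a * b) = 1 ∧ bits ((D e).tyHom (a * b)) = (true, true) := by
  constructor
  · calc (a * b) * (a * b) = a * (b * a) * b := by group
      _ = (a * a) * (b * b) := by rw [← hab]; group
      _ = 1 := by rw [ha.sq, hb'.sq, one_mul]
  · obtain ⟨l, hl⟩ := h
    rw [hl, map_mul, (D e).tyHom_conj, mul_one, hb]

include hx hb in
theorem wpair (a b : MulAut L) (ha : Wild x a) (hb' : Wild x b) (hab : a * b = b * a)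
    (h : ∃ l, a * b = x * MulAut.conj l) : fx a ⊔ fx b = ⊤ := by
  obtain ⟨h1, h2⟩ := pair_x e hb ha hb' hab h
  obtain ⟨e', h3, h4⟩ := pl2' e h1 h2 ha.sq (wild_bits e hx hb ha) (by
    rw [hab, ← mul_assoc, hab])
  have hbe : a * (a * b) = b := by rw [← mul_assoc, ha.sq, one_mul]
  rcases h4 with h4 | h4
  · have h5 := h4.mul h3
    rw [hbe] at h5
    have h6 : (D e').IsTau (false, true, 0) b := h5
    exact gen_pair (D e') (fun i j hij => (le_sup_left : fx a ≤ _) (fx_one h4 hij))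
      (fun u => (le_sup_right : fx b ≤ fx a ⊔ fx b) (fx_u h6 u))
  · have h5 := h4.mul h3
    rw [hbe] at h5
    have h6 : (D e').IsTau (true, false, 0) b := h5
    exact gen_pair (D e') (fun i j hij => (le_sup_right : fx b ≤ fx a ⊔ fx b) (fx_one h6 hij))
      (fun u => (le_sup_left : fx a ≤ _) (fx_u h4 u))

include hx hb in
theorem wthree (a : MulAut L) (ha : Wild x a) (hax : a * x = x * a) :
    ∃ y : L, y ^ 3 = 1 ∧ y ≠ 1 ∧ a y = y ∧ x y = y := by
  obtain ⟨e', h3, h4⟩ := pl2' e hx hb ha.sq (wild_bits e hx hb ha) hax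
  refine ⟨(D e').x 0 2 1 * (D e').x 2 0 1, (D e').r_pow, (D e').r_ne, ?_, ?_⟩
  · rw [map_mul]
    rcases h4 with h4 | h4
    · rw [x02_one _ h4, x20_one _ h4]
    · rw [x02_one _ h4, x20_one _ h4]
  · rw [map_mul, x02_one _ h3, x20_one _ h3]

end

end Cfsg.Agent.UGT.FL34
end

-- part: UGT/ThEL34/Facts2
section
/-!
# Facts on `L₃(4)` used by Theorem E, second part (they replace Theorem H)
-/

set_option autoImplicit false

open Subgroup

namespace Cfsg.Agent.UGT.ThEL34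

variable {L : Type*} [Group L]

/-- All facts on `L₃(4)`. -/
structure Facts2 (x : MulAut L) : Prop extends Facts x where
  /-- the Sylow 2-subgroups of `Out L` are elementary abelian -/
  out4 : ∀ b : MulAut L, b ^ 4 = 1 → ∃ l, b * b = MulAut.conj l
  /-- the involutions of `3² : Q₈` are squares -/
  sq4 : ∀ s : L, s * s = 1 → s ≠ 1 → x s = s → ∃ r, x r = r ∧ r * r = s
  /-- `⟨O(C_L(x)), C_L(s)⟩ = L` for the involutions `s` of `C_L(x)` -/
  yp : ∀ s : L, s * s = 1 → s ≠ 1 → x s = s →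
    closure {y | y ^ 3 = 1 ∧ x y = y} ⊔ centralizer ({s} : Set L) = ⊤
  /-- a wild automorphism commuting with `x` acts as a reflection on `O(C_L(x)) = 3²` -/
  wone : ∀ a, Wild x a → a * x = x * a → ∀ y z : L, y ^ 3 = 1 → x y = y → a y = y →
    z ^ 3 = 1 → x z = z → a z = z → y = 1 ∨ z = 1 ∨ y = z ∨ y = z⁻¹

end Cfsg.Agent.UGT.ThEL34
end

-- part: UGT/FL34/Extra
section
/-!
# Further facts on `L₃(4)`
-/

set_option autoImplicit false
set_option linter.constructorNameAsVariable false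
set_option linter.unusedVariables false

namespace Cfsg.Agent.UGT.FL34

open Subgroup Matrix
open Cfsg.Agent.SporadicA.FieldFour
open Cfsg.Agent.LThreeFour Cfsg.Agent.LThreeFour.Dat
open Cfsg.Agent.ONType.Psl (PSL3 SL3 T tm t kap)
open Cfsg.Agent.ClassicalGeometry.AutPSL.Root
open Cfsg.Agent.ClassicalGeometry.AutPSL.Auto
open Cfsg.Agent.UGT.ThEL34 (fx mem_fx Wild Facts Facts2)
open scoped commutatorElement

/-! ### Computations in `SU(3,2)` -/

/-- the matrix of `x₀₂(1) x₂₀(1)` -/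
def R1 : M3 := ⟨.z, .z, .o, .z, .o, .z, .o, .z, .o⟩

/-- another element of order 3 -/
def R2 : M3 := ⟨.o, .o, .w, .o, .z, .v, .v, .w, .o⟩

theorem R1_unit : R1.unit = true := by decide +kernel

theorem R2_unit : R2.unit = true := by decide +kernel

theorem indep_chk : (M3.cube R1).isSc = true ∧ (M3.cube R2).isSc = true ∧ R1.isSc = false ∧
    R2.isSc = false ∧ (M3.mul (M3.mul R1 R2) R2).isSc = false ∧ (M3.mul R1 R2).isSc = false := by
  decide +kernel

/-- entrywise Frobenius -/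
def frM (m : M3) : M3 :=
  ⟨sqr m.a, sqr m.b, sqr m.c, sqr m.d, sqr m.e, sqr m.f, sqr m.g, sqr m.h, sqr m.i⟩

theorem frM_toM (m : M3) (i j : Fin 3) : (frM m).toM i j = frob (m.toM i j) := by
  fin_cases i <;> fin_cases j <;> exact sqr_eq _

/-- the elements of `Y27` fixed by the Frobenius up to scalars -/
def wone_chk : Bool := allL (fun m => !(sim m (frM m)) ||
  (m.isSc || (sim m R1 || sim m (M3.mul R1 R1)))) Y27

set_option maxRecDepth 100000 in
theorem wone_chk_eq : wone_chk = true := by decide +kernel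

theorem mem_sim {m n : M3} (h : sim m n = true) : ∃ c : F4, m = M3.smul c n := by
  unfold sim at h
  have h7 := mem_of_memb h
  simp only [List.mem_cons, List.not_mem_nil, or_false] at h7
  rcases h7 with h7 | h7 | h7
  · refine ⟨1, ?_⟩
    rw [h7]
    have k : ∀ u : F4, F4.mul 1 u = u := by decide
    unfold M3.smul
    simp only [k]
  · exact ⟨_, h7⟩
  · exact ⟨_, h7⟩

theorem memb_of_eq {m : M3} {l : List M3} (h : m ∈ l) : memb m l = true := by
  induction l with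
  | nil => exact absurd h List.not_mem_nil
  | cons y l ih =>
    unfold memb
    rw [Bool.or_eq_true]
    rcases List.mem_cons.1 h with rfl | h
    · left
      simp only [Bool.and_eq_true, eqb_iff, and_self]
    · exact Or.inr (ih h)

theorem sim_of_smul {m n : M3} {c : F4} (hc : c ≠ 0) (h : m = M3.smul c n) : sim m n = true := by
  apply memb_of_eq
  cases c
  · exact absurd rfl hc
  · have k : ∀ u : F4, F4.mul F4.o u = u := by decide
    rw [h]
    unfold M3.smul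
    simp only [k]
    exact List.mem_cons_self
  · rw [h]; exact List.mem_cons_of_mem _ List.mem_cons_self
  · rw [h]; exact List.mem_cons_of_mem _ (List.mem_cons_of_mem _ List.mem_cons_self)

theorem toM_inj {m n : M3} (h : m.toM = n.toM) : m = n := by
  have h1 := congrArg M3.ofM h
  rwa [M3.ofM_toM, M3.ofM_toM] at h1

/-- `r = x₀₂(1) x₂₀(1)` -/
noncomputable def r0 : PSL3 := pr (sl R1 (unit_det R1_unit))

theorem r0_eq : r0 = t 0 2 1 * t 2 0 1 := by
  show pr _ = pr (T 0 2 1) * pr (T 2 0 1)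
  rw [← map_mul]
  unfold sl
  congr 1
  apply Subtype.ext
  show R1.toM = tm 0 2 1 * tm 2 0 1
  ext i j
  rw [Matrix.mul_apply, Fin.sum_univ_three]
  fin_cases i <;> fin_cases j <;> rfl

theorem fix_both {y : PSL3} (hy : y ^ 3 = 1) (hx : x0 y = y) (hf : f0 y = y) :
    y = 1 ∨ y = r0 ∨ y = r0 * r0 := by
  obtain ⟨m, hm, rfl⟩ := fix_x0_le hx
  have h1 := cube_memb hm ((pow_three_iff rfl).1 hy)
  have h2 : pr (fld frob (sl m (unit_det hm))) = pr (sl m (unit_det hm)) := hf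
  obtain ⟨c, hc⟩ := exists_smul_of_pr_eq h2
  have h3 : m = M3.smul c (frM m) := by
    apply toM_inj
    rw [M3.toM_smul]
    ext i j
    have h4 := congrFun (congrFun hc i) j
    rw [Matrix.smul_apply, frM_toM]
    exact h4
  have hc0 : c ≠ 0 := by
    rintro rfl
    have h5 : (sl m (unit_det hm)).1.det = 1 := (sl m (unit_det hm)).2
    rw [hc, zero_smul, Matrix.det_zero] at h5
    exact zero_ne_one h5
  have h6 := wone_chk_eq
  unfold wone_chk at h6
  have h7 := allL_iff h6 m (mem_of_memb h1)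
  rw [sim_of_smul hc0 h3, Bool.not_true, Bool.false_or, Bool.or_eq_true, Bool.or_eq_true] at h7
  rcases h7 with h7 | h7 | h7
  · exact Or.inl ((pr_one_iff (M := sl m (unit_det hm)) rfl).2 h7)
  · right; left
    obtain ⟨d, hd⟩ := mem_sim h7
    symm
    apply pr_eq_of_smul (c := d)
    show m.toM = d • R1.toM
    rw [← M3.toM_smul, ← hd]
  · right; right
    obtain ⟨d, hd⟩ := mem_sim h7
    unfold r0
    rw [← map_mul]
    symm
    apply pr_eq_of_smul (c := d)
    show m.toM = d • (R1.toM * R1.toM)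
    rw [← M3.toM_mul, ← M3.toM_smul, ← hd]

theorem indep0 : ∃ y z : PSL3, y ^ 3 = 1 ∧ x0 y = y ∧ z ^ 3 = 1 ∧ x0 z = z ∧ y ≠ 1 ∧ z ≠ 1 ∧ y ≠ z ∧
    y ≠ z⁻¹ := by
  obtain ⟨h1, h2, h3, h4, h5, h6⟩ := indep_chk
  set Y := sl R1 (unit_det R1_unit) with hY
  set Z := sl R2 (unit_det R2_unit) with hZ
  have e3 : pr Z ^ 3 = 1 := (pow_three_iff rfl).2 h2
  refine ⟨pr Y, pr Z, (pow_three_iff rfl).2 h1, fix_x0_mem R1_unit, e3, fix_x0_mem R2_unit, ?_, ?_,
    ?_, ?_⟩
  · intro h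
    have := (pr_one_iff (M := Y) rfl).1 h
    rw [h3] at this
    exact absurd this (by decide)
  · intro h
    have := (pr_one_iff (M := Z) rfl).1 h
    rw [h4] at this
    exact absurd this (by decide)
  · intro h
    have h7 : pr (Y * Z * Z) = 1 := by
      rw [map_mul, map_mul, h, ← pow_three', e3]
    have h8 := (pr_one_iff (M := Y * Z * Z) (m := M3.mul (M3.mul R1 R2) R2) (by
      rw [M3.toM_mul, M3.toM_mul]; rfl)).1 h7
    rw [h5] at h8
    exact absurd h8 (by decide)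
  · intro h
    have h7 : pr (Y * Z) = 1 := by rw [map_mul, h, inv_mul_cancel]
    have h8 := (pr_one_iff (M := Y * Z) (m := M3.mul R1 R2) (by
      rw [M3.toM_mul]; rfl)).1 h7
    rw [h6] at h8
    exact absurd h8 (by decide)

/-! ### Transport -/

variable {L : Type*} [Group L]

theorem ty_three : ∀ g h : TyG, g * g * g = 1 → h * h * h = 1 → h = 1 ∨ g = 1 ∨ g = h ∨
    g = h⁻¹ := by decide +kernel

theorem out3 (e : PSL3 ≃* L) (b c : MulAut L) (hb : b ^ 3 = 1) (hc : c ^ 3 = 1) :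
    (∃ l, c = MulAut.conj l) ∨ (∃ l, b = MulAut.conj l) ∨
    (∃ l, b = c * MulAut.conj l) ∨ ∃ l, b = c⁻¹ * MulAut.conj l := by
  have h1 : ∀ β : MulAut L, β ^ 3 = 1 → (D e).tyHom β * (D e).tyHom β * (D e).tyHom β = 1 := by
    intro β hβ
    rw [← map_mul, ← map_mul, ← pow_three', hβ, map_one]
  rcases ty_three _ _ (h1 b hb) (h1 c hc) with h | h | h | h
  · exact Or.inl ((D e).inner_iff.1 h)
  · exact Or.inr (Or.inl ((D e).inner_iff.1 h))
  · right; right; left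
    obtain ⟨l, hl⟩ := (D e).inner_iff.1 (show (D e).tyHom (c⁻¹ * b) = 1 by
      rw [map_mul, map_inv, h, inv_mul_cancel])
    exact ⟨l, by rw [← hl]; group⟩
  · right; right; right
    obtain ⟨l, hl⟩ := (D e).inner_iff.1 (show (D e).tyHom (c * b) = 1 by
      rw [map_mul, h, mul_inv_cancel])
    exact ⟨l, by rw [← hl]; group⟩

theorem out4 (e : PSL3 ≃* L) (b : MulAut L) (hb : b ^ 4 = 1) : ∃ l, b * b = MulAut.conj l := by
  rw [← (D e).inner_iff, map_mul]
  exact tyHom_sq (A := D e) (n := 2) hb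

section

variable (e : PSL3 ≃* L) {x : MulAut L} (hx : x * x = 1)
  (hb : bits ((D e).tyHom x) = (true, true))

include hx hb in
theorem indep : ∃ y z : L, y ^ 3 = 1 ∧ x y = y ∧ z ^ 3 = 1 ∧ x z = z ∧ y ≠ 1 ∧ z ≠ 1 ∧ y ≠ z ∧
    y ≠ z⁻¹ := by
  obtain ⟨e', he⟩ := pure1 e hx hb (by decide)
  have h1 := eq_tr e' isTau_x0 he
  obtain ⟨y, z, h2, h3, h4, h5, h6, h7, h8, h9⟩ := indep0
  refine ⟨e' y, e' z, ?_, ?_, ?_, ?_, ?_, ?_, ?_, ?_⟩
  · rw [← map_pow, h2, map_one]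
  · rw [h1, tr_e, h3]
  · rw [← map_pow, h4, map_one]
  · rw [h1, tr_e, h5]
  · intro h
    exact h6 (e'.injective (by rw [h, map_one]))
  · intro h
    exact h7 (e'.injective (by rw [h, map_one]))
  · intro h
    exact h8 (e'.injective h)
  · intro h
    exact h9 (e'.injective (by rw [h, map_inv]))

include hx hb in
theorem wcl (a : MulAut L) (ha : Wild x a) (l : L) (h : ∀ j, a j = j → l * j = j * l) : l = 1 := by
  obtain ⟨e', h'⟩ := wpure e hx hb ha
  have h02 : (D e').x 0 2 1 ∈ fx a := h'.elim fx_x02 fx_x02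
  have h20 : (D e').x 2 0 1 ∈ fx a := h'.elim fx_x20 fx_x20
  have hf : ∀ j, a j = j → MulAut.conj l j = j := by
    intro j hj
    rw [MulAut.conj_apply, h j hj, mul_inv_cancel_right]
  obtain ⟨τ, hτ⟩ := pure_of_fix (A := D e') (hf _ h02) (hf _ h20)
  have h1 : τ = ty1 := hτ.hasTy.unique ((D e').hasTy_conj l)
  rw [h1] at hτ
  exact (D e').conj_eq_one (hτ.ext isTau_one)

include hx hb in
theorem sq4 (s : L) (hs : s * s = 1) (hs1 : s ≠ 1) (hxs : x s = s) : ∃ r, x r = r ∧ r * r = s := by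
  obtain ⟨e', h1, rfl⟩ := plx' e hx hb hs hs1 hxs
  have k : ∃ q : Code, ctau (true, true, 0) q = q ∧ cmul q q = ⟨0, 0, 1⟩ := by decide +kernel
  obtain ⟨q, hq1, hq2⟩ := k
  refine ⟨(D e').el q, ?_, ?_⟩
  · rw [h1.el, hq1]
  · rw [(D e').el_mul, hq2, (D e').el_x02]

include hx hb in
theorem yp (s : L) (hs : s * s = 1) (hs1 : s ≠ 1) (hxs : x s = s) :
    closure {y | y ^ 3 = 1 ∧ x y = y} ⊔ centralizer ({s} : Set L) = ⊤ := by
  obtain ⟨e', h1, rfl⟩ := plx' e hx hb hs hs1 hxs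
  set H := closure {y | y ^ 3 = 1 ∧ x y = y} ⊔ centralizer ({(D e').x 0 2 1} : Set L) with hH
  have hT : (D e').T ≤ H := by
    intro l hl
    apply (le_sup_right : _ ≤ closure {y | y ^ 3 = 1 ∧ x y = y} ⊔
      centralizer ({(D e').x 0 2 1} : Set L))
    rw [mem_centralizer_singleton_iff]
    exact cent_x02.2 hl
  have hr : (D e').x 0 2 1 * (D e').x 2 0 1 ∈ H := by
    apply (le_sup_left : closure {y | y ^ 3 = 1 ∧ x y = y} ≤ H)
    apply Subgroup.subset_closure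
    refine ⟨(D e').r_pow, ?_⟩
    rw [map_mul, x02_one _ h1, x20_one _ h1]
  have hs' : (D e').x 0 2 1 ∈ H := hT (by rw [← (D e').el_x02]; exact (D e').el_mem _)
  apply gen_T (D e') hT
  have h2 : (D e').x 2 0 1 = ((D e').x 0 2 1)⁻¹ * ((D e').x 0 2 1 * (D e').x 2 0 1) := by group
  rw [h2]
  exact mul_mem (inv_mem hs') hr

include hx hb in
theorem wone (a : MulAut L) (ha : Wild x a) (hax : a * x = x * a) (y z : L) (hy : y ^ 3 = 1)
    (hxy : x y = y) (hay : a y = y) (hz : z ^ 3 = 1) (hxz : x z = z) (haz : a z = z) :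
    y = 1 ∨ z = 1 ∨ y = z ∨ y = z⁻¹ := by
  obtain ⟨e', h3, h4⟩ := pl2' e hx hb ha.sq (wild_bits e hx hb ha) hax
  -- a field automorphism fixing everything
  have key : ∃ b : MulAut L, (D e').IsTau (true, false, 0) b ∧ ∀ l, a l = l → x l = l → b l = l := by
    rcases h4 with h4 | h4
    · exact ⟨a, h4, fun l h _ => h⟩
    · refine ⟨a * x, h4.mul h3, ?_⟩
      intro l h h'
      rw [MulAut.mul_apply, h', h]
  obtain ⟨b, hbt, hbf⟩ := key
  have e1 := eq_tr e' isTau_x0 h3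
  have e2 := eq_tr e' isTau_f0 hbt
  have k : ∀ y : L, y ^ 3 = 1 → x y = y → a y = y →
      e'.symm y = 1 ∨ e'.symm y = r0 ∨ e'.symm y = r0 * r0 := by
    intro y hy hxy hay
    have hby := hbf y hay hxy
    rw [e1, fix_symm] at hxy
    rw [e2, fix_symm] at hby
    exact fix_both (by rw [← map_pow, hy, map_one]) hxy hby
  have hr : r0 * r0 * r0 = 1 := by
    rw [← pow_three', r0_eq]; exact datPSL.r_pow
  have hinj : ∀ {u v : L}, e'.symm u = e'.symm v → u = v := fun h => e'.symm.injective h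
  rcases k y hy hxy hay with h5 | h5 | h5
  · exact Or.inl (hinj (by rw [h5, map_one]))
  all_goals rcases k z hz hxz haz with h6 | h6 | h6
  · exact Or.inr (Or.inl (hinj (by rw [h6, map_one])))
  · exact Or.inr (Or.inr (Or.inl (hinj (by rw [h5, h6]))))
  · refine Or.inr (Or.inr (Or.inr (hinj ?_)))
    rw [map_inv, h5, h6, eq_inv_iff_mul_eq_one, ← mul_assoc, hr]
  · exact Or.inr (Or.inl (hinj (by rw [h6, map_one])))
  · refine Or.inr (Or.inr (Or.inr (hinj ?_)))
    rw [map_inv, h5, h6, eq_inv_iff_mul_eq_one, hr]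
  · exact Or.inr (Or.inr (Or.inl (hinj (by rw [h5, h6]))))

/-- **The facts on `L₃(4)`** -/
theorem facts (e : PSL3 ≃* L) {x : MulAut L} (hx : x * x = 1)
    (hb : bits ((datPSL.map e).tyHom x) = (true, true)) : Facts x where
  xx := hx
  cl := cl e
  simp := simp e
  inn := inn e
  chi0 := chi0 e hb
  chi1 := chi1 e hx hb
  xconj := xconj e hx hb
  cmt := cmt e
  solx := solx e hx hb
  sols := sols e
  comm := comm e hx hb
  irr := irr e hx hb
  three := three e hx hb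
  indep := indep e hx hb
  out3 := out3 e
  wsimp := wsimp e hx hb
  wperf := wperf e hx hb
  weven := weven e hx hb
  wgen := wgen e hx hb
  wcl := wcl e hx hb
  wpair := wpair e hx hb
  wthree := wthree e hx hb
  p3 := p3 e
  p4 := p4 e
  p4' := p4' e
  p5 := p5 e hx hb

theorem facts2 (e : PSL3 ≃* L) {x : MulAut L} (hx : x * x = 1)
    (hb : bits ((datPSL.map e).tyHom x) = (true, true)) : Facts2 x where
  toFacts := facts e hx hb
  out4 := out4 e
  sq4 := sq4 e hx hb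
  yp := yp e hx hb
  wone := wone e hx hb

end

end Cfsg.Agent.UGT.FL34
end

-- part: UGT/FL34/KFNew
section
/-!
# Facts on `L₃(4)` for `KF34` (1)

* `c2`, `cls`, `cent`, `four`, `q8`.
-/

set_option autoImplicit false
set_option linter.constructorNameAsVariable false
set_option linter.unusedVariables false

namespace Cfsg.Agent.UGT.FL34.KF

open Subgroup Cfsg.Agent.UGT.FL34
open Cfsg.Agent.SporadicA.FieldFour
open Cfsg.Agent.LThreeFour Cfsg.Agent.LThreeFour.Dat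
open Cfsg.Agent.ONType.Psl (PSL3)
open scoped commutatorElement

variable {L : Type*} [Group L]

/-- an involution is `x₀₂(1)` in suitable coordinates -/
theorem exists_coord (e : PSL3 ≃* L) {s : L} (hs : s * s = 1) (hs1 : s ≠ 1) :
    ∃ e' : PSL3 ≃* L, s = (D e').x 0 2 1 := by
  obtain ⟨g, hg⟩ := (D e).invol_conj s hs1 hs
  refine ⟨e.trans ((MulAut.conj g)⁻¹ : MulAut L), ?_⟩
  show s = (MulAut.conj g)⁻¹ ((D e).x 0 2 1)
  rw [← hg, MulAut.conj_inv_apply]
  group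

/-- the centralizer of an involution -/
theorem comm_iff (A : Dat L) {l : L} : l * A.x 0 2 1 = A.x 0 2 1 * l ↔ ∃ p, l = A.el p := by
  rw [cent_x02, mem_T]
  exact ⟨fun ⟨p, hp⟩ => ⟨p, hp.symm⟩, fun ⟨p, hp⟩ => ⟨p, hp.symm⟩⟩

theorem four_code : ∀ p : Code, cmul (cmul p p) (cmul p p) = cone := by decide +kernel

theorem el_pow_four (A : Dat L) (p : Code) : A.el p ^ 4 = 1 := by
  have h1 : A.el p ^ 4 = A.el p * A.el p * (A.el p * A.el p) := by
    rw [← sq, ← sq, ← pow_mul]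
  rw [h1, A.el_mul, A.el_mul, four_code, A.el_one]

theorem c2 (e : PSL3 ≃* L) (s : L) (hs : s * s = 1) (hs1 : s ≠ 1) (l : L) (hl : l * s = s * l) :
    ∃ n : ℕ, l ^ 2 ^ n = 1 := by
  obtain ⟨e', rfl⟩ := exists_coord e hs hs1
  obtain ⟨p, rfl⟩ := (comm_iff (D e')).1 hl
  exact ⟨2, el_pow_four (D e') p⟩

theorem cls (e : PSL3 ≃* L) (s t : L) (hs : s * s = 1) (hs1 : s ≠ 1) (ht : t * t = 1) (ht1 : t ≠ 1) :
    ∃ g, g * s * g⁻¹ = t := by
  obtain ⟨g, hg⟩ := (D e).invol_conj s hs1 hs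
  obtain ⟨h, hh⟩ := (D e).invol_conj t ht1 ht
  refine ⟨h⁻¹ * g, ?_⟩
  calc h⁻¹ * g * s * (h⁻¹ * g)⁻¹ = h⁻¹ * (g * s * g⁻¹) * h := by group
    _ = h⁻¹ * (h * t * h⁻¹) * h := by rw [hg, hh]
    _ = t := by group

theorem cent_code1 : ∀ τ : Ty, (∀ y ∈ ([⟨1, 0, 0⟩, ⟨F4.w, 0, 0⟩, ⟨0, 1, 0⟩, ⟨0, F4.w, 0⟩] : List Code),
    (ctau τ y).a = y.a ∧ (ctau τ y).b = y.b) → τ = ty1 := by decide +kernel

theorem cent_code2 : ∀ p : Code, (∀ y ∈ ([⟨1, 0, 0⟩, ⟨F4.w, 0, 0⟩, ⟨0, 1, 0⟩, ⟨0, F4.w, 0⟩] : List Code),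
    p.a * y.b + p.b * y.a = 0 ∨ p.a * y.b + p.b * y.a = 1) → p.a = 0 ∧ p.b = 0 := by decide +kernel

theorem cent (e : PSL3 ≃* L) (s : L) (hs : s * s = 1) (hs1 : s ≠ 1) (α : MulAut L)
    (hα : ∀ p, p * s = s * p → α p * p⁻¹ = 1 ∨ α p * p⁻¹ = s) :
    ∃ z, α = MulAut.conj z ∧ ∀ p, p * s = s * p → z * p = p * z := by
  obtain ⟨e', rfl⟩ := exists_coord e hs hs1
  set A := D e' with hA
  have hfix : α (A.x 0 2 1) = A.x 0 2 1 := by
    rcases hα _ rfl with h | h
    · exact mul_inv_eq_one.1 h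
    · exfalso
      rw [mul_inv_eq_iff_eq_mul, hs] at h
      exact hs1 (by rw [← α.map_eq_one_iff]; exact h)
  obtain ⟨q, τ, hq⟩ := A.exists_cd hfix
  have key : ∀ y : Code, cmul (cact q τ y) (cinv y) = cone ∨
      cmul (cact q τ y) (cinv y) = ⟨0, 0, 1⟩ := by
    intro y
    have h1 := hα (A.el y) ((comm_iff A).2 ⟨y, rfl⟩)
    rw [hq.apply, A.el_inv, A.el_mul, A.el_eq_one, ← A.el_x02] at h1
    rcases h1 with h1 | h1
    · exact Or.inl h1
    · exact Or.inr (A.inj h1)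
  have hadd : ∀ u v : F4, u + v = 0 → u = v := by decide
  have h0 : ∀ y : Code, (cact q τ y).a = y.a ∧ (cact q τ y).b = y.b := by
    intro y
    rcases key y with h | h
    · exact ⟨hadd _ _ (congrArg Code.a h), hadd _ _ (congrArg Code.b h)⟩
    · exact ⟨hadd _ _ (congrArg Code.a h), hadd _ _ (congrArg Code.b h)⟩
  have hτ : τ = ty1 := by
    apply cent_code1
    intro y _
    rw [← (cact_ab q τ y).1, ← (cact_ab q τ y).2]
    exact h0 y
  subst hτ
  have hab : q.a = 0 ∧ q.b = 0 := by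
    apply cent_code2
    intro y _
    have h1 : cmul (cact q ty1 y) (cinv y) = ⟨0, 0, q.a * y.b + q.b * y.a⟩ := by
      have k : ∀ q y : Code, cmul (cmul (cmul (cinv q) y) q) (cinv y) =
          ⟨0, 0, q.a * y.b + q.b * y.a⟩ := fun q y => by
        have h2 : (2 : F4) = 0 := by decide +kernel
        refine congr (congrArg₂ Code.mk ?_ ?_) ?_
        · show q.a + y.a + q.a + y.a = 0
          linear_combination (q.a + y.a) * h2
        · show q.b + y.b + q.b + y.b = 0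
          linear_combination (q.b + y.b) * h2
        · show y.a * (q.b + y.b + q.b) + (q.a * (q.b + y.b) + (y.a * q.b + (q.c + q.a * q.b) + y.c) + q.c) + (y.c + y.a * y.b) = _
          linear_combination (y.a * q.b + y.a * y.b + q.a * q.b + q.c + y.c) * h2
      unfold cact
      rw [ctau_ty1]
      exact k q y
    rcases key y with h | h
    · left
      rw [h1] at h
      exact congrArg Code.c h
    · right
      rw [h1] at h
      exact congrArg Code.c h
  refine ⟨A.el (cinv q), hq.eq_conj, ?_⟩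
  intro p hp
  obtain ⟨y, rfl⟩ := (comm_iff A).1 hp
  apply Z_comm _ (A.el_mem y)
  rw [el_mem_Z]
  exact hab

theorem four_code' : ∀ a b : F4, (a ≠ 0 ∨ b ≠ 0) → ∃ u v : F4, a * v + b * u = F4.w := by decide +kernel

theorem four (e : PSL3 ≃* L) (s : L) (hs : s * s = 1) (hs1 : s ≠ 1) (w : L) (hw : w * s = s * w)
    (hp : ∃ p, p * s = s * p ∧ w * p ≠ p * w) :
    ∃ p, p * s = s * p ∧ w * p * w⁻¹ * p⁻¹ ≠ 1 ∧ w * p * w⁻¹ * p⁻¹ ≠ s := by
  obtain ⟨e', rfl⟩ := exists_coord e hs hs1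
  obtain ⟨q, rfl⟩ := (comm_iff (D e')).1 hw
  obtain ⟨p, hp1, hp2⟩ := hp
  obtain ⟨y, rfl⟩ := (comm_iff (D e')).1 hp1
  have h1 : q.a ≠ 0 ∨ q.b ≠ 0 := by
    by_contra h
    push Not at h
    apply hp2
    apply Z_comm _ ((D e').el_mem y)
    rw [el_mem_Z]
    exact h
  obtain ⟨u, v, huv⟩ := four_code' q.a q.b h1
  have h2 := (D e').el_comm q ⟨u, v, 0⟩
  rw [huv, commutatorElement_def] at h2
  refine ⟨(D e').el ⟨u, v, 0⟩, (comm_iff (D e')).2 ⟨_, rfl⟩, ?_, ?_⟩
  · rw [h2, ← (D e').el_x02]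
    intro h
    rw [(D e').el_eq_one] at h
    exact absurd h (by decide)
  · rw [h2, ← (D e').el_x02, ← (D e').el_x02]
    intro h
    exact absurd ((D e').inj h) (by decide)

theorem q8_code : ∃ p q : Code, ctau (true, true, 0) p = p ∧ ctau (true, true, 0) q = q ∧
    cmul p p = ⟨0, 0, 1⟩ ∧ cmul q q = ⟨0, 0, 1⟩ ∧ cmul (cmul q p) (cinv q) = cinv p := by
  decide +kernel

theorem q8 (e : PSL3 ≃* L) {x : MulAut L} (hx : x * x = 1)
    (hb : bits ((D e).tyHom x) = (true, true)) (s : L) (hs : s * s = 1) (hs1 : s ≠ 1)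
    (hxs : x s = s) : ∃ w₁ w₂, x w₁ = w₁ ∧ x w₂ = w₂ ∧ w₁ * w₁ = s ∧ w₂ * w₂ = s ∧
      w₂ * w₁ * w₂⁻¹ = w₁⁻¹ := by
  obtain ⟨e', h1, rfl⟩ := plx' e hx hb hs hs1 hxs
  obtain ⟨p, q, h2, h3, h4, h5, h6⟩ := q8_code
  refine ⟨(D e').el p, (D e').el q, ?_, ?_, ?_, ?_, ?_⟩
  · rw [h1.el, h2]
  · rw [h1.el, h3]
  · rw [(D e').el_mul, h4, (D e').el_x02]
  · rw [(D e').el_mul, h5, (D e').el_x02]
  · rw [(D e').el_inv, (D e').el_inv, (D e').el_mul, (D e').el_mul, h6]

end Cfsg.Agent.UGT.FL34.KF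
end

-- part: UGT/FL34/KFCore
section
/-!
# Facts on `L₃(4)` for `KF34` (2)

* `bits_of_oddC` : an involution with a non-trivial odd group `OddC` is a unitary polarity;
* `core`, `inv`, `ycomm`, `nine`, `wone`, `pol`.
-/

set_option autoImplicit false
set_option linter.constructorNameAsVariable false
set_option linter.unusedVariables false

namespace Cfsg.Agent.UGT.FL34.KF

open Subgroup Cfsg.Agent.UGT.FL34
open Cfsg.Agent.SporadicA.FieldFour
open Cfsg.Agent.LThreeFour Cfsg.Agent.LThreeFour.Dat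
open Cfsg.Agent.ONType.Psl (PSL3)
open Cfsg.Agent.UGT.ThEL34 (fx mem_fx Wild)
open Cfsg.Agent.UGT.LTF.Defs (OddC)
open Cfsg.Agent.UGT.LTF.KF2 (mem_of_sq odd_orderOf)
open scoped commutatorElement

variable {L : Type*} [Group L]

theorem six : ∀ g : TyG, (g * g * g) * (g * g * g) = 1 := by decide +kernel

theorem bits_of_three : ∀ g : TyG, g * g * g = 1 → bits g = (false, false) := by decide +kernel

/-- automorphisms of odd order have trivial bits -/
theorem bits_odd (A : Dat L) {e : MulAut L} (he : Odd (orderOf e)) :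
    bits (A.tyHom e) = (false, false) := by
  apply bits_of_three
  set g := A.tyHom e with hg
  have h1 : Odd (orderOf g) := Odd.of_dvd_nat he (orderOf_map_dvd _ _)
  have h2 : g * g * g ∈ (⊥ : Subgroup TyG) := by
    apply mem_of_sq
    · have h3 : g * g * g = g ^ 3 := by rw [← pow_three']
      rw [h3]
      exact Odd.of_dvd_nat h1 (orderOf_pow_dvd 3)
    · rw [six g]; exact one_mem _
  exact mem_bot.1 h2

/-- 2-elements of odd order -/
theorem eq_one_of {G : Type*} [Group G] {g : G} {n : ℕ} (h : g ^ 2 ^ n = 1) (ho : Odd (orderOf g)) :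
    g = 1 := by
  have h1 : orderOf g ∣ 2 ^ n := orderOf_dvd_of_pow_eq_one h
  have h2 : (orderOf g).Coprime (2 ^ n) := Nat.Coprime.pow_right n (Nat.coprime_two_right.mpr ho)
  exact orderOf_eq_one_iff.mp (Nat.Coprime.eq_one_of_dvd h2 h1)

section odd

variable {ξ : MulAut L} {E : Subgroup (MulAut L)} (hE : OddC ξ E)

/-- `[l, e]` -/
theorem comm_eq (e : MulAut L) (l : L) :
    MulAut.conj (l * (e l)⁻¹) = MulAut.conj l * e * (MulAut.conj l)⁻¹ * e⁻¹ := by
  rw [map_mul, map_inv, conj_map]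
  group

include hE in
theorem comm_mem {e : MulAut L} (he : e ∈ E) {l : L} (hl : ξ l = l) :
    MulAut.conj (l * (e l)⁻¹) ∈ E := by
  rw [comm_eq]
  exact mul_mem (hE.nor l hl e he) (inv_mem he)

include hE in
theorem fix_e {e : MulAut L} (he : e ∈ E) {l : L} (hl : ξ l = l) : ξ (e l) = e l := by
  have h1 := DFunLike.congr_fun (hE.com e he) l
  rw [MulAut.mul_apply, MulAut.mul_apply, hl] at h1
  exact h1.symm

include hE in
theorem fix_of_conj (A : Dat L) {y : L} (hy : MulAut.conj y ∈ E) : ξ y = y := by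
  have h1 := conj_map ξ y
  rw [← hE.com _ hy, mul_inv_cancel_right] at h1
  exact A.conj_injective h1

include hE in
theorem odd_of_conj (A : Dat L) {y : L} (hy : MulAut.conj y ∈ E) : Odd (orderOf y) := by
  have h1 := odd_orderOf hE.odd hy
  rwa [orderOf_injective _ A.conj_injective] at h1

end odd

/-- conjugation by `x₀₂(1)` is not in an odd group -/
theorem x02_not (A : Dat L) {E : Subgroup (MulAut L)} (hE : Odd (Nat.card E))
    (h : MulAut.conj (A.x 0 2 1) ∈ E) : False := by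
  have h1 := odd_orderOf hE h
  have h2 : MulAut.conj (A.x 0 2 1) = 1 := by
    apply eq_one_of (n := 1) _ h1
    rw [pow_one, sq, ← map_mul, A.x_sq 0 2 (by decide), map_one]
  exact x02_ne A (A.conj_eq_one h2)

theorem ty_odd : ∀ g : TyG, bits g = (false, false) →
    g * ⟨(true, false, 0)⟩ = ⟨(true, false, 0)⟩ * g ∨ g * ⟨(false, true, 0)⟩ = ⟨(false, true, 0)⟩ * g →
    g = 1 := by decide +kernel

/-- **recognition** -/
theorem bits_of_oddC (e0 : PSL3 ≃* L) {ξ : MulAut L} (hξ : ξ * ξ = 1) {E : Subgroup (MulAut L)}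
    (hE : OddC ξ E) (h1 : E ≠ ⊥) : bits ((D e0).tyHom ξ) = (true, true) := by
  by_contra hcon
  apply h1
  rw [eq_bot_iff]
  intro e he
  rw [mem_bot]
  have hoe := odd_orderOf hE.odd he
  have hs : IsSimpleGroup L := simp e0
  rcases ty_sq ((D e0).tyHom ξ) (by rw [← map_mul, hξ, map_one]) with h | h | h | h
  · obtain ⟨s, rfl⟩ := (D e0).inner_iff.1 h
    have hss : s * s = 1 := (D e0).conj_injective (by rw [map_mul, hξ, map_one])
    by_cases hs1 : s = 1
    · -- `ξ = 1`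
      have hfix : ∀ l, MulAut.conj s l = l := by
        intro l
        rw [hs1, map_one, MulAut.one_apply]
      have hN : (E.comap (MulAut.conj : L →* MulAut L)).Normal := by
        refine ⟨fun n hn g => ?_⟩
        rw [mem_comap] at hn ⊢
        rw [map_mul, map_mul, map_inv]
        exact hE.nor g (hfix g) _ hn
      rcases hs.eq_bot_or_eq_top_of_normal _ hN with h2 | h2
      · ext l
        rw [MulAut.one_apply]
        have h3 : l * (e l)⁻¹ ∈ E.comap (MulAut.conj : L →* MulAut L) :=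
          comm_mem hE he (hfix l)
        rw [h2, mem_bot, mul_inv_eq_one] at h3
        exact h3.symm
      · exfalso
        apply x02_not (D e0) hE.odd
        have h3 : (D e0).x 0 2 1 ∈ E.comap (MulAut.conj : L →* MulAut L) := by
          rw [h2]; exact mem_top _
        exact h3
    · -- inner involution
      obtain ⟨e', rfl⟩ := exists_coord e0 hss hs1
      set A := D e' with hA
      have hes : e (A.x 0 2 1) = A.x 0 2 1 := by
        have h2 := conj_map e (A.x 0 2 1)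
        rw [hE.com e he, mul_inv_cancel_right] at h2
        exact A.conj_injective h2
      obtain ⟨p, τ, hp⟩ := A.exists_cd hes
      have hT : ∀ y : Code, e (A.el y) = A.el y := by
        intro y
        have h2 : MulAut.conj (A.x 0 2 1) (A.el y) = A.el y := by
          rw [MulAut.conj_apply, ← (comm_iff A).2 ⟨y, rfl⟩, mul_inv_cancel_right]
        have h3 := comm_mem hE he h2
        have h4 := odd_of_conj hE A h3
        have h5 : A.el y * (e (A.el y))⁻¹ = 1 := by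
          rw [hp.apply, A.el_inv, A.el_mul] at h4 ⊢
          exact eq_one_of (n := 2) (el_pow_four A _) h4
        exact (mul_inv_eq_one.1 h5).symm
      obtain ⟨h2, h3, h4⟩ := hp.fix (fun y _ => hT y)
      subst h2
      have h5 := hp.eq_conj
      apply eq_one_of (n := 1) _ hoe
      rw [pow_one, sq, h5, ← map_mul, A.el_mul]
      have k : ∀ q : Code, q.a = 0 → q.b = 0 → cmul (cinv q) (cinv q) = cone := by decide +kernel
      rw [k p h3 h4, A.el_one, map_one]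
  · obtain ⟨e', h2⟩ := pure1 e0 hξ h (by decide)
    set A := D e' with hA
    have hsf : IsSimpleGroup (fx ξ) := by
      rw [eq_tr e' isTau_f0 h2]
      have := simple_f0
      exact MulEquiv.isSimpleGroup (fxEquiv e' f0)
    have hfix : ∀ l, ξ l = l → e l = l := by
      have hN : ((E.comap (MulAut.conj : L →* MulAut L)).subgroupOf (fx ξ)).Normal := by
        refine ⟨fun n hn g => ?_⟩
        rw [mem_subgroupOf, mem_comap] at hn ⊢
        change MulAut.conj ((g : L) * n * (g : L)⁻¹) ∈ E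
        rw [map_mul, map_mul, map_inv]
        exact hE.nor g g.2 _ hn
      rcases hsf.eq_bot_or_eq_top_of_normal _ hN with h3 | h3
      · intro l hl
        have h4 : (⟨l * (e l)⁻¹, mul_mem (s := fx ξ) hl (inv_mem (fix_e hE he hl))⟩ : fx ξ) ∈
            (E.comap (MulAut.conj : L →* MulAut L)).subgroupOf (fx ξ) := comm_mem hE he hl
        rw [h3, mem_bot] at h4
        exact (mul_inv_eq_one.1 (congrArg Subtype.val h4)).symm
      · exfalso
        apply x02_not A hE.odd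
        have h4 : (⟨A.x 0 2 1, fx_x02 h2⟩ : fx ξ) ∈
            (E.comap (MulAut.conj : L →* MulAut L)).subgroupOf (fx ξ) := by
          rw [h3]; exact mem_top _
        exact h4
    obtain ⟨τ, hτ⟩ := pure_of_fix (A := A) (hfix _ (fx_x02 h2)) (hfix _ (fx_x20 h2))
    have h3 : (⟨τ⟩ : TyG) = 1 := by
      apply ty_odd
      · rw [← hτ.hasTy.tyHom]; exact bits_odd A hoe
      · left
        rw [← hτ.hasTy.tyHom, ← h2.hasTy.tyHom, ← map_mul, ← map_mul, hE.com e he]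
    have h4 : τ = ty1 := congrArg TyG.ty h3
    rw [h4] at hτ
    exact hτ.ext isTau_one
  · obtain ⟨e', h2⟩ := pure1 e0 hξ h (by decide)
    set A := D e' with hA
    have hsf : IsSimpleGroup (fx ξ) := by
      rw [eq_tr e' isTau_g0 h2]
      have := simple_g0
      exact MulEquiv.isSimpleGroup (fxEquiv e' g0)
    have hfix : ∀ l, ξ l = l → e l = l := by
      have hN : ((E.comap (MulAut.conj : L →* MulAut L)).subgroupOf (fx ξ)).Normal := by
        refine ⟨fun n hn g => ?_⟩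
        rw [mem_subgroupOf, mem_comap] at hn ⊢
        change MulAut.conj ((g : L) * n * (g : L)⁻¹) ∈ E
        rw [map_mul, map_mul, map_inv]
        exact hE.nor g g.2 _ hn
      rcases hsf.eq_bot_or_eq_top_of_normal _ hN with h3 | h3
      · intro l hl
        have h4 : (⟨l * (e l)⁻¹, mul_mem (s := fx ξ) hl (inv_mem (fix_e hE he hl))⟩ : fx ξ) ∈
            (E.comap (MulAut.conj : L →* MulAut L)).subgroupOf (fx ξ) := comm_mem hE he hl
        rw [h3, mem_bot] at h4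
        exact (mul_inv_eq_one.1 (congrArg Subtype.val h4)).symm
      · exfalso
        apply x02_not A hE.odd
        have h4 : (⟨A.x 0 2 1, fx_x02 h2⟩ : fx ξ) ∈
            (E.comap (MulAut.conj : L →* MulAut L)).subgroupOf (fx ξ) := by
          rw [h3]; exact mem_top _
        exact h4
    obtain ⟨τ, hτ⟩ := pure_of_fix (A := A) (hfix _ (fx_x02 h2)) (hfix _ (fx_x20 h2))
    have h3 : (⟨τ⟩ : TyG) = 1 := by
      apply ty_odd
      · rw [← hτ.hasTy.tyHom]; exact bits_odd A hoe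
      · right
        rw [← hτ.hasTy.tyHom, ← h2.hasTy.tyHom, ← map_mul, ← map_mul, hE.com e he]
    have h4 : τ = ty1 := congrArg TyG.ty h3
    rw [h4] at hτ
    exact hτ.ext isTau_one
  · exact absurd (by rw [h]; rfl) hcon

section

variable (e0 : PSL3 ≃* L) {ξ : MulAut L} (hξ : ξ * ξ = 1)
  (hb : bits ((D e0).tyHom ξ) = (true, true))

include hξ hb in
theorem twelve' {l : L} (h : ξ l = l) : (l ^ 4) ^ 3 = 1 := by
  obtain ⟨e', he⟩ := pure1 e0 hξ hb (by decide)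
  rw [eq_tr e' isTau_x0 he, fix_symm] at h
  have h1 := twelve h
  rw [← map_pow, ← map_pow] at h1
  apply e'.symm.injective
  rw [h1, map_one]

/-- elements of odd order fixed by the polarity have order 3 -/
theorem cube_of_odd {G : Type*} [Group G] {y : G} (h : (y ^ 4) ^ 3 = 1) (ho : Odd (orderOf y)) :
    y ^ 3 = 1 := by
  apply eq_one_of (n := 2) _ (Odd.of_dvd_nat ho (orderOf_pow_dvd 3))
  rw [← pow_mul, mul_comm, pow_mul]
  exact h

include hξ hb in
theorem core_inner {E : Subgroup (MulAut L)} (hE : OddC ξ E) {y : L} (hy : MulAut.conj y ∈ E) :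
    y ^ 3 = 1 ∧ ξ y = y := by
  have h1 := fix_of_conj hE (D e0) hy
  exact ⟨cube_of_odd (twelve' e0 hξ hb h1) (odd_of_conj hE (D e0) hy), h1⟩

theorem diag_code : ∃ q : Code, ctau (true, true, 0) q = q ∧ ∀ τ : Ty, τ.1 = false → τ.2.1 = false →
    (ctau τ q).a = q.a → τ = ty1 := by decide +kernel

include hξ hb in
/-- **core** -/
theorem core (E : Subgroup (MulAut L)) (hE : OddC ξ E) (e : MulAut L) (he : e ∈ E) :
    ∃ y, e = MulAut.conj y ∧ y ^ 3 = 1 ∧ ξ y = y := by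
  obtain ⟨e', h0⟩ := pure1 e0 hξ hb (by decide)
  have hb' : bits ((D e').tyHom ξ) = (true, true) := by rw [bits_indep e0 e', hb]
  set A := D e' with hA
  set z := A.x 0 2 1 with hz
  have hzz : z * z = 1 := A.x_sq 0 2 (by decide) 1
  have hzi : z⁻¹ = z := inv_eq_of_mul_eq_one_left hzz
  have hξz : ξ z = z := x02_one A h0
  have h3' := fun (y w : L) (hy : y ^ 3 = 1) (hxy : ξ y = y) (hw : w ^ 3 = 1) (hxw : ξ w = w) =>
    three e' hξ hb' y w hy hxy hw hxw
  -- `y₁ = z e(z)⁻¹`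
  obtain ⟨hy3, hyx⟩ := core_inner e' hξ hb' hE (comm_mem hE he hξz)
  set y1 := z * (e z)⁻¹ with hy1
  have hez : e z = y1⁻¹ * z := by rw [hy1]; group
  have hezz : e z * e z = 1 := by rw [← map_mul, hzz, map_one]
  have hinv : z * y1 * z = y1⁻¹ := by
    have h1 : y1⁻¹ * z * (y1⁻¹ * z) = 1 := by rw [← hez]; exact hezz
    have h2 : z * y1⁻¹ * z = y1 := by
      calc z * y1⁻¹ * z = y1 * (y1⁻¹ * z * (y1⁻¹ * z)) := by group
        _ = y1 := by rw [h1, mul_one]
    calc z * y1 * z = (z⁻¹ * y1⁻¹ * z⁻¹)⁻¹ := by group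
      _ = (z * y1⁻¹ * z)⁻¹ := by rw [hzi]
      _ = y1⁻¹ := by rw [h2]
  have hzy : z * y1 * z⁻¹ = y1⁻¹ := by rw [hzi]; exact hinv
  have hy3' : y1⁻¹ * y1⁻¹ * y1⁻¹ = 1 := by
    rw [← pow_three', inv_pow, hy3, inv_one]
  set e1 := MulAut.conj y1⁻¹ * e with he1
  have he1q : ∀ q, e1 q = y1⁻¹ * e q * y1 := by
    intro q
    rw [he1, MulAut.mul_apply, MulAut.conj_apply, inv_inv]
  have he1z : e1 z = z := by
    rw [he1q, hez]
    calc y1⁻¹ * (y1⁻¹ * z) * y1 = y1⁻¹ * y1⁻¹ * (z * y1 * z⁻¹) * z := by group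
      _ = z := by rw [hzy, hy3', one_mul]
  obtain ⟨p, τ, hp⟩ := A.exists_cd he1z
  obtain ⟨q, hq1, hq2⟩ := diag_code
  have hξq : ξ (A.el q) = A.el q := by rw [h0.el, hq1]
  obtain ⟨h5, h6⟩ := core_inner e' hξ hb' hE (comm_mem hE he hξq)
  set y2 := A.el q * (e (A.el q))⁻¹ with hy2
  have h7 : A.el q * (e1 (A.el q))⁻¹ = A.el q * y1⁻¹ * (A.el q)⁻¹ * y2 * y1 := by
    rw [he1q, hy2]; group
  have h8 : (A.el q * (e1 (A.el q))⁻¹) ^ 3 = 1 := by
    rw [h7]
    have k1 : (A.el q * y1⁻¹ * (A.el q)⁻¹) ^ 3 = 1 := by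
      rw [conj_pow, inv_pow, hy3, inv_one, mul_one, mul_inv_cancel]
    have k2 : ξ (A.el q * y1⁻¹ * (A.el q)⁻¹) = A.el q * y1⁻¹ * (A.el q)⁻¹ := by
      rw [map_mul, map_mul, map_inv, map_inv, hξq, hyx]
    exact h3' _ _ (h3' _ _ k1 k2 h5 h6) (by rw [map_mul, k2, h6]) hy3 hyx
  have h9 : A.el q * (e1 (A.el q))⁻¹ = 1 := by
    rw [hp.apply, A.el_inv, A.el_mul] at h8 ⊢
    have h10 := el_pow_four A (cmul q (cinv (cact p τ q)))
    rw [pow_succ, h8, one_mul] at h10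
    exact h10
  have h10 : cact p τ q = q := by
    have h11 := mul_inv_eq_one.1 h9
    rw [hp.apply] at h11
    exact (A.inj h11).symm
  have hoe := bits_odd A (odd_orderOf hE.odd he)
  have hty : A.tyHom e1 = A.tyHom e := by
    rw [he1, map_mul, A.tyHom_conj, one_mul]
  have hty' : A.tyHom e1 = ⟨τ⟩ := hp.hasTy.tyHom
  have h11 : τ = ty1 := by
    rw [← hty, hty'] at hoe
    apply hq2 τ (congrArg Prod.fst hoe) (congrArg Prod.snd hoe)
    rw [← (cact_ab p τ q).1, h10]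
  have h12 : A.tyHom e = 1 := by
    rw [← hty, hty', h11]; rfl
  obtain ⟨y, rfl⟩ := A.inner_iff.1 h12
  exact ⟨y, rfl, core_inner e' hξ hb' hE he⟩

/-! ### `O(C(ξ))` -/

include hξ hb in
theorem exists_inv : ∃ b : L, b * b = 1 ∧ b ≠ 1 ∧ ξ b = b := by
  obtain ⟨e', h0⟩ := pure1 e0 hξ hb (by decide)
  exact ⟨(D e').x 0 2 1, (D e').x_sq 0 2 (by decide) 1, x02_ne _, x02_one _ h0⟩

/-- `O(C(ξ))` -/
def YY : Subgroup L where
  carrier := {y | y ^ 3 = 1 ∧ ξ y = y}
  mul_mem' := by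
    rintro y z ⟨h1, h2⟩ ⟨h3, h4⟩
    exact ⟨three e0 hξ hb y z h1 h2 h3 h4, by rw [map_mul, h2, h4]⟩
  one_mem' := ⟨one_pow 3, map_one ξ⟩
  inv_mem' := by
    rintro y ⟨h1, h2⟩
    exact ⟨by rw [inv_pow, h1, inv_one], by rw [map_inv, h2]⟩

theorem mem_YY {y : L} : y ∈ YY e0 hξ hb ↔ y ^ 3 = 1 ∧ ξ y = y := Iff.rfl

theorem three_YY : IsPGroup 3 (YY e0 hξ hb) := by
  rintro ⟨y, hy⟩
  exact ⟨1, Subtype.ext hy.1⟩

theorem odd_YY : Odd (Nat.card (YY e0 hξ hb)) := by
  have hfin : Finite L := (D e0).finite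
  have h3 : Fact (Nat.Prime 3) := ⟨Nat.prime_three⟩
  obtain ⟨n, hn⟩ := IsPGroup.iff_card.1 (three_YY e0 hξ hb)
  rw [hn]
  exact Odd.pow (by decide)

include hξ hb in
theorem inv (b y : L) (hbb : b * b = 1) (hb1 : b ≠ 1) (hξb : ξ b = b) (hy : y ^ 3 = 1)
    (hξy : ξ y = y) : b * y * b⁻¹ = y⁻¹ := by
  have hfin : Finite L := (D e0).finite
  refine HFAbs.inverts (odd_YY e0 hξ hb) hbb ?_ ?_ y ⟨hy, hξy⟩
  · rintro d ⟨h1, h2⟩
    exact ⟨by rw [conj_pow, h1, mul_one, mul_inv_cancel], by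
      rw [map_mul, map_mul, map_inv, hξb, h2]⟩
  · rintro d ⟨h1, h2⟩ h3
    obtain ⟨n, hn⟩ := c2 e0 b hbb hb1 d h3
    have h4 : orderOf d ∣ 3 := orderOf_dvd_of_pow_eq_one h1
    exact eq_one_of hn (Odd.of_dvd_nat (by decide) h4)

include hξ hb in
theorem ycomm (y z : L) (hy : y ^ 3 = 1) (hξy : ξ y = y) (hz : z ^ 3 = 1) (hξz : ξ z = z) :
    y * z = z * y := by
  obtain ⟨b, hb1, hb2, hb3⟩ := exists_inv e0 hξ hb
  have h1 := inv e0 hξ hb b y hb1 hb2 hb3 hy hξy
  have h2 := inv e0 hξ hb b z hb1 hb2 hb3 hz hξz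
  have h3 := inv e0 hξ hb b (y * z) hb1 hb2 hb3 (three e0 hξ hb y z hy hξy hz hξz) (by
    rw [map_mul, hξy, hξz])
  have h4 : y⁻¹ * z⁻¹ = (y * z)⁻¹ := by
    rw [← h3, ← h1, ← h2]; group
  have h5 := congrArg (fun w => w⁻¹) h4
  simp only [mul_inv_rev, inv_inv] at h5
  exact h5.symm

include hξ hb in
theorem nine : ∃ Y : Subgroup L, Nat.card Y = 9 ∧ ∀ y, y ∈ Y ↔ y ^ 3 = 1 ∧ ξ y = y := by
  have hfin : Finite L := (D e0).finite
  have h3 : Fact (Nat.Prime 3) := ⟨Nat.prime_three⟩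
  refine ⟨YY e0 hξ hb, ?_, fun y => mem_YY e0 hξ hb⟩
  obtain ⟨n, hn⟩ := IsPGroup.iff_card.1 (three_YY e0 hξ hb)
  have h1 : 3 ^ n ∣ 20160 := by
    rw [← hn, ← (D e0).card]; exact Subgroup.card_subgroup_dvd_card _
  have h2 : n ≤ 2 := by
    by_contra hcon
    push Not at hcon
    have h4 : 3 ^ 3 ∣ 20160 := (pow_dvd_pow 3 hcon).trans h1
    omega
  have h4 : 3 < Nat.card (YY e0 hξ hb) := by
    obtain ⟨y, z, k1, k2, k3, k4, k5, k6, k7, k8⟩ := indep e0 hξ hb
    by_contra hcon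
    push Not at hcon
    classical
    have : Fintype (YY e0 hξ hb) := Fintype.ofFinite _
    have hyy : y ≠ y⁻¹ := by
      intro h
      apply k5
      have h5 : y * y = 1 := by nth_rw 2 [h]; exact mul_inv_cancel y
      rw [pow_three', h5, one_mul] at k1
      exact k1
    have h5 : ({1, ⟨y, k1, k2⟩, ⟨y, k1, k2⟩⁻¹, ⟨z, k3, k4⟩} : Finset (YY e0 hξ hb)).card = 4 := by
      rw [Finset.card_insert_of_notMem, Finset.card_insert_of_notMem, Finset.card_insert_of_notMem,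
        Finset.card_singleton]
      · rw [Finset.mem_singleton]
        intro h
        apply k8
        have h7 : y⁻¹ = z := congrArg Subtype.val h
        rw [← h7, inv_inv]
      · rw [Finset.mem_insert, Finset.mem_singleton]
        rintro (h | h)
        · exact hyy (congrArg Subtype.val h)
        · exact k7 (congrArg Subtype.val h)
      · rw [Finset.mem_insert, Finset.mem_insert, Finset.mem_singleton]
        rintro (h | h | h)
        · exact k5 (congrArg Subtype.val h).symm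
        · exact k5 (inv_eq_one.1 (congrArg Subtype.val h).symm)
        · exact k6 (congrArg Subtype.val h).symm
    have h6 := Finset.card_le_univ
      ({1, ⟨y, k1, k2⟩, ⟨y, k1, k2⟩⁻¹, ⟨z, k3, k4⟩} : Finset (YY e0 hξ hb))
    rw [h5, ← Nat.card_eq_fintype_card] at h6
    omega
  rw [hn] at h4 ⊢
  interval_cases n
  · omega
  · omega
  · norm_num

/-! ### Classes -/

include hξ hb in
theorem wone' (a : MulAut L) (ha : Wild ξ a) (t : L) (hat : a t = t) (htt : t * t = 1)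
    (ht1 : t ≠ 1) : ∃ m, MulAut.conj m * a * (MulAut.conj m)⁻¹ = a * MulAut.conj t := by
  have haa := ha.sq
  have h2 : (a * MulAut.conj t) * (a * MulAut.conj t) = 1 := by
    have h3 := conj_comm hat
    calc (a * MulAut.conj t) * (a * MulAut.conj t)
        = a * (MulAut.conj t * a) * MulAut.conj t := by group
      _ = (a * a) * (MulAut.conj t * MulAut.conj t) := by rw [← h3]; group
      _ = 1 := by rw [haa, ← map_mul, htt, map_one, one_mul]
  have key : ∀ b1 b2 : Bool, (b1, b2) ≠ (false, false) → bits ((D e0).tyHom a) = (b1, b2) →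
      ∃ m, MulAut.conj m * a * (MulAut.conj m)⁻¹ = a * MulAut.conj t := by
    intro b1 b2 hne hbits
    obtain ⟨e', he⟩ := pure1 e0 haa hbits hne
    have h1 : (D e').HasTy (a * MulAut.conj t) (b1, b2, 0) := by
      have h2 := he.hasTy.mul ((D e').hasTy_conj t)
      rwa [Ty.mul_one] at h2
    have hQ : IsPGroup 2 (closure ({a * MulAut.conj t} : Set (MulAut L))) := by
      apply two_closure
      · rintro a rfl; exact h2
      · rintro a rfl b rfl; rfl
    obtain ⟨m, hm, _⟩ := exists_conj_pure (A := D e') _ hQ (subset_closure rfl) h2 (by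
      intro h; apply hne; exact congrArg (fun τ : Ty => (τ.1, τ.2.1)) h) h1
    refine ⟨m⁻¹, ?_⟩
    have h3 := hm.ext he
    calc MulAut.conj m⁻¹ * a * (MulAut.conj m⁻¹)⁻¹
        = (MulAut.conj m)⁻¹ * a * MulAut.conj m := by rw [map_inv, inv_inv]
      _ = (MulAut.conj m)⁻¹ * (MulAut.conj m * (a * MulAut.conj t) * (MulAut.conj m)⁻¹) *
          MulAut.conj m := by rw [h3]
      _ = a * MulAut.conj t := by group
  rcases wild_bits e0 hξ hb ha with h | h
  · exact key _ _ (by decide) h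
  · exact key _ _ (by decide) h

theorem tt_comm : ∀ τ : Ty, Ty.mul (true, true, 0) τ = τ.mul (true, true, 0) := by decide +kernel

include hξ hb in
theorem pol (β : MulAut L) (hβ : β * β = 1) :
    ∃ l, (MulAut.conj l * ξ * (MulAut.conj l)⁻¹) * β = β * (MulAut.conj l * ξ * (MulAut.conj l)⁻¹) := by
  obtain ⟨e', h0⟩ := pure1 e0 hξ hb (by decide)
  set A := D e' with hA
  by_cases hty : A.tyHom β = 1
  · obtain ⟨s, rfl⟩ := A.inner_iff.1 hty
    have hss : s * s = 1 := A.conj_injective (by rw [map_mul, hβ, map_one])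
    by_cases hs1 : s = 1
    · exact ⟨1, by rw [hs1, map_one, mul_one, one_mul, inv_one, mul_one, one_mul]⟩
    · obtain ⟨g, hg⟩ := cls e0 (A.x 0 2 1) s (A.x_sq 0 2 (by decide) 1) (x02_ne A) hss hs1
      refine ⟨g, conj_comm ?_⟩
      rw [← hg, MulAut.mul_apply, MulAut.mul_apply, MulAut.conj_inv_apply, MulAut.conj_apply]
      have h1 : g⁻¹ * (g * A.x 0 2 1 * g⁻¹) * g = A.x 0 2 1 := by group
      rw [h1, x02_one A h0]
  · obtain ⟨l, h1 | h1⟩ := A.inv_class β (by rintro rfl; exact hty (map_one _)) hβ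
    · obtain ⟨τ, hτ, h2⟩ := h1
      refine ⟨l⁻¹, ?_⟩
      have h3 := h0.mul h2
      rw [tt_comm] at h3
      have h4 := h3.ext (h2.mul h0)
      rw [map_inv]
      calc (MulAut.conj l)⁻¹ * ξ * (MulAut.conj l)⁻¹⁻¹ * β
          = (MulAut.conj l)⁻¹ * (ξ * (MulAut.conj l * β * (MulAut.conj l)⁻¹)) * MulAut.conj l := by
            group
        _ = (MulAut.conj l)⁻¹ * ((MulAut.conj l * β * (MulAut.conj l)⁻¹) * ξ) * MulAut.conj l := by
            rw [h4]
        _ = _ := by group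
    · exfalso
      apply hty
      have h2 := congrArg A.tyHom h1
      rw [map_mul, map_mul, map_inv, A.tyHom_conj, A.tyHom_conj, one_mul, inv_one, mul_one] at h2
      exact h2

end

end Cfsg.Agent.UGT.FL34.KF
end

private theorem dce_9c5f752ae8c7 : _root_.True := by
  try have : _root_.True := by simp only [_root_.Cfsg.Agent.UGT.FL34.KF.YY.congr_simp]
  exact _root_.True.intro
end

-- part: UGT/FL34/KF34
section
set_option linter.all false
open scoped Cfsg.Agent.FastGrp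

/-!
# `KF34`

* `wsmall` : 2-groups of `C_D(ξ, a)`, `a` of field or graph type, have order at most 2;
* `gen` : `⟨Y, Y^p⟩ = D`;
* `kf34 : KF34`.
-/

set_option autoImplicit false
set_option linter.constructorNameAsVariable false
set_option linter.unusedVariables false

namespace Cfsg.Agent.UGT.FL34.KF

open Subgroup Cfsg.Agent.UGT.FL34 Matrix
open Cfsg.Agent.SporadicA.FieldFour
open Cfsg.Agent.LThreeFour Cfsg.Agent.LThreeFour.Dat
open Cfsg.Agent.ONType.Psl (PSL3 SL3 T t tm)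
open Cfsg.Agent.ClassicalGeometry.AutPSL.Root
open Cfsg.Agent.ClassicalGeometry.AutPSL.Auto
open Cfsg.Agent.UGT.ThEL34 (fx mem_fx Wild)

variable {L : Type*} [Group L]

/-! ### `wsmall` -/

set_option maxRecDepth 100000 in
theorem small_code : ∀ ρ : Ty, (ρ.1, ρ.2.1) = (true, false) ∨ (ρ.1, ρ.2.1) = (false, true) →
    ∀ q : Code, ctau (true, true, 0) q = q → cmul (ctau ρ q) q = cone →
    ∀ p : Code, ctau (true, true, 0) p = p → cact q ρ p = p → p = cone ∨ p = ⟨0, 0, 1⟩ := by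
  decide +kernel

theorem wsmall (e0 : PSL3 ≃* L) {ξ : MulAut L} (hξ : ξ * ξ = 1)
    (hb : bits ((D e0).tyHom ξ) = (true, true)) (a : MulAut L) (ha : Wild ξ a) (hc : a * ξ = ξ * a)
    (W : Subgroup L) (hW : IsPGroup 2 W) (hf : ∀ w ∈ W, ξ w = w ∧ a w = w) : Nat.card W ≤ 2 := by
  have hfin : Finite L := (D e0).finite
  have h2 : Fact (Nat.Prime 2) := ⟨Nat.prime_two⟩
  have hP1 : IsPGroup 2 (closure ({ξ, a} : Set (MulAut L))) := by
    apply two_closure
    · rintro b (rfl | rfl)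
      · exact hξ
      · exact ha.sq
    · rintro b (rfl | rfl) c (rfl | rfl)
      · rfl
      · exact hc.symm
      · exact hc
      · rfl
  have hP2 : IsPGroup 2 (W.map (MulAut.conj : L →* MulAut L)) := hW.map _
  have hnorm : _root_.Subgroup.closure ({ξ, a} : Set (MulAut L)) ≤
      normalizer (W.map (MulAut.conj : L →* MulAut L) : Set (MulAut L)) := by
    refine le_trans ?_ (centralizer_le_normalizer _)
    rw [closure_le]
    rintro b (rfl | rfl)
    · rw [SetLike.mem_coe, mem_centralizer_iff]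
      rintro _ ⟨w, hw, rfl⟩
      exact (conj_comm (hf w hw).1).symm
    · rw [SetLike.mem_coe, mem_centralizer_iff]
      rintro _ ⟨w, hw, rfl⟩
      exact (conj_comm (hf w hw).2).symm
  have hQ := hP1.to_sup_of_normal_right' hP2 hnorm
  have hξm : ξ ∈ _root_.Subgroup.closure ({ξ, a} : Set (MulAut L)) := _root_.Subgroup.subset_closure (Set.mem_insert _ _)
  have ham : a ∈ closure ({ξ, a} : Set (MulAut L)) := _root_.Subgroup.subset_closure (Set.mem_insert_of_mem _ rfl)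
  obtain ⟨e', h0, hMT⟩ := pl e0 _ hQ (mem_sup_left hξm) hξ hb (by decide)
  set A := D e' with hA
  obtain ⟨q, ρ, hq⟩ := hMT a (mem_sup_left ham)
  have hρ : (ρ.1, ρ.2.1) = (true, false) ∨ (ρ.1, ρ.2.1) = (false, true) := by
    have h1 : A.tyHom a = ⟨ρ⟩ := hq.hasTy.tyHom
    have h3 := wild_bits e' hξ (by rw [bits_indep e0 e', hb]) ha
    rw [h1] at h3
    exact h3
  have c1 : ctau (true, true, 0) q = q := by
    have u1 := h0.cd.mul hq
    have u2 := hq.mul h0.cd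
    rw [hc] at u2
    have u3 := (u1.unique u2).2
    rw [ctau_cone, cone_cmul, cmul_cone] at u3
    exact u3.symm
  have c2 : cmul (ctau ρ q) q = cone := by
    have u1 := hq.mul hq
    rw [ha.sq] at u1
    exact u1.one.2
  have key : ∀ w : W, (w : L) = A.el cone ∨ (w : L) = A.el ⟨0, 0, 1⟩ := by
    intro w
    obtain ⟨p, hp⟩ := conj_mem (hMT (MulAut.conj (w : L)) (mem_sup_right ⟨w, w.2, rfl⟩))
    obtain ⟨h1, h3⟩ := hf w w.2
    rw [hp, h0.el] at h1
    rw [hp, hq.apply] at h3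
    rcases small_code ρ hρ q c1 c2 p (A.inj h1) (A.inj h3) with h4 | h4
    · exact Or.inl (by rw [hp, h4])
    · exact Or.inr (by rw [hp, h4])
  classical
  have hinj : Function.Injective (fun w : W => decide ((w : L) = A.el cone)) := by
    intro w w' h
    have h1 : (w : L) = A.el cone ↔ (w' : L) = A.el cone := by
      have h3 := congrArg (fun b => b = true) h
      simpa using h3
    apply Subtype.ext
    rcases key w with h3 | h3
    · rw [h3, h1.1 h3]
    · rcases key w' with h4 | h4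
      · rw [h4, h1.2 h4]
      · rw [h3, h4]
  have h5 := Nat.card_le_card_of_injective _ hinj
  rwa [Nat.card_eq_fintype_card (α := Bool), Fintype.card_bool] at h5

/-! ### `gen` -/

/-- the matrix of `x₀₂(ω)` -/
def P0 : M3 := ⟨.o, .z, .w, .z, .o, .z, .z, .z, .o⟩

/-- a letter: an element of `Y` or its conjugate under `x₀₂(ω)` -/
def letter (l : Bool × M3) : M3 := if l.1 then M3.mul (M3.mul P0 l.2) P0 else l.2

/-- value of a word -/
def wval : List (Bool × M3) → M3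
  | [] => ⟨.o, .z, .z, .z, .o, .z, .z, .z, .o⟩
  | l :: w => M3.mul (letter l) (wval w)

/-- letters in `Y` -/
def wok : List (Bool × M3) → Bool
  | [] => true
  | l :: w => (l.2.unit && (M3.cube l.2).isSc) && wok w

/-- the code of a root matrix -/
def rm (i j : Fin 3) (u : F4) : M3 := M3.ofM (tm i j u)

def wrd : List ((Fin 3 × Fin 3 × F4) × List (Bool × M3)) :=
  [((0, 1, .o), [(false, ⟨.o, .w, .w, .v, .z, .w, .v, .v, .o⟩), (true, ⟨.z, .z, .v, .z, .v, .z, .v, .z, .v⟩), (false, ⟨.o, .v, .v, .w, .z, .v, .w, .w, .o⟩), (true, ⟨.z, .z, .v, .z, .v, .z, .v, .z, .v⟩), (false, ⟨.o, .w, .w, .v, .z, .w, .v, .v, .o⟩)]),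
   ((0, 2, .o), [(false, ⟨.z, .z, .v, .z, .v, .z, .v, .z, .v⟩), (true, ⟨.z, .z, .v, .z, .v, .z, .v, .z, .v⟩), (false, ⟨.o, .z, .o, .z, .o, .z, .o, .z, .z⟩), (true, ⟨.o, .z, .o, .z, .o, .z, .o, .z, .z⟩), (false, ⟨.z, .z, .v, .z, .v, .z, .v, .z, .v⟩), (true, ⟨.z, .z, .v, .z, .v, .z, .v, .z, .v⟩)]),
   ((1, 0, .o), [(false, ⟨.o, .o, .w, .o, .z, .v, .v, .w, .o⟩), (true, ⟨.o, .z, .o, .z, .o, .z, .o, .z, .z⟩), (false, ⟨.o, .v, .v, .w, .z, .v, .w, .w, .o⟩), (true, ⟨.o, .z, .o, .z, .o, .z, .o, .z, .z⟩), (false, ⟨.o, .v, .w, .w, .z, .o, .v, .o, .o⟩)]),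
   ((1, 2, .o), [(false, ⟨.o, .w, .w, .v, .z, .w, .v, .v, .o⟩), (true, ⟨.o, .z, .o, .z, .o, .z, .o, .z, .z⟩), (false, ⟨.o, .v, .v, .w, .z, .v, .w, .w, .o⟩), (true, ⟨.o, .z, .o, .z, .o, .z, .o, .z, .z⟩), (false, ⟨.o, .w, .w, .v, .z, .w, .v, .v, .o⟩)]),
   ((2, 0, .o), [(true, ⟨.z, .z, .v, .z, .v, .z, .v, .z, .v⟩), (false, ⟨.o, .z, .o, .z, .o, .z, .o, .z, .z⟩), (true, ⟨.o, .z, .o, .z, .o, .z, .o, .z, .z⟩), (false, ⟨.z, .z, .v, .z, .v, .z, .v, .z, .v⟩), (true, ⟨.z, .z, .v, .z, .v, .z, .v, .z, .v⟩)]),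
   ((2, 1, .o), [(false, ⟨.o, .o, .w, .o, .z, .v, .v, .w, .o⟩), (true, ⟨.z, .z, .v, .z, .v, .z, .v, .z, .v⟩), (false, ⟨.o, .v, .v, .w, .z, .v, .w, .w, .o⟩), (true, ⟨.z, .z, .v, .z, .v, .z, .v, .z, .v⟩), (false, ⟨.o, .v, .w, .w, .z, .o, .v, .o, .o⟩)]),
   ((0, 2, .w), [(false, ⟨.z, .z, .v, .z, .v, .z, .v, .z, .v⟩), (true, ⟨.z, .z, .v, .z, .v, .z, .v, .z, .v⟩), (false, ⟨.z, .z, .v, .z, .v, .z, .v, .z, .v⟩), (true, ⟨.z, .z, .v, .z, .v, .z, .v, .z, .v⟩), (false, ⟨.z, .z, .v, .z, .v, .z, .v, .z, .v⟩)])]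

theorem wrd_ok : ∀ r ∈ wrd, r.1.1 ≠ r.1.2.1 ∧ wok r.2 = true ∧
    sim (wval r.2) (rm r.1.1 r.1.2.1 r.1.2.2) = true := by
  decide +kernel

/-- `x₀₂(ω)` -/
noncomputable def pp : PSL3 := t 0 2 F4.w

theorem pp_eq : pp = pr (_root_.Cfsg.Agent.ONType.Psl.T 0 2 F4.w) := rfl

theorem T_P0 : (_root_.Cfsg.Agent.ONType.Psl.T 0 2 F4.w).1 = P0.toM := by
  change tm 0 2 F4.w = P0.toM
  ext i j
  fin_cases i <;> fin_cases j <;> rfl

theorem pp_inv : pp⁻¹ = pp := datPSL.x_inv 0 2 (by decide) F4.w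

theorem word_mem (H : Subgroup PSL3)
    (hH : ∀ y, y ^ 3 = 1 → x0 y = y → y ∈ H ∧ pp * y * pp⁻¹ ∈ H) :
    ∀ w : List (Bool × M3), wok w = true → ∃ M : SL3, M.1 = (wval w).toM ∧ pr M ∈ H := by
  intro w
  induction w with
  | nil =>
    intro _
    refine ⟨1, ?_, by rw [map_one]; exact one_mem _⟩
    ext i j
    fin_cases i <;> fin_cases j <;> rfl
  | cons l w ih =>
    intro h
    unfold wok at h
    rw [Bool.and_eq_true, Bool.and_eq_true] at h
    obtain ⟨⟨h1, h2⟩, h3⟩ := h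
    obtain ⟨M, hM, hMH⟩ := ih h3
    obtain ⟨k1, k2⟩ := hH (pr (sl l.2 (unit_det h1))) ((pow_three_iff rfl).2 h2) (fix_x0_mem h1)
    have key : ∃ N : SL3, N.1 = (letter l).toM ∧ pr N ∈ H := by
      unfold letter
      rcases hl : l.1 with _ | _
      · exact ⟨sl l.2 (unit_det h1), rfl, k1⟩
      · refine ⟨_root_.Cfsg.Agent.ONType.Psl.T 0 2 F4.w * sl l.2 (unit_det h1) * _root_.Cfsg.Agent.ONType.Psl.T 0 2 F4.w, ?_, ?_⟩
        · rw [if_pos rfl, M3.toM_mul, M3.toM_mul, ← T_P0]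
          rfl
        · rw [map_mul, map_mul, ← pp_eq]
          rw [pp_inv] at k2
          exact k2
    obtain ⟨N, hN, hNH⟩ := key
    refine ⟨N * M, ?_, by rw [map_mul]; exact mul_mem hNH hMH⟩
    change N.1 * M.1 = (M3.mul (letter l) (wval w)).toM
    rw [M3.toM_mul, hN, hM]

theorem root_mem (H : Subgroup PSL3)
    (hH : ∀ y, y ^ 3 = 1 → x0 y = y → y ∈ H ∧ pp * y * pp⁻¹ ∈ H)
    (r : (Fin 3 × Fin 3 × F4) × List (Bool × M3)) (hr : r ∈ wrd) : t r.1.1 r.1.2.1 r.1.2.2 ∈ H := by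
  obtain ⟨h0, h1, h2⟩ := wrd_ok r hr
  obtain ⟨M, hM, hMH⟩ := word_mem H hH r.2 h1
  obtain ⟨c, hc⟩ := mem_sim h2
  have h3 : pr (_root_.Cfsg.Agent.ONType.Psl.T r.1.1 r.1.2.1 r.1.2.2) = pr M := by
    apply pr_eq_of_smul (c := c)
    rw [hM, hc, M3.toM_smul]
    congr 1
    unfold rm
    rw [M3.toM_ofM]
    rfl
  change pr (_root_.Cfsg.Agent.ONType.Psl.T r.1.1 r.1.2.1 r.1.2.2) ∈ H
  rw [h3]
  exact hMH

theorem gen0 (H : Subgroup PSL3)
    (hH : ∀ y, y ^ 3 = 1 → x0 y = y → y ∈ H ∧ pp * y * pp⁻¹ ∈ H) : H = ⊤ := by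
  have h := root_mem H hH
  have h01 : t 0 1 1 ∈ H := (h _ (List.mem_cons_self) :)
  have h02 : t 0 2 1 ∈ H := (h _ (List.mem_cons_of_mem _ List.mem_cons_self) :)
  have h10 : t 1 0 1 ∈ H := (h _ (List.mem_cons_of_mem _ (List.mem_cons_of_mem _ List.mem_cons_self)) :)
  have h12 : t 1 2 1 ∈ H := (h _ (List.mem_cons_of_mem _ (List.mem_cons_of_mem _
    (List.mem_cons_of_mem _ List.mem_cons_self))) :)
  have h20 : t 2 0 1 ∈ H := (h _ (List.mem_cons_of_mem _ (List.mem_cons_of_mem _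
    (List.mem_cons_of_mem _ (List.mem_cons_of_mem _ List.mem_cons_self)))) :)
  have h21 : t 2 1 1 ∈ H := (h _ (List.mem_cons_of_mem _ (List.mem_cons_of_mem _
    (List.mem_cons_of_mem _ (List.mem_cons_of_mem _ (List.mem_cons_of_mem _ List.mem_cons_self))))) :)
  have h02w : t 0 2 F4.w ∈ H := (h _ (List.mem_cons_of_mem _ (List.mem_cons_of_mem _
    (List.mem_cons_of_mem _ (List.mem_cons_of_mem _ (List.mem_cons_of_mem _
      (List.mem_cons_of_mem _ List.mem_cons_self)))))) :)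
  apply gen_pair datPSL
  · intro i j hij
    fin_cases i <;> fin_cases j
    · exact absurd rfl hij
    · exact h01
    · exact h02
    · exact h10
    · exact absurd rfl hij
    · exact h12
    · exact h20
    · exact h21
    · exact absurd rfl hij
  · intro u
    cases u
    · have := datPSL.x_zero 0 2 (by decide)
      change datPSL.x 0 2 0 ∈ H
      rw [this]; exact one_mem _
    · exact h02
    · exact h02w
    · have h3 := datPSL.x_add 0 2 (by decide) 1 F4.w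
      change datPSL.x 0 2 (1 + F4.w) ∈ H
      rw [← h3]
      exact mul_mem h02 h02w

theorem gen_code : ∀ q : Code, q = cmul ⟨0, 0, 1⟩ (ctau (true, true, 0) q) →
    ctau (true, true, 0) (cmul ⟨0, 0, F4.w⟩ q) = cmul ⟨0, 0, F4.w⟩ q := by decide +kernel

theorem gen (e0 : PSL3 ≃* L) {ξ : MulAut L} (hξ : ξ * ξ = 1)
    (hb : bits ((D e0).tyHom ξ) = (true, true)) (p b : L) (hbb : b * b = 1) (hb1 : b ≠ 1)
    (hξb : ξ b = b) (hpb : p * b = b * p)
    (hp : MulAut.conj p * ξ * (MulAut.conj p)⁻¹ = ξ * MulAut.conj b) (H : Subgroup L)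
    (hH : ∀ y, y ^ 3 = 1 → ξ y = y → y ∈ H ∧ p * y * p⁻¹ ∈ H) : H = ⊤ := by
  obtain ⟨e', h0, rfl⟩ := plx' e0 hξ hb hbb hb1 hξb
  set A := D e' with hA
  obtain ⟨q, rfl⟩ := (comm_iff A).1 hpb
  have h1 : A.el q = A.x 0 2 1 * ξ (A.el q) := by
    apply A.conj_injective
    rw [map_mul, conj_map ξ (A.el q)]
    have h2 : MulAut.conj (A.el q) = ξ * MulAut.conj (A.x 0 2 1) * MulAut.conj (A.el q) * ξ⁻¹ := by
      rw [← hp]; group
    have h3 := conj_comm hξb
    nth_rw 1 [h2]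
    rw [h3]
    group
  rw [h0.el, ← A.el_x02, A.el_mul] at h1
  have h2 := gen_code q (A.inj h1)
  set c := A.el (cmul ⟨0, 0, F4.w⟩ q) with hc
  have hξc : ξ c = c := by rw [hc, h0.el, h2]
  have hpc : A.el q = A.x 0 2 F4.w * c := by
    rw [hc, ← A.el_mul, A.el_x02, ← mul_assoc, A.x_sq 0 2 (by decide), one_mul]
  have h3 : ∀ y : L, y ^ 3 = 1 → ξ y = y → y ∈ H ∧ A.x 0 2 F4.w * y * (A.x 0 2 F4.w)⁻¹ ∈ H := by
    intro y hy hξy
    refine ⟨(hH y hy hξy).1, ?_⟩
    have h4 := (hH (c⁻¹ * y * c) (by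
      have h5 := conj_pow (i := 3) (a := c⁻¹) (b := y)
      rw [inv_inv] at h5
      rw [h5, hy, mul_one, inv_mul_cancel]) (by
      rw [map_mul, map_mul, map_inv, hξc, hξy])).2
    rw [hpc] at h4
    have h5 : A.x 0 2 F4.w * c * (c⁻¹ * y * c) * (A.x 0 2 F4.w * c)⁻¹ =
        A.x 0 2 F4.w * y * (A.x 0 2 F4.w)⁻¹ := by group
    rwa [h5] at h4
  have h4 : H.comap (e' : PSL3 →* L) = ⊤ := by
    apply gen0
    intro y hy hxy
    have h5 : (e' y) ^ 3 = 1 := by rw [← map_pow, hy, map_one]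
    have h6 : ξ (e' y) = e' y := by
      rw [eq_tr e' isTau_x0 h0, tr_e, hxy]
    obtain ⟨h7, h8⟩ := h3 _ h5 h6
    refine ⟨h7, ?_⟩
    rw [mem_comap]
    change (e' (pp * y * pp⁻¹) :) ∈ H
    rw [map_mul, map_mul, map_inv]
    exact h8
  rw [eq_top_iff]
  intro l _
  have h5 : e'.symm l ∈ H.comap (e' : PSL3 →* L) := by rw [h4]; exact mem_top _
  rw [mem_comap] at h5
  change e' (e'.symm l) ∈ H at h5
  rwa [MulEquiv.apply_symm_apply] at h5

/-- **`KF34`** -/
theorem kf34 : LTF.Defs.KF34 := by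
  rintro X _ ⟨F, _, _, hF, ⟨e⟩⟩ ξ hξ E hE h1
  obtain ⟨e'⟩ := nonempty_psl_equiv (n := Fin 3) F hF
  let e0 : PSL3 ≃* X := e'.trans e.symm
  have hb := bits_of_oddC e0 hξ hE h1
  exact
    { toFacts := facts e0 hξ hb
      core := core e0 hξ hb
      inv := inv e0 hξ hb
      ycomm := ycomm e0 hξ hb
      nine := nine e0 hξ hb
      wone := wone' e0 hξ hb
      c2 := KF.c2 e0
      cls := cls e0
      cent := cent e0
      four := four e0
      q8 := q8 e0 hξ hb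
      wsmall := wsmall e0 hξ hb
      pol := pol e0 hξ hb
      gen := gen e0 hξ hb }

end Cfsg.Agent.UGT.FL34.KF

private theorem dce_0b399a7229c8 : _root_.True := by
  try have : _root_.True := by simp only [_root_.Cfsg.Agent.UGT.FL34.KF.wok.eq_def]
  exact _root_.True.intro
end

-- part: UGT/CE/Facts3
section
prune_inst 0x4c00002200100100000000012200000441000000000630001c96104000000032009022701082016114002a2002000004000000050001000000000000040000120800252049348a104060087809000000000000000000000000000000000000000000000000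
set_option linter.all false
open scoped Cfsg.Agent.FastGrp

-- part: UGT/CE/Words
section
/-!
# `C(e) ≤ N(L)` for bad involutions `e`, VI: computations in `PSL(3,4)`
-/

set_option autoImplicit false
set_option linter.constructorNameAsVariable false
set_option linter.unusedVariables false

namespace Cfsg.Agent.UGT.CE.L34

open Matrix
open Cfsg.Agent.SporadicA.FieldFour
open Cfsg.Agent.SporadicA.FieldFour.F4
open Cfsg.Agent.LThreeFour Cfsg.Agent.LThreeFour.Dat
open Cfsg.Agent.ONType.Psl (PSL3 SL3 T t tm)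
open Cfsg.Agent.ONType.OuterL (rv rv_ne rv_rv J Jm coe_J cj_J_T itr_T fld_T cj_eq_of charP_two
  neg_eq det_Jm)
open Cfsg.Agent.ClassicalGeometry.AutPSL.Root
open Cfsg.Agent.ClassicalGeometry.AutPSL.Auto
open Cfsg.Agent.UGT.ThEL34 (fx mem_fx)
open Cfsg.Agent.UGT.FL34

/-! ### Words -/

/-- `m` represents an element of `H` -/
def InH (H : Subgroup PSL3) (m : M3) : Prop := ∃ h : m.det = 1, pr (sl m h) ∈ H

theorem det_mul (m n : M3) : (M3.mul m n).det = m.det * n.det := by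
  rw [← M3.det_toM, M3.toM_mul, Matrix.det_mul, M3.det_toM, M3.det_toM]

theorem InH.mul {H : Subgroup PSL3} {m n : M3} (hm : InH H m) (hn : InH H n) : InH H (M3.mul m n) := by
  obtain ⟨h1, h2⟩ := hm
  obtain ⟨h3, h4⟩ := hn
  refine ⟨by rw [det_mul, h1, h3, one_mul], ?_⟩
  have h5 : sl (M3.mul m n) (by rw [det_mul, h1, h3, one_mul]) = sl m h1 * sl n h3 :=
    Subtype.ext (M3.toM_mul m n)
  rw [h5, map_mul]
  exact mul_mem h2 h4

/-- the identity matrix -/
def m1 : M3 := ⟨.o, .z, .z, .z, .o, .z, .z, .z, .o⟩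

theorem InH.one (H : Subgroup PSL3) : InH H m1 := by
  refine ⟨by decide, ?_⟩
  have h1 : pr (sl m1 (by decide)) = 1 := (pr_one_iff (m := m1) rfl).2 (by decide)
  rw [h1]
  exact one_mem H

/-- the product of a word -/
def wd {n : ℕ} (gs : Fin n → M3) (w : List (Fin n)) : M3 := w.foldr (fun i m => M3.mul (gs i) m) m1

theorem InH.wd {H : Subgroup PSL3} {n : ℕ} {gs : Fin n → M3} (h : ∀ i, InH H (gs i)) (w : List (Fin n)) :
    InH H (wd gs w) := by
  induction w with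
  | nil => exact InH.one H
  | cons i w ih => exact (h i).mul ih

theorem InH.sim {H : Subgroup PSL3} {m n : M3} (hm : InH H m) (h : sim m n = true) (hn : n.det = 1) :
    InH H n := by
  obtain ⟨h1, h2⟩ := hm
  refine ⟨hn, ?_⟩
  obtain ⟨c, hc⟩ := mem_sim h
  have h3 : pr (sl n hn) = pr (sl m h1) := by
    apply pr_eq_of_smul (c := c)
    show m.toM = c • n.toM
    rw [← M3.toM_smul, ← hc]
  rw [h3]
  exact h2

/-- the matrix of `x_ij(u)` -/
def xm (i j : Fin 3) (u : F4) : M3 := M3.ofM (tm i j u)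

theorem InH.t {H : Subgroup PSL3} {i j : Fin 3} {u : F4} (h : InH H (xm i j u)) : t i j u ∈ H := by
  obtain ⟨h1, h2⟩ := h
  have h3 : sl (xm i j u) h1 = _root_.Cfsg.Agent.ONType.Psl.T i j u := Subtype.ext (M3.toM_ofM _)
  rw [h3] at h2
  exact h2

theorem InH.of_t {H : Subgroup PSL3} {i j : Fin 3} {u : F4} (h : Cfsg.Agent.ONType.Psl.t i j u ∈ H) (h1 : (xm i j u).det = 1) :
    InH H (xm i j u) := by
  refine ⟨h1, ?_⟩
  have h3 : sl (xm i j u) h1 = _root_.Cfsg.Agent.ONType.Psl.T i j u := Subtype.ext (M3.toM_ofM _)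
  rw [h3]
  exact h

theorem det_xm : ∀ (i j : Fin 3) (u : F4), i ≠ j → (xm i j u).det = 1 := by decide +kernel

/-- the generators of `⟨SL(3,2), Y⟩` -/
def gf : Fin 7 → M3 := ![xm 0 1 1, xm 1 2 1, xm 0 2 1, xm 1 0 1, xm 2 1 1, xm 2 0 1, R2]

/-- the generators of `⟨SL(2,4), Y⟩` -/
def gg : Fin 5 → M3 := ![xm 0 2 1, xm 0 2 F4.w, xm 2 0 1, xm 2 0 F4.w, R2]

/-- the generators of `⟨Y, Y^p⟩` -/
def gy : Fin 4 → M3 := ![R1, R2, M3.mul (M3.mul (xm 0 2 F4.w) R1) (xm 0 2 F4.w),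
  M3.mul (M3.mul (xm 0 2 F4.w) R2) (xm 0 2 F4.w)]

theorem word_f : sim (wd gf [0, 3, 5, 6, 3, 6, 3]) (xm 0 2 F4.w) = true := by decide +kernel

theorem word_g : sim (wd gg [0, 2, 3, 4, 1, 3, 4, 1, 2]) (xm 0 1 1) = true ∧
    sim (wd gg [3, 4, 4, 1, 2, 1, 4, 3]) (xm 0 1 F4.w) = true ∧
    sim (wd gg [3, 4, 1, 2, 1, 4, 4, 3]) (xm 1 2 1) = true ∧
    sim (wd gg [3, 4, 1, 3, 1, 4, 4, 3]) (xm 1 2 F4.w) = true := by decide +kernel

theorem word_y : sim (wd gy [0, 3, 0, 3, 0, 1, 2, 1]) (xm 0 1 1) = true ∧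
    sim (wd gy [1, 2, 1, 3, 0, 3]) (xm 0 1 F4.w) = true ∧
    sim (wd gy [1, 2, 0, 3, 3, 0, 2, 1]) (xm 1 2 1) = true ∧
    sim (wd gy [1, 1, 2, 1, 2, 1, 1]) (xm 1 2 F4.w) = true ∧
    sim (wd gy [0, 2, 0, 0, 2, 2, 0, 2]) (xm 0 2 1) = true ∧
    sim (wd gy [0, 2, 0, 2, 0]) (xm 0 2 F4.w) = true ∧
    sim (wd gy [2, 0, 0, 2, 2, 0, 2]) (xm 2 0 1) = true := by decide +kernel

/-! ### Generation -/

theorem inH_xm {H : Subgroup PSL3} {i j : Fin 3} {u : F4} (hij : i ≠ j)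
    (h : Cfsg.Agent.ONType.Psl.t i j u ∈ H) : InH H (xm i j u) := InH.of_t h (det_xm i j u hij)

theorem det_R1 : R1.det = 1 := unit_det R1_unit

theorem det_R2 : R2.det = 1 := unit_det R2_unit

theorem t_mul (i j : Fin 3) (hij : i ≠ j) (u v : F4) : t i j u * t i j v = t i j (u + v) :=
  datPSL.x_add i j hij u v

theorem all_t {H : Subgroup PSL3} {i j : Fin 3} (hij : i ≠ j) (h1 : t i j 1 ∈ H) (h2 : t i j F4.w ∈ H)
    (u : F4) : t i j u ∈ H := by
  have h0 : t i j 0 = 1 := datPSL.x_zero i j hij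
  have h3 : ∀ u : F4, u = 0 ∨ u = 1 ∨ u = F4.w ∨ u = 1 + F4.w := by decide
  rcases h3 u with rfl | rfl | rfl | rfl
  · rw [h0]; exact one_mem H
  · exact h1
  · exact h2
  · rw [← t_mul i j hij]
    exact mul_mem h1 h2

/-- `⟨SL(3,2), Y⟩` -/
theorem field_gen {H : Subgroup PSL3} (h1 : ∀ i j : Fin 3, i ≠ j → t i j 1 ∈ H) (h2 : pr (sl R2 det_R2) ∈ H)
    (u : F4) : t 0 2 u ∈ H := by
  have hg : ∀ i, InH H (gf i) := by
    intro i
    fin_cases i
    · exact inH_xm (by decide) (h1 0 1 (by decide))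
    · exact inH_xm (by decide) (h1 1 2 (by decide))
    · exact inH_xm (by decide) (h1 0 2 (by decide))
    · exact inH_xm (by decide) (h1 1 0 (by decide))
    · exact inH_xm (by decide) (h1 2 1 (by decide))
    · exact inH_xm (by decide) (h1 2 0 (by decide))
    · exact ⟨det_R2, h2⟩
  exact all_t (by decide) (h1 0 2 (by decide))
    (InH.t (InH.sim (InH.wd hg _) word_f (det_xm _ _ _ (by decide)))) u

/-- `⟨SL(2,4), Y⟩` -/
theorem graph_gen {H : Subgroup PSL3} (h1 : ∀ u, t 0 2 u ∈ H) (h1' : ∀ u, t 2 0 u ∈ H)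
    (h2 : pr (sl R2 det_R2) ∈ H) (u : F4) : t 0 1 u ∈ H ∧ t 1 2 u ∈ H := by
  have hg : ∀ i, InH H (gg i) := by
    intro i
    fin_cases i
    · exact inH_xm (by decide) (h1 _)
    · exact inH_xm (by decide) (h1 _)
    · exact inH_xm (by decide) (h1' _)
    · exact inH_xm (by decide) (h1' _)
    · exact ⟨det_R2, h2⟩
  have hw : ∀ {i j : Fin 3} {u : F4} {w : List (Fin 5)}, i ≠ j → sim (wd gg w) (xm i j u) = true →
      t i j u ∈ H := fun hij hw => InH.t (InH.sim (InH.wd hg _) hw (det_xm _ _ _ hij))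
  obtain ⟨w1, w2, w3, w4⟩ := word_g
  exact ⟨all_t (by decide) (hw (by decide) w1) (hw (by decide) w2) u,
    all_t (by decide) (hw (by decide) w3) (hw (by decide) w4) u⟩

/-- `⟨Y, Y^p⟩`, `p = x_02(w)` -/
theorem y_gen {H : Subgroup PSL3} (h1 : pr (sl R1 det_R1) ∈ H) (h2 : pr (sl R2 det_R2) ∈ H)
    (h3 : t 0 2 F4.w * pr (sl R1 det_R1) * t 0 2 F4.w ∈ H)
    (h4 : t 0 2 F4.w * pr (sl R2 det_R2) * t 0 2 F4.w ∈ H) (u : F4) :
    t 0 1 u ∈ H ∧ t 1 2 u ∈ H ∧ t 0 2 u ∈ H ∧ t 2 0 1 ∈ H := by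
  have hp : (xm 0 2 F4.w).det = 1 := det_xm _ _ _ (by decide)
  have hps : sl (xm 0 2 F4.w) hp = _root_.Cfsg.Agent.ONType.Psl.T 0 2 F4.w := Subtype.ext (M3.toM_ofM _)
  have hP : ∀ (R : M3) (hR : R.det = 1), t 0 2 F4.w * pr (sl R hR) * t 0 2 F4.w ∈ H →
      InH H (M3.mul (M3.mul (xm 0 2 F4.w) R) (xm 0 2 F4.w)) := by
    intro R hR h
    refine ⟨by rw [det_mul, det_mul, hp, hR, one_mul, one_mul], ?_⟩
    have h5 : sl (M3.mul (M3.mul (xm 0 2 F4.w) R) (xm 0 2 F4.w))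
        (by rw [det_mul, det_mul, hp, hR, one_mul, one_mul]) =
        sl (xm 0 2 F4.w) hp * sl R hR * sl (xm 0 2 F4.w) hp :=
      Subtype.ext (by
        show (M3.mul (M3.mul (xm 0 2 F4.w) R) (xm 0 2 F4.w)).toM = _
        rw [M3.toM_mul, M3.toM_mul]; rfl)
    rw [h5, map_mul, map_mul, hps]
    exact h
  have hg : ∀ i, InH H (gy i) := by
    intro i
    fin_cases i
    · exact ⟨det_R1, h1⟩
    · exact ⟨det_R2, h2⟩
    · exact hP R1 det_R1 h3
    · exact hP R2 det_R2 h4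
  have hw : ∀ {i j : Fin 3} {u : F4} {w : List (Fin 4)}, i ≠ j → sim (wd gy w) (xm i j u) = true →
      t i j u ∈ H := fun hij hw => InH.t (InH.sim (InH.wd hg _) hw (det_xm _ _ _ hij))
  obtain ⟨w1, w2, w3, w4, w5, w6, w7⟩ := word_y
  exact ⟨all_t (by decide) (hw (by decide) w1) (hw (by decide) w2) u,
    all_t (by decide) (hw (by decide) w3) (hw (by decide) w4) u,
    all_t (by decide) (hw (by decide) w5) (hw (by decide) w6) u, hw (by decide) w7⟩

/-! ### The involutions of `SL(3,2)` and `SL(2,4)` -/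

/-- conjugating elements in `SL(3,2)` -/
def G21 : List M3 :=
  [⟨.z, .z, .o, .z, .o, .z, .o, .z, .z⟩,
   ⟨.z, .z, .o, .z, .o, .z, .o, .z, .o⟩,
   ⟨.z, .z, .o, .z, .o, .z, .o, .o, .z⟩,
   ⟨.z, .z, .o, .z, .o, .z, .o, .o, .o⟩,
   ⟨.z, .z, .o, .z, .o, .o, .o, .z, .z⟩,
   ⟨.z, .z, .o, .z, .o, .o, .o, .z, .o⟩,
   ⟨.z, .z, .o, .z, .o, .o, .o, .o, .z⟩,
   ⟨.z, .z, .o, .z, .o, .o, .o, .o, .o⟩,
   ⟨.z, .z, .o, .o, .z, .z, .z, .o, .z⟩,
   ⟨.z, .z, .o, .o, .z, .z, .z, .o, .o⟩,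
   ⟨.z, .z, .o, .o, .z, .o, .z, .o, .z⟩,
   ⟨.z, .z, .o, .o, .z, .o, .z, .o, .o⟩,
   ⟨.z, .o, .z, .z, .z, .o, .o, .z, .z⟩,
   ⟨.z, .o, .z, .z, .z, .o, .o, .z, .o⟩,
   ⟨.z, .o, .z, .z, .z, .o, .o, .o, .z⟩,
   ⟨.z, .o, .z, .z, .z, .o, .o, .o, .o⟩,
   ⟨.z, .o, .z, .o, .z, .z, .z, .z, .o⟩,
   ⟨.z, .o, .z, .o, .o, .z, .z, .z, .o⟩,
   ⟨.o, .z, .z, .z, .z, .o, .z, .o, .z⟩,
   ⟨.o, .z, .z, .z, .z, .o, .z, .o, .o⟩,
   ⟨.o, .z, .z, .z, .o, .z, .z, .z, .o⟩]

/-- conjugating elements in `SL(2,4)` -/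
def G15 : List M3 :=
  [⟨.z, .z, .o, .z, .o, .z, .o, .z, .z⟩,
   ⟨.z, .z, .o, .z, .o, .z, .o, .z, .o⟩,
   ⟨.z, .z, .o, .z, .o, .z, .o, .z, .w⟩,
   ⟨.z, .z, .o, .z, .o, .z, .o, .z, .v⟩,
   ⟨.z, .z, .w, .z, .o, .z, .v, .z, .z⟩,
   ⟨.z, .z, .w, .z, .o, .z, .v, .z, .o⟩,
   ⟨.z, .z, .w, .z, .o, .z, .v, .z, .w⟩,
   ⟨.z, .z, .w, .z, .o, .z, .v, .z, .v⟩,
   ⟨.z, .z, .v, .z, .o, .z, .w, .z, .z⟩,
   ⟨.z, .z, .v, .z, .o, .z, .w, .z, .o⟩,
   ⟨.z, .z, .v, .z, .o, .z, .w, .z, .w⟩,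
   ⟨.z, .z, .v, .z, .o, .z, .w, .z, .v⟩,
   ⟨.o, .z, .z, .z, .o, .z, .z, .z, .o⟩,
   ⟨.w, .z, .z, .z, .o, .z, .z, .z, .v⟩,
   ⟨.v, .z, .z, .z, .o, .z, .z, .z, .w⟩]

/-- quantification over the prime field -/
def allB (p : F4 → Bool) : Bool := p .z && p .o

theorem allB_iff {p : F4 → Bool} (h : allB p = true) {x : F4} (hx : x = .z ∨ x = .o) : p x = true := by
  unfold allB at h
  rw [Bool.and_eq_true] at h
  rcases hx with rfl | rfl
  · exact h.1
  · exact h.2

/-- an involution `m` is conjugate to `x_02(1)` by an element of the list -/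
def cjc (l : List M3) (m : M3) : Bool := !(eqb m.det .o) || (!(M3.isSc (M3.mul m m)) || (M3.isSc m ||
  exL (fun g => eqb g.det .o && sim (M3.mul g m) (M3.mul (xm 0 2 1) g)) l))

def chk21 : Bool := allB fun a => allB fun b => allB fun c => allB fun d => allB fun e => allB fun f =>
  allB fun g => allB fun h => allB fun i => cjc G21 ⟨a, b, c, d, e, f, g, h, i⟩

def chk15 : Bool := allF fun a => allF fun b => allF fun c => allF fun d =>
  cjc G15 ⟨a, .z, b, .z, .o, .z, c, .z, d⟩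

set_option maxRecDepth 100000 in
theorem chk21_eq : chk21 = true := by decide +kernel

set_option maxRecDepth 100000 in
theorem chk15_eq : chk15 = true := by decide +kernel

theorem conj_list {l : List M3} {m : M3} (hm : m.det = 1) (hc : cjc l m = true)
    (h2 : pr (sl m hm) * pr (sl m hm) = 1) (h1 : pr (sl m hm) ≠ 1) :
    ∃ g ∈ l, ∃ hg : g.det = 1, pr (sl g hg) * pr (sl m hm) * (pr (sl g hg))⁻¹ = t 0 2 1 := by
  have e1 : M3.isSc (M3.mul m m) = true := by
    apply (pr_one_iff (M := sl m hm * sl m hm) (M3.toM_mul m m).symm).1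
    rw [map_mul, h2]
  have e2 : M3.isSc m = false := by
    rw [Bool.eq_false_iff]
    intro h
    exact h1 ((pr_one_iff (M := sl m hm) rfl).2 h)
  have e3 : eqb m.det .o = true := (eqb_iff _ _).2 hm
  unfold cjc at hc
  rw [e1, e2, e3, Bool.not_true, Bool.false_or, Bool.false_or, Bool.false_or] at hc
  obtain ⟨g, hgl, hg⟩ := exL_iff hc
  rw [Bool.and_eq_true, eqb_iff] at hg
  refine ⟨g, hgl, hg.1, ?_⟩
  obtain ⟨c, hc⟩ := mem_sim hg.2
  have e4 : pr (sl g hg.1) * pr (sl m hm) = t 0 2 1 * pr (sl g hg.1) := by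
    have hx : sl (xm 0 2 1) (det_xm _ _ _ (by decide)) = _root_.Cfsg.Agent.ONType.Psl.T 0 2 1 := Subtype.ext (M3.toM_ofM _)
    show _ = pr (_root_.Cfsg.Agent.ONType.Psl.T 0 2 1) * _
    rw [← hx, ← map_mul, ← map_mul]
    symm
    apply pr_eq_of_smul (c := c)
    show g.toM * m.toM = c • ((xm 0 2 1).toM * g.toM)
    rw [← M3.toM_mul, ← M3.toM_mul, ← M3.toM_smul, ← hc]
  rw [e4]
  group

theorem f0_sl {g : M3} (hg : g.det = 1) (h : frM g = g) : f0 (pr (sl g hg)) = pr (sl g hg) := by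
  show lift (fld frob) (pr _) = pr _
  rw [lift_pr]
  congr 1
  apply Subtype.ext
  ext i j
  show frob (g.toM i j) = g.toM i j
  rw [← frM_toM, h]

theorem lev_toM {g : M3} (h : g.b = .z ∧ g.d = .z ∧ g.e = .o ∧ g.f = .z ∧ g.h = .z) :
    lev !![g.a, g.c; g.g, g.i] = g.toM := by
  obtain ⟨a, b, c, d, e, f, g, h, i⟩ := g
  obtain ⟨h1, h2, h3, h4, h5⟩ := h
  simp only at h1 h2 h3 h4 h5
  subst h1 h2 h3 h4 h5
  ext i j
  fin_cases i <;> fin_cases j <;> rfl

theorem g0_sl {g : M3} (hg : g.det = 1) (h : g.b = .z ∧ g.d = .z ∧ g.e = .o ∧ g.f = .z ∧ g.h = .z) :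
    g0 (pr (sl g hg)) = pr (sl g hg) := by
  have h1 := lev_toM h
  have h2 : (!![g.a, g.c; g.g, g.i] : Matrix (Fin 2) (Fin 2) F4).det = 1 := by
    rw [← lev_det, h1, M3.det_toM, hg]
  have h3 : phi4 ⟨_, h2⟩ = pr (sl g hg) := by
    show pr (levi _) = pr _
    congr 1
    exact Subtype.ext h1
  rw [← h3]
  exact fix_g0_mem _

theorem G21_fix : ∀ g ∈ G21, frM g = g := by decide +kernel

theorem G15_fix : ∀ g ∈ G15, g.b = .z ∧ g.d = .z ∧ g.e = .o ∧ g.f = .z ∧ g.h = .z := by decide +kernel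

theorem c2_val (a : ZMod 2) : c2 a = .z ∨ c2 a = .o := by
  fin_cases a
  · exact Or.inl c2_zero
  · exact Or.inr c2_one

/-- the involutions of `C(f0)` are conjugate -/
theorem conj_f0 {i : PSL3} (h : f0 i = i) (h2 : i * i = 1) (h1 : i ≠ 1) :
    ∃ g, f0 g = g ∧ g * i * g⁻¹ = t 0 2 1 := by
  obtain ⟨m, rfl⟩ := fix_f0_le h
  obtain ⟨M, hM⟩ : ∃ M, M = M3.ofM (Matrix.SpecialLinearGroup.map c2 m).1 := ⟨_, rfl⟩
  have hd : M.det = 1 := by
    rw [← M3.det_toM, hM, M3.toM_ofM]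
    exact (Matrix.SpecialLinearGroup.map c2 m).2
  have hi : phi2 m = pr (sl M hd) := by
    show pr _ = pr _
    congr 1
    apply Subtype.ext
    show _ = M.toM
    rw [hM, M3.toM_ofM]
  have hc : cjc G21 M = true := by
    have H := chk21_eq
    unfold chk21 at H
    have k : ∀ i j, (Matrix.SpecialLinearGroup.map c2 m).1 i j = .z ∨
      (Matrix.SpecialLinearGroup.map c2 m).1 i j = .o := fun i j => c2_val _
    have := allB_iff (allB_iff (allB_iff (allB_iff (allB_iff (allB_iff (allB_iff (allB_iff (allB_iff H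
      (k 0 0)) (k 0 1)) (k 0 2)) (k 1 0)) (k 1 1)) (k 1 2)) (k 2 0)) (k 2 1)) (k 2 2)
    rw [hM]
    exact this
  rw [hi] at h2 h1 ⊢
  obtain ⟨g, hg, hgd, hgc⟩ := conj_list hd hc h2 h1
  exact ⟨_, f0_sl hgd (G21_fix g hg), hgc⟩

/-- the involutions of `C(g0)` are conjugate -/
theorem conj_g0 {i : PSL3} (h : g0 i = i) (h2 : i * i = 1) (h1 : i ≠ 1) :
    ∃ g, g0 g = g ∧ g * i * g⁻¹ = t 0 2 1 := by
  obtain ⟨m, rfl⟩ := fix_g0_le h
  obtain ⟨M, hM⟩ : ∃ M, M = M3.ofM (levi m).1 := ⟨_, rfl⟩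
  have hd : M.det = 1 := by
    rw [← M3.det_toM, hM, M3.toM_ofM]
    exact (levi m).2
  have hi : phi4 m = pr (sl M hd) := by
    show pr _ = pr _
    congr 1
    apply Subtype.ext
    show _ = M.toM
    rw [hM, M3.toM_ofM]
  have hc : cjc G15 M = true := by
    have H := chk15_eq
    unfold chk15 at H
    have := allF_iff (allF_iff (allF_iff (allF_iff H (m.1 0 0)) (m.1 0 1)) (m.1 1 0)) (m.1 1 1)
    rw [hM]
    exact this
  rw [hi] at h2 h1 ⊢
  obtain ⟨g, hg, hgd, hgc⟩ := conj_list hd hc h2 h1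
  exact ⟨_, g0_sl hgd (G15_fix g hg), hgc⟩

/-! ### Orders -/

theorem card_SL32 : Nat.card (_root_.Matrix.SpecialLinearGroup (Fin 3) (ZMod 2)) = 168 := by
  have h := S0242.result (F := ZMod 2) (q := 2) (ZMod.card 2) 3 (by norm_num)
  rw [Fin.prod_univ_three] at h
  have h1 : (2 ^ 3 - 2 ^ ((0 : Fin 3) : ℕ)) * (2 ^ 3 - 2 ^ ((1 : Fin 3) : ℕ)) *
      (2 ^ 3 - 2 ^ ((2 : Fin 3) : ℕ)) = 168 := rfl
  rw [h1] at h
  omega

theorem card_SL24 : Nat.card (_root_.Matrix.SpecialLinearGroup (Fin 2) F4) = 60 := by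
  have h := S0242.result (F := F4) (q := 4) F4.card_eq 2 (by norm_num)
  rw [Fin.prod_univ_two] at h
  have h1 : (4 ^ 2 - 4 ^ ((0 : Fin 2) : ℕ)) * (4 ^ 2 - 4 ^ ((1 : Fin 2) : ℕ)) = 180 := rfl
  rw [h1] at h
  omega

theorem card_f0 : Nat.card (fx f0) = 168 := by
  rw [← card_SL32]
  symm
  apply Nat.card_congr
  let φ : _root_.Matrix.SpecialLinearGroup (Fin 3) (ZMod 2) →* fx f0 := phi2.codRestrict (fx f0) fix_f0_mem
  refine Equiv.ofBijective φ ⟨?_, ?_⟩
  · rw [injective_iff_map_eq_one]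
    intro m hm
    have h1 : pr (Matrix.SpecialLinearGroup.map c2 m) = 1 := congrArg Subtype.val hm
    rw [← map_one pr] at h1
    obtain ⟨c, hc⟩ := exists_smul_of_pr_eq h1.symm
    have h2 : ∀ i j, c2 (m.1 i j) = c * (1 : Matrix (Fin 3) (Fin 3) F4) i j := by
      intro i j
      exact congrFun (congrFun hc i) j
    have hdet : (Matrix.SpecialLinearGroup.map c2 m).1.det = 1 := (Matrix.SpecialLinearGroup.map c2 m).2
    have hc1 : c = 1 := by
      have h3 := h2 0 0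
      rw [Matrix.one_apply_eq, mul_one] at h3
      rcases c2_val (m.1 0 0) with h4 | h4
      · exfalso
        rw [h3] at h4
        rw [hc, h4] at hdet
        have : (F4.z • ((1 : SL3) : Matrix (Fin 3) (Fin 3) F4)) = 0 := zero_smul F4 _
        rw [this, Matrix.det_zero] at hdet
        exact zero_ne_one hdet
      · rw [h3] at h4; exact h4
    apply Subtype.ext
    ext i j
    apply c2_inj
    rw [h2, hc1, one_mul]
    show _ = c2 ((1 : Matrix (Fin 3) (Fin 3) (ZMod 2)) i j)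
    rw [Matrix.one_apply, Matrix.one_apply]
    split
    · exact c2_one.symm
    · exact c2_zero.symm
  · rintro ⟨l, hl⟩
    obtain ⟨m, hm⟩ := fix_f0_le hl
    exact ⟨m, Subtype.ext hm⟩

theorem card_g0 : Nat.card (fx g0) = 60 := by
  rw [← card_SL24]
  symm
  apply Nat.card_congr
  let φ : _root_.Matrix.SpecialLinearGroup (Fin 2) F4 →* fx g0 := phi4.codRestrict (fx g0) fix_g0_mem
  refine Equiv.ofBijective φ ⟨?_, ?_⟩
  · rw [injective_iff_map_eq_one]
    intro m hm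
    have h1 : pr (levi m) = 1 := congrArg Subtype.val hm
    rw [← map_one pr] at h1
    obtain ⟨c, hc⟩ := exists_smul_of_pr_eq h1.symm
    have h2 : ∀ i j, lev m.1 i j = c * (1 : Matrix (Fin 3) (Fin 3) F4) i j := by
      intro i j
      exact congrFun (congrFun hc i) j
    have hc1 : c = 1 := by
      have h3 := h2 1 1
      rw [Matrix.one_apply_eq, mul_one] at h3
      exact h3.symm
    apply Subtype.ext
    have h3 : ∀ i j, lev m.1 i j = (1 : Matrix (Fin 3) (Fin 3) F4) i j := by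
      intro i j
      rw [h2, hc1, one_mul]
    ext i j
    fin_cases i <;> fin_cases j
    · exact h3 0 0
    · exact h3 0 2
    · exact h3 2 0
    · exact h3 2 2
  · rintro ⟨l, hl⟩
    obtain ⟨m, hm⟩ := fix_g0_le hl
    exact ⟨m, Subtype.ext hm⟩

end Cfsg.Agent.UGT.CE.L34
end

-- part: UGT/CE/Base
section
/-!
# `C(e) ≤ N(L)` for bad involutions `e`, I: conjugates of `L` in `N(L)`

The lemmas `z1`-`z4`, `wfix`, `fixT` of `UGT/ThE/Base.lean` without the hypotheses `C(x), C(xt) ≤ N(L)` (structure `Pre`).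
-/

set_option autoImplicit false

open Subgroup

namespace Cfsg.Agent.UGT.CE.Base

open Cfsg.Agent.UGT.ThE.Base (IsT IsS comm_of_mem L_conj L_conj' K_le_M L_le_M K_conj K_conj' exists_central)

variable {G : Type*} [Group G]

/-- The common hypotheses: `L` simple, no two conjugates of `L` commute, `C(t) ≤ N(L)`. -/
structure Pre (L : Subgroup G) (x : G) : Prop where
  xx : x * x = 1
  xM : x ∈ normalizer (L : Set G)
  simp : ∀ N : Subgroup G, N ≤ L → (∀ l ∈ L, ∀ n ∈ N, l * n * l⁻¹ ∈ N) → N = ⊥ ∨ N = L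
  nc : ∀ g : G, ¬ ∀ l ∈ L, g * l * g⁻¹ ∈ centralizer (L : Set G)
  Ct : ∀ t, IsT L x t → ∀ c, c * t = t * c → c ∈ normalizer (L : Set G)
  perf : ∀ g : G, (∀ l ∈ L, g * l * g⁻¹ ∈ normalizer (L : Set G)) → ∀ l ∈ L,
    ∃ l' ∈ L, g * l * g⁻¹ * l' ∈ centralizer (L : Set G)

namespace Pre

variable {L : Subgroup G} {x : G} (H : Pre L x)
include H

theorem xi : x⁻¹ = x := inv_eq_of_mul_eq_one_left H.xx

theorem disj {l : G} (hl : l ∈ L) (hk : l ∈ centralizer (L : Set G)) : l = 1 := by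
  rcases H.simp (L ⊓ centralizer (L : Set G)) inf_le_left (fun l hl n hn =>
    mem_inf.mpr ⟨mul_mem (mul_mem hl hn.1) (inv_mem hl), K_conj (L_le_M hl) hn.2⟩) with h | h
  · exact mem_bot.mp (h ▸ (⟨hl, hk⟩ : l ∈ L ⊓ centralizer (L : Set G)))
  · exfalso
    apply H.nc 1
    intro l hl
    have : l ∈ L ⊓ centralizer (L : Set G) := h.symm ▸ hl
    simpa using this.2

/-- (0)(i) -/
theorem z1 {g : G} (h : ∀ l ∈ L, g * l * g⁻¹ ∈ normalizer (L : Set G)) {l : G} (hl : l ∈ L)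
    (hk : g * l * g⁻¹ ∈ centralizer (L : Set G)) : l = 1 := by
  rcases H.simp (L ⊓ (centralizer (L : Set G)).comap (MulAut.conj g).toMonoidHom) inf_le_left
    (fun l hl n hn => mem_inf.mpr ⟨mul_mem (mul_mem hl hn.1) (inv_mem hl), mem_comap.mpr (by
      have h1 : (MulAut.conj g).toMonoidHom (l * n * l⁻¹) =
          (g * l * g⁻¹) * (g * n * g⁻¹) * (g * l * g⁻¹)⁻¹ := by
        simp only [MulEquiv.coe_toMonoidHom, MulAut.conj_apply]; group
      rw [h1]
      exact K_conj (h l hl) hn.2)⟩) with h1 | h1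
  · exact mem_bot.mp (h1 ▸ (⟨hl, hk⟩ :
      l ∈ L ⊓ (centralizer (L : Set G)).comap (MulAut.conj g).toMonoidHom))
  · exfalso
    apply H.nc g
    intro l hl
    have : l ∈ L ⊓ (centralizer (L : Set G)).comap (MulAut.conj g).toMonoidHom := h1.symm ▸ hl
    exact this.2

/-- (0)(ii) -/
theorem z2 [Finite G] {g : G} (hg : g ∉ normalizer (L : Set G))
    (h : ∀ l ∈ L, g * l * g⁻¹ ∈ normalizer (L : Set G)) {l : G} (hl : l ∈ L)
    (hk : g * l * g⁻¹ ∈ L) : l = 1 := by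
  rcases H.simp (L ⊓ L.comap (MulAut.conj g).toMonoidHom) inf_le_left
    (fun l hl n hn => mem_inf.mpr ⟨mul_mem (mul_mem hl hn.1) (inv_mem hl), mem_comap.mpr (by
      have h1 : (MulAut.conj g).toMonoidHom (l * n * l⁻¹) =
          (g * l * g⁻¹) * (g * n * g⁻¹) * (g * l * g⁻¹)⁻¹ := by
        simp only [MulEquiv.coe_toMonoidHom, MulAut.conj_apply]; group
      rw [h1]
      exact L_conj (h l hl) hn.2)⟩) with h1 | h1
  · exact mem_bot.mp (h1 ▸ (⟨hl, hk⟩ : l ∈ L ⊓ L.comap (MulAut.conj g).toMonoidHom))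
  · exfalso
    apply hg
    have h2 : ∀ l ∈ L, g * l * g⁻¹ ∈ L := by
      intro l hl
      have : l ∈ L ⊓ L.comap (MulAut.conj g).toMonoidHom := h1.symm ▸ hl
      exact this.2
    rw [mem_normalizer_iff]
    intro y
    refine ⟨h2 y, fun hy => ?_⟩
    have h3 : Function.Surjective (fun l : L => (⟨g * l * g⁻¹, h2 l l.2⟩ : L)) := by
      apply Finite.injective_iff_surjective.mp
      intro a b hab
      have h4 : g * (a : G) * g⁻¹ = g * (b : G) * g⁻¹ := congrArg Subtype.val hab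
      exact Subtype.ext (mul_left_cancel (mul_right_cancel h4))
    obtain ⟨⟨b, hb⟩, hb2⟩ := h3 ⟨g * y * g⁻¹, hy⟩
    have h5 : g * b * g⁻¹ = g * y * g⁻¹ := congrArg Subtype.val hb2
    rw [← mul_left_cancel (mul_right_cancel h5)]
    exact hb

/-- (0)(iii): `w ∈ K` normalizing `L₁ ≤ M` centralizes `L₁` -/
theorem z3 {g : G} (h : ∀ l ∈ L, g * l * g⁻¹ ∈ normalizer (L : Set G)) {w : G}
    (hw : w ∈ centralizer (L : Set G)) (hwg : g⁻¹ * w * g ∈ normalizer (L : Set G)) :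
    g⁻¹ * w * g ∈ centralizer (L : Set G) := by
  rw [mem_centralizer_iff]
  intro l hl
  obtain ⟨l', hl', hk⟩ := H.perf g h l hl
  obtain ⟨k, hkdef⟩ : ∃ k, k = g * l * g⁻¹ * l' := ⟨_, rfl⟩
  rw [← hkdef] at hk
  have e1 : g * l * g⁻¹ = k * l'⁻¹ := by rw [hkdef]; group
  have h1 : (g⁻¹ * w * g) * l * (g⁻¹ * w * g)⁻¹ * l⁻¹ ∈ L := mul_mem (L_conj hwg hl) (inv_mem hl)
  have h2 : g * ((g⁻¹ * w * g) * l * (g⁻¹ * w * g)⁻¹ * l⁻¹) * g⁻¹ =
      (w * k * w⁻¹) * k⁻¹ := by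
    calc g * ((g⁻¹ * w * g) * l * (g⁻¹ * w * g)⁻¹ * l⁻¹) * g⁻¹
        = w * (g * l * g⁻¹) * w⁻¹ * (g * l * g⁻¹)⁻¹ := by group
      _ = w * k * (l'⁻¹ * w⁻¹) * l' * k⁻¹ := by rw [e1]; group
      _ = w * k * (w⁻¹ * l'⁻¹) * l' * k⁻¹ := by
        rw [comm_of_mem (inv_mem hl') (inv_mem hw)]
      _ = _ := by group
  have h3 := H.z1 h h1 (by
    rw [h2]
    exact mul_mem (mul_mem (mul_mem hw hk) (inv_mem hw)) (inv_mem hk))
  have h4 : (g⁻¹ * w * g) * l * (g⁻¹ * w * g)⁻¹ = l := mul_inv_eq_one.mp h3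
  calc l * (g⁻¹ * w * g) = (g⁻¹ * w * g) * l * (g⁻¹ * w * g)⁻¹ * (g⁻¹ * w * g) := by rw [h4]
    _ = g⁻¹ * w * g * l := by group

/-- (0)(iv): `w ∈ M` centralizing `L₁ ≤ M` centralizes `L` -/
theorem z4 [Finite G] {g : G} (h : ∀ l ∈ L, g * l * g⁻¹ ∈ normalizer (L : Set G)) {w : G}
    (hw : w ∈ normalizer (L : Set G)) (hwg : g⁻¹ * w * g ∈ centralizer (L : Set G)) :
    w ∈ centralizer (L : Set G) := by
  choose f hf using fun l : L => H.perf g h l.1 l.2
  have hinj : Function.Injective (fun l : L => (⟨f l, (hf l).1⟩ : L)) := by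
    intro a b hab
    have h1 : f a = f b := congrArg Subtype.val hab
    have h2 := mul_mem (hf a).2 (inv_mem (hf b).2)
    rw [h1] at h2
    have h3 : g * (a : G) * g⁻¹ * f b * (g * (b : G) * g⁻¹ * f b)⁻¹ =
        g * ((a : G) * (b : G)⁻¹) * g⁻¹ := by group
    rw [h3] at h2
    have h4 := H.z1 h (mul_mem a.2 (inv_mem b.2)) h2
    exact Subtype.ext (mul_inv_eq_one.mp h4)
  have hsurj := Finite.injective_iff_surjective.mp hinj
  rw [mem_centralizer_iff]
  intro y hy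
  obtain ⟨⟨l, hl⟩, hly⟩ := hsurj ⟨y, hy⟩
  have h1 : f ⟨l, hl⟩ = y := congrArg Subtype.val hly
  have hk := (hf ⟨l, hl⟩).2
  rw [h1] at hk
  obtain ⟨k, hkdef⟩ : ∃ k, k = g * l * g⁻¹ * y := ⟨_, rfl⟩
  rw [← hkdef] at hk
  have e1 : g * l * g⁻¹ = k * y⁻¹ := by rw [hkdef]; group
  have h2 : w * (g * l * g⁻¹) * w⁻¹ = g * l * g⁻¹ := by
    have h3 := comm_of_mem hl hwg
    calc w * (g * l * g⁻¹) * w⁻¹ = g * ((g⁻¹ * w * g) * l) * g⁻¹ * w⁻¹ := by group
      _ = g * (l * (g⁻¹ * w * g)) * g⁻¹ * w⁻¹ := by rw [h3]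
      _ = g * l * g⁻¹ := by group
  rw [e1] at h2
  have h3 : k⁻¹ * (w * k * w⁻¹) = y⁻¹ * (w * y * w⁻¹) := by
    have h4 : (w * k * w⁻¹) * (w * y * w⁻¹)⁻¹ = k * y⁻¹ := by
      calc (w * k * w⁻¹) * (w * y * w⁻¹)⁻¹ = w * (k * y⁻¹) * w⁻¹ := by group
        _ = k * y⁻¹ := h2
    calc k⁻¹ * (w * k * w⁻¹) = k⁻¹ * ((w * k * w⁻¹) * (w * y * w⁻¹)⁻¹) * (w * y * w⁻¹) := by group
      _ = k⁻¹ * (k * y⁻¹) * (w * y * w⁻¹) := by rw [h4]
      _ = _ := by group
  have h5 := H.disj (mul_mem (inv_mem hy) (L_conj hw hy))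
    (h3 ▸ mul_mem (inv_mem hk) (K_conj hw hk))
  have h6 : w * y * w⁻¹ = y := (inv_mul_eq_one.mp h5).symm
  calc y * w = w * y * w⁻¹ * w := by rw [h6]
    _ = w * y := by group

end Pre

namespace Pre

variable {L : Subgroup G} {x : G} (H : Pre L x)
include H

/-- every involution of `K` commutes with an involution `w` of `K` with `C(w) ≤ M` -/
theorem wfix [Finite G] {t : G} (htK : t ∈ centralizer (L : Set G)) (htt : t * t = 1) (ht1 : t ≠ 1) :
    ∃ w ∈ centralizer (L : Set G), w * w = 1 ∧ w ≠ 1 ∧ w * t = t * w ∧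
      ∀ c, c * w = w * c → c ∈ normalizer (L : Set G) := by
  have : Fact (Nat.Prime 2) := ⟨Nat.prime_two⟩
  obtain ⟨M, hM⟩ : ∃ M, M = normalizer (L : Set G) := ⟨_, rfl⟩
  have hxM : x ∈ M := hM ▸ H.xM
  have htM : t ∈ M := hM ▸ K_le_M htK
  -- a Sylow 2-subgroup of `M` containing `x`
  have hpow : ∀ (y : M), y * y = 1 → IsPGroup 2 (zpowers y) := by
    intro y hy
    rintro ⟨z, hz⟩
    obtain ⟨n, rfl⟩ := mem_zpowers_iff.mp hz
    refine ⟨1, ?_⟩
    apply Subtype.ext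
    change (y ^ n) ^ 2 ^ 1 = 1
    rw [pow_one, pow_two, ← zpow_add, ← two_mul, zpow_mul]
    have : y ^ (2 : ℤ) = 1 := by rw [zpow_two]; exact hy
    rw [this, one_zpow]
  obtain ⟨S, hS⟩ := (hpow ⟨x, hxM⟩ (Subtype.ext H.xx)).exists_le_sylow
  obtain ⟨P, hP⟩ := (hpow ⟨t, htM⟩ (Subtype.ext htt)).exists_le_sylow
  obtain ⟨m, hm⟩ := MulAction.exists_smul_eq M P S
  have hxS : (⟨x, hxM⟩ : M) ∈ (S : Subgroup M) := hS (mem_zpowers _)
  have htP : (⟨t, htM⟩ : M) ∈ (P : Subgroup M) := hP (mem_zpowers _)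
  have htS : m * ⟨t, htM⟩ * m⁻¹ ∈ (S : Subgroup M) := by
    rw [← hm, Sylow.coe_subgroup_smul, mem_pointwise_smul_iff_inv_smul_mem]
    simpa only [MulAut.smul_def, mul_assoc, _root_.smul_mul', _root_.MulAut.inv_apply, _root_.MulAut.conj_symm_apply, _root_.inv_mul_cancel, _root_.one_mul, _root_.smul_inv', _root_.mul_inv_cancel, _root_.mul_one, _root_.mul_inv_cancel_left] using htP
  obtain ⟨S', hS'⟩ : ∃ S', S' = (S : Subgroup M).map M.subtype := ⟨_, rfl⟩
  have hS2 : IsPGroup 2 S' := hS' ▸ S.2.map _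
  have hmem : ∀ y : M, y ∈ (S : Subgroup M) → (y : G) ∈ S' := by
    intro y hy
    rw [hS']
    exact ⟨y, hy, rfl⟩
  have hSM : S' ≤ M := by
    rw [hS']
    rintro _ ⟨y, _, rfl⟩
    exact y.2
  have hmM : (m : G) ∈ normalizer (L : Set G) := hM ▸ m.2
  have htt' : (m : G) * t * (m : G)⁻¹ ∈ centralizer (L : Set G) := K_conj hmM htK
  obtain ⟨w, hw, hww, hw1, hwS⟩ := exists_central hS2 (N := S' ⊓ centralizer (L : Set G)) inf_le_left
    (fun s hs n hn => mem_inf.mpr ⟨mul_mem (mul_mem hs hn.1) (inv_mem hs),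
      K_conj (hM ▸ hSM hs) hn.2⟩) (by
      intro h
      have h1 : (m : G) * t * (m : G)⁻¹ ∈ S' ⊓ centralizer (L : Set G) := ⟨hmem _ htS, htt'⟩
      rw [h, mem_bot] at h1
      apply ht1
      calc t = (m : G)⁻¹ * ((m : G) * t * (m : G)⁻¹) * m := by group
        _ = 1 := by rw [h1]; group)
  have hwT : IsT L x w := ⟨hw.2, hwS x (hmem _ hxS), hww, hw1⟩
  refine ⟨(m : G)⁻¹ * w * m, K_conj' hmM hw.2, ?_, ?_, ?_, ?_⟩
  · calc (m : G)⁻¹ * w * m * ((m : G)⁻¹ * w * m) = (m : G)⁻¹ * (w * w) * m := by group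
      _ = 1 := by rw [hww]; group
  · intro h
    apply hw1
    calc w = (m : G) * ((m : G)⁻¹ * w * m) * (m : G)⁻¹ := by group
      _ = 1 := by rw [h]; group
  · have h1 := hwS _ (hmem _ htS)
    have h2 : w * ((m : G) * t * (m : G)⁻¹) = (m : G) * t * (m : G)⁻¹ * w := h1
    calc (m : G)⁻¹ * w * m * t = (m : G)⁻¹ * (w * ((m : G) * t * (m : G)⁻¹)) * m := by group
      _ = (m : G)⁻¹ * ((m : G) * t * (m : G)⁻¹ * w) * m := by rw [h2]
      _ = t * ((m : G)⁻¹ * w * m) := by group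
  · intro c hc
    have h1 : ((m : G) * c * (m : G)⁻¹) * w = w * ((m : G) * c * (m : G)⁻¹) := by
      calc ((m : G) * c * (m : G)⁻¹) * w = m * (c * ((m : G)⁻¹ * w * m)) * (m : G)⁻¹ := by group
        _ = m * (((m : G)⁻¹ * w * m) * c) * (m : G)⁻¹ := by rw [hc]
        _ = _ := by group
    have h2 := H.Ct w hwT _ h1
    have h3 : c = (m : G)⁻¹ * ((m : G) * c * (m : G)⁻¹) * m := by group
    rw [h3]
    exact mul_mem (mul_mem (inv_mem hmM) h2) hmM

/-- (a') -/
theorem fixT [Finite G] {t g : G} (ht : IsT L x t) (h : g⁻¹ * t * g ∈ centralizer (L : Set G)) :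
    g ∈ normalizer (L : Set G) := by
  by_contra hg
  have hL1 : ∀ l ∈ L, g * l * g⁻¹ ∈ normalizer (L : Set G) := by
    intro l hl
    apply H.Ct t ht
    have h1 := comm_of_mem hl h
    calc g * l * g⁻¹ * t = g * (l * (g⁻¹ * t * g)) * g⁻¹ := by group
      _ = g * ((g⁻¹ * t * g) * l) * g⁻¹ := by rw [h1]
      _ = t * (g * l * g⁻¹) := by group
  have e1 : (g⁻¹ * t * g) * (g⁻¹ * t * g) = 1 := by
    calc (g⁻¹ * t * g) * (g⁻¹ * t * g) = g⁻¹ * (t * t) * g := by group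
      _ = 1 := by rw [ht.sq]; group
  have e2 : g⁻¹ * t * g ≠ 1 := by
    intro h1
    apply ht.ne
    calc t = g * (g⁻¹ * t * g) * g⁻¹ := by group
      _ = 1 := by rw [h1]; group
  obtain ⟨w, hwK, -, -, hwt, hwC⟩ := H.wfix h e1 e2
  have h2 : g * w * g⁻¹ ∈ normalizer (L : Set G) := by
    apply H.Ct t ht
    calc g * w * g⁻¹ * t = g * (w * (g⁻¹ * t * g)) * g⁻¹ := by group
      _ = g * ((g⁻¹ * t * g) * w) * g⁻¹ := by rw [hwt]
      _ = t * (g * w * g⁻¹) := by group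
  have h3 : g * w * g⁻¹ ∈ centralizer (L : Set G) := H.z4 hL1 h2 (by
    have : g⁻¹ * (g * w * g⁻¹) * g = w := by group
    rw [this]; exact hwK)
  have hL2 : ∀ l ∈ L, g⁻¹ * l * g ∈ normalizer (L : Set G) := by
    intro l hl
    apply hwC
    have h4 := comm_of_mem hl h3
    calc g⁻¹ * l * g * w = g⁻¹ * (l * (g * w * g⁻¹)) * g := by group
      _ = g⁻¹ * ((g * w * g⁻¹) * l) * g := by rw [h4]
      _ = w * (g⁻¹ * l * g) := by group
  apply H.nc g
  intro l' hl'
  rw [mem_centralizer_iff]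
  intro l hl
  have h5 : (g⁻¹ * l * g) * l' * (g⁻¹ * l * g)⁻¹ * l'⁻¹ ∈ L :=
    mul_mem (L_conj (hL2 l hl) hl') (inv_mem hl')
  have h6 : g * ((g⁻¹ * l * g) * l' * (g⁻¹ * l * g)⁻¹ * l'⁻¹) * g⁻¹ ∈ L := by
    have h7 : g * ((g⁻¹ * l * g) * l' * (g⁻¹ * l * g)⁻¹ * l'⁻¹) * g⁻¹ =
        l * ((g * l' * g⁻¹) * l⁻¹ * (g * l' * g⁻¹)⁻¹) := by group
    rw [h7]
    exact mul_mem hl (L_conj (hL1 l' hl') (inv_mem hl))
  have h8 := H.z2 hg hL1 h5 h6
  have h9 : (g⁻¹ * l * g) * l' * (g⁻¹ * l * g)⁻¹ = l' := mul_inv_eq_one.mp h8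
  calc l * (g * l' * g⁻¹) = g * ((g⁻¹ * l * g) * l' * (g⁻¹ * l * g)⁻¹) * g⁻¹ * l := by group
    _ = g * l' * g⁻¹ * l := by rw [h9]

end Pre

end Cfsg.Agent.UGT.CE.Base
end

-- part: UGT/CE/Conf
section
/-!
# `C(e) ≤ N(L)` for bad involutions `e`, II: the configuration, and `C(e, s) ≤ N(L)`

`L ≤ G` simple, `K = C(L)`, `M = N(L)`; `B e` ("bad"): `e ∈ M` is an involution; `C(t) ≤ M` for the involutions `t` of
`C_K(e)`; no two conjugates of `L` commute; `O e` is the core of `C(e)`, `Y e` the part of it in `L`. The other fields are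
facts about `Aut L`; `J v` is `C_L(v)` (or its derived subgroup) for the involutions `v` of `C_M(e)` acting on `L`
neither as elements of `L` nor of `Le` (structure `Wild`).
-/

set_option autoImplicit false

open Subgroup

namespace Cfsg.Agent.UGT.CE

open Cfsg.Agent.UGT.ThE.Base (IsT IsS comm_of_mem L_conj L_conj' K_le_M L_le_M K_conj K_conj' exists_central)
open Cfsg.Agent.UGT.CE.Base

universe u

variable {G : Type u} [Group G]

/-- `v` is an involution of `N(L)` commuting with `e`, which acts on `L` neither as an element of `L` nor of `Le` -/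
structure Wild (L : Subgroup G) (e v : G) : Prop where
  mem : v ∈ normalizer (L : Set G)
  comm : v * e = e * v
  sq : v * v = 1
  inn : ∀ l ∈ L, l * v ∉ centralizer (L : Set G)
  einn : ∀ l ∈ L, l * e * v ∉ centralizer (L : Set G)

/-- The configuration. -/
structure Conf (O Y J : G → Subgroup G) (L : Subgroup G) (B : G → Prop) : Prop where
  Ocj : ∀ g t a : G, a ∈ O t → g * a * g⁻¹ ∈ O (g * t * g⁻¹)
  simp : ∀ N : Subgroup G, N ≤ L → (∀ l ∈ L, ∀ n ∈ N, l * n * l⁻¹ ∈ N) → N = ⊥ ∨ N = L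
  nc : ∀ g : G, ¬ ∀ l ∈ L, g * l * g⁻¹ ∈ centralizer (L : Set G)
  /-- `Out L` is solvable -/
  perf : ∀ g : G, (∀ l ∈ L, g * l * g⁻¹ ∈ normalizer (L : Set G)) → ∀ l ∈ L,
    ∃ l' ∈ L, g * l * g⁻¹ * l' ∈ centralizer (L : Set G)
  sq : ∀ {e}, B e → e * e = 1
  mem : ∀ {e}, B e → e ∈ normalizer (L : Set G)
  odd : ∀ {e}, B e → Odd (Nat.card (O e))
  Bcj : ∀ {e}, B e → ∀ l ∈ L, B (l * e * l⁻¹)
  four : ∀ {e}, B e → ∃ t u, IsT L e t ∧ IsT L e u ∧ t ≠ u ∧ t * u = u * t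
  Ct : ∀ {e}, B e → ∀ t, IsT L e t → ∀ c, c * t = t * c → c ∈ normalizer (L : Set G)
  YL : ∀ {e}, B e → Y e ≤ L
  YO : ∀ {e}, B e → Y e ≤ O e
  /-- `O(C(e))` acts on `L` as `Y e` -/
  core : ∀ {e}, B e → O e ≤ normalizer (L : Set G) → ∀ a ∈ O e, ∃ y ∈ Y e,
    ∃ k ∈ centralizer (L : Set G), a = y * k
  exS : ∀ {e}, B e → ∃ s, IsS L e s
  inv : ∀ {e}, B e → ∀ s, IsS L e s → ∀ y ∈ Y e, s * y * s⁻¹ = y⁻¹
  cj : ∀ {e}, B e → ∀ s, IsS L e s → ∃ l ∈ L, l * e * l⁻¹ = e * s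
  gen1 : ∀ {e}, B e → ∀ s, IsS L e s → ∀ H : Subgroup G, Y e ≤ H → Y (e * s) ≤ H → L ≤ H
  gen2 : ∀ {e}, B e → ∀ s, IsS L e s → ∀ H : Subgroup G, Y e ≤ H → (∀ l ∈ L, l * s = s * l → l ∈ H) → L ≤ H
  /-- `C_{Aut L}(v)` is solvable if `v` acts as an element of `L` or `Le` -/
  solv : ∀ {e}, B e → ∀ v, v ∈ normalizer (L : Set G) → v * e = e * v → v * v = 1 →
    v ∉ centralizer (L : Set G) → ¬ Wild L e v → ∀ X : Subgroup G, X ≤ normalizer (L : Set G) →
    (∀ x ∈ X, x * v = v * x) → X ≤ ⁅X, X⁆ → X ≤ centralizer (L : Set G)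
  wle : ∀ {e}, B e → ∀ v, Wild L e v → J v ≤ L
  wcomm : ∀ {e}, B e → ∀ v, Wild L e v → ∀ j ∈ J v, j * v = v * j
  wsimp : ∀ {e}, B e → ∀ v, Wild L e v → ∀ N : Subgroup G, N ≤ J v → (∀ l ∈ J v, ∀ n ∈ N, l * n * l⁻¹ ∈ N) →
    N = ⊥ ∨ N = J v
  wperf : ∀ {e}, B e → ∀ v, Wild L e v → J v ≤ ⁅J v, J v⁆
  wfix : ∀ {e}, B e → ∀ v, Wild L e v → ∃ i ∈ J v, IsS L e i
  wone : ∀ {e}, B e → ∀ v, Wild L e v → ∀ i ∈ J v, ∀ i' ∈ J v, i * i = 1 → i ≠ 1 → i' * i' = 1 → i' ≠ 1 →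
    ∃ j ∈ J v, j * i * j⁻¹ = i'
  wgen : ∀ {e}, B e → ∀ v, Wild L e v → ∀ H : Subgroup G,
    (∀ j ∈ J v, j * j = 1 → j ≠ 1 → ∀ l ∈ L, l * j = j * l → l ∈ H) → L ≤ H
  wY : ∀ {e}, B e → ∀ v, Wild L e v → ∀ H : Subgroup G, J v ≤ H → Y e ≤ H → L ≤ H
  /-- `J v` is the last term of the derived series of `C_{Aut L}(v)` -/
  wmax : ∀ {e}, B e → ∀ v, Wild L e v → ∀ X : Subgroup G, X ≤ normalizer (L : Set G) →
    (∀ x ∈ X, x * v = v * x) → X ≤ ⁅X, X⁆ → ∀ x ∈ X, ∃ j ∈ J v, ∃ k ∈ centralizer (L : Set G), x = j * k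
  /-- if a conjugate of `J v'` acts nontrivially on `L` in the centraliser of `v`, then it acts as `J v` -/
  wmin : ∀ {e}, B e → ∀ v v', Wild L e v → Wild L e v' → ∀ h : G,
    (∀ j ∈ J v', h * j * h⁻¹ ∈ normalizer (L : Set G)) → (∀ j ∈ J v', h * j * h⁻¹ * v = v * (h * j * h⁻¹)) →
    (¬ ∀ j ∈ J v', h * j * h⁻¹ ∈ centralizer (L : Set G)) →
    ∀ j ∈ J v, ∃ j' ∈ J v', ∃ k ∈ centralizer (L : Set G), h * j' * h⁻¹ = j * k

theorem isT_mul {L : Subgroup G} {e t u : G} (ht : IsT L e t) (hu : IsT L e u) (hne : t ≠ u)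
    (htu : t * u = u * t) : IsT L e (t * u) where
  mem := mul_mem ht.mem hu.mem
  comm := by
    calc t * u * e = t * (u * e) := by group
      _ = t * e * u := by rw [hu.comm]; group
      _ = e * (t * u) := by rw [ht.comm]; group
  sq := by
    calc t * u * (t * u) = t * (u * t) * u := by group
      _ = (t * t) * (u * u) := by rw [← htu]; group
      _ = 1 := by rw [ht.sq, hu.sq, one_mul]
  ne := by
    intro h
    apply hne
    calc t = t * u * u⁻¹ := by group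
      _ = u⁻¹ := by rw [h, one_mul]
      _ = u := inv_eq_of_mul_eq_one_left hu.sq

theorem mem_normalizer_of [Finite G] {L : Subgroup G} {c : G} (h : ∀ l ∈ L, c * l * c⁻¹ ∈ L) :
    c ∈ normalizer (L : Set G) := by
  rw [mem_normalizer_iff]
  intro y
  refine ⟨h y, fun hy => ?_⟩
  have h3 : Function.Surjective (fun l : L => (⟨c * l * c⁻¹, h l l.2⟩ : L)) := by
    apply Finite.injective_iff_surjective.mp
    intro a b hab
    have h4 : c * (a : G) * c⁻¹ = c * (b : G) * c⁻¹ := congrArg Subtype.val hab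
    exact Subtype.ext (mul_left_cancel (mul_right_cancel h4))
  obtain ⟨⟨b, hb⟩, hb2⟩ := h3 ⟨c * y * c⁻¹, hy⟩
  have h5 : c * b * c⁻¹ = c * y * c⁻¹ := congrArg Subtype.val hb2
  rw [← mul_left_cancel (mul_right_cancel h5)]
  exact hb

theorem cj_comm {g e a : G} (h : g * e = e * g) (ha : a * e = e * a) :
    g * a * g⁻¹ * e = e * (g * a * g⁻¹) := by
  have h' : g⁻¹ * e = e * g⁻¹ := by
    calc g⁻¹ * e = g⁻¹ * (e * g) * g⁻¹ := by group
      _ = g⁻¹ * (g * e) * g⁻¹ := by rw [h]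
      _ = e * g⁻¹ := by group
  calc g * a * g⁻¹ * e = g * a * (g⁻¹ * e) := by group
    _ = g * (a * e) * g⁻¹ := by rw [h']; group
    _ = (g * e) * a * g⁻¹ := by rw [ha]; group
    _ = e * (g * a * g⁻¹) := by rw [h]; group

theorem inv_comm {g e : G} (h : g * e = e * g) : g⁻¹ * e = e * g⁻¹ := by
  calc g⁻¹ * e = g⁻¹ * (e * g) * g⁻¹ := by group
    _ = g⁻¹ * (g * e) * g⁻¹ := by rw [h]
    _ = e * g⁻¹ := by group

theorem cj_eq {g e : G} (h : g * e = e * g) : g * e * g⁻¹ = e := by rw [h]; group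

namespace Conf

variable {O Y J : G → Subgroup G} {L : Subgroup G} {B : G → Prop} (H : Conf O Y J L B)
include H

theorem pre {e : G} (he : B e) : Pre L e where
  xx := H.sq he
  xM := H.mem he
  simp := H.simp
  nc := H.nc
  Ct := H.Ct he
  perf := H.perf

theorem disj {e : G} (he : B e) {l : G} (hl : l ∈ L) (hk : l ∈ centralizer (L : Set G)) : l = 1 :=
  (H.pre he).disj hl hk

theorem uniq {e : G} (he : B e) {a b c d : G} (ha : a ∈ L) (hb : b ∈ centralizer (L : Set G)) (hc : c ∈ L)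
    (hd : d ∈ centralizer (L : Set G)) (h : a * b = c * d) : a = c ∧ b = d := by
  have h1 : c⁻¹ * a = d * b⁻¹ := by
    calc c⁻¹ * a = c⁻¹ * (a * b) * b⁻¹ := by group
      _ = d * b⁻¹ := by rw [h]; group
  have h2 : c⁻¹ * a = 1 := H.disj he (mul_mem (inv_mem hc) ha) (by rw [h1]; exact mul_mem hd (inv_mem hb))
  have h3 : a = c := (inv_mul_eq_one.mp h2).symm
  exact ⟨h3, by rw [h3] at h; exact mul_left_cancel h⟩

theorem O_conj {e c : G} (h : c * e = e * c) {a : G} (ha : a ∈ O e) : c * a * c⁻¹ ∈ O e := by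
  have h1 := H.Ocj c e a ha
  rwa [cj_eq h] at h1

theorem O_le [Finite G] {e : G} (he : B e) : O e ≤ normalizer (L : Set G) := by
  obtain ⟨t, u, ht, hu, hne, htu⟩ := H.four he
  refine Cfsg.Agent.Lib.KleinGen.le_of_klein (O e) _ (H.odd he) t u ht.sq hu.sq htu
    (fun a ha => H.O_conj ht.comm ha) (fun a ha => H.O_conj hu.comm ha) ?_ ?_ ?_
  · intro c hc
    exact H.Ct he t ht c (mem_centralizer_singleton_iff.mp hc.2)
  · intro c hc
    exact H.Ct he u hu c (mem_centralizer_singleton_iff.mp hc.2)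
  · intro c hc
    exact H.Ct he _ (isT_mul ht hu hne htu) c (mem_centralizer_singleton_iff.mp hc.2)

theorem core' [Finite G] {e : G} (he : B e) {a : G} (ha : a ∈ O e) : ∃ y ∈ Y e,
    ∃ k ∈ centralizer (L : Set G), a = y * k := H.core he (H.O_le he) a ha

theorem Ysq [Finite G] {e : G} (he : B e) {y : G} (hy : y ∈ Y e) : ∃ y' ∈ Y e, y = y' * y' := by
  have h1 : Odd (orderOf y) := (H.odd he).of_dvd_nat (Subgroup.orderOf_dvd_natCard _ (H.YO he hy))
  obtain ⟨m, hm⟩ := h1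
  refine ⟨y ^ (m + 1), pow_mem hy _, ?_⟩
  have h2 : y ^ (2 * m + 1) = 1 := by rw [← hm]; exact pow_orderOf_eq_one y
  calc y = y ^ (2 * m + 1) * y := by rw [h2, one_mul]
    _ = y ^ (m + 1) * y ^ (m + 1) := by rw [← pow_succ, ← pow_add]; congr 1; omega

/-- the commutator with an involution `s` of `C_L(e)` of an element of `O(C(e))` -/
theorem comm_yk {e : G} (he : B e) {s : G} (hs : IsS L e s) {y k : G} (hy : y ∈ Y e)
    (hk : k ∈ centralizer (L : Set G)) : y * k * s * (y * k)⁻¹ * s⁻¹ = y * y := by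
  have h1 : k * s * k⁻¹ = s := by rw [← comm_of_mem hs.mem hk]; group
  have h2 : s * y⁻¹ * s⁻¹ = y := by
    have h3 := H.inv he s hs y hy
    calc s * y⁻¹ * s⁻¹ = (s * y * s⁻¹)⁻¹ := by group
      _ = y := by rw [h3, inv_inv]
  calc y * k * s * (y * k)⁻¹ * s⁻¹ = y * (k * s * k⁻¹) * y⁻¹ * s⁻¹ := by group
    _ = y * (s * y⁻¹ * s⁻¹) := by rw [h1]; group
    _ = y * y := by rw [h2]

/-- `c ∈ C(e)` maps the involution `s` of `C_L(e)` to the involution `s'` of `C_L(e)`: then it normalises `Y e` -/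
theorem Y_conj [Finite G] {e : G} (he : B e) {s s' : G} (hs : IsS L e s) (hs' : IsS L e s') {c : G}
    (hce : c * e = e * c) (hcs : c * s * c⁻¹ = s') {y : G} (hy : y ∈ Y e) : c * y * c⁻¹ ∈ Y e := by
  obtain ⟨y', hy', rfl⟩ := H.Ysq he hy
  have ha : c * y' * c⁻¹ ∈ O e := H.O_conj hce (H.YO he hy')
  obtain ⟨y1, hy1, k1, hk1, hyk⟩ := H.core' he ha
  have h1 := H.comm_yk he hs' hy1 hk1
  have h2 := H.comm_yk he hs hy' (one_mem (centralizer (L : Set G)))
  rw [mul_one] at h2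
  rw [← hyk, ← hcs] at h1
  have h3 : c * y' * c⁻¹ * (c * s * c⁻¹) * (c * y' * c⁻¹)⁻¹ * (c * s * c⁻¹)⁻¹ =
      c * (y' * s * y'⁻¹ * s⁻¹) * c⁻¹ := by group
  rw [h3, h2] at h1
  rw [h1]
  exact mul_mem hy1 hy1

/-- (2): `C(e, s) ≤ N(L)` -/
theorem ces [Finite G] {e : G} (he : B e) {s : G} (hs : IsS L e s) {c : G} (hce : c * e = e * c)
    (hcs : c * s = s * c) : c ∈ normalizer (L : Set G) := by
  obtain ⟨l, hl, hle⟩ := H.cj he s hs
  have he' : B (e * s) := hle ▸ H.Bcj he l hl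
  have hs' : IsS L (e * s) s := ⟨hs.mem, by
    calc s * (e * s) = (s * e) * s := by group
      _ = e * s * s := by rw [hs.comm], hs.sq, hs.ne⟩
  have hce' : c * (e * s) = (e * s) * c := by
    calc c * (e * s) = (c * e) * s := by group
      _ = e * (c * s) := by rw [hce]; group
      _ = (e * s) * c := by rw [hcs]; group
  have h1 : L ≤ L.comap (MulAut.conj c).toMonoidHom := by
    apply H.gen1 he s hs
    · intro y hy
      exact H.YL he (H.Y_conj he hs hs hce (cj_eq hcs) hy)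
    · intro y hy
      exact H.YL he' (H.Y_conj he' hs' hs' hce' (cj_eq hcs) hy)
  exact mem_normalizer_of fun l hl => h1 hl

end Conf

end Cfsg.Agent.UGT.CE
end

-- part: UGT/CE/Fus
section
/-!
# `C(e) ≤ N(L)` for bad involutions `e`, III: `z ∈ C_K(e)`, `g ∈ C(e)`, `z^g ∈ N(L)` imply `g ∈ N(L)`
-/

set_option autoImplicit false

open Subgroup

namespace Cfsg.Agent.UGT.CE

open Cfsg.Agent.UGT.ThE.Base (IsT IsS comm_of_mem L_conj L_conj' K_le_M L_le_M K_conj K_conj' exists_central)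
open Cfsg.Agent.UGT.CE.Base

universe u

variable {G : Type u} [Group G]

/-- an involution `v` of `X` commutes with an involution of the normal subgroup `N` of even order -/
theorem exists_fixed [Finite G] {X N : Subgroup G} (hN : N ≤ X) (hn : ∀ x ∈ X, ∀ n ∈ N, x * n * x⁻¹ ∈ N)
    {v z : G} (hv : v ∈ X) (hvv : v * v = 1) (hz : z ∈ N) (hzz : z * z = 1) (hz1 : z ≠ 1) :
    ∃ w ∈ N, w * w = 1 ∧ w ≠ 1 ∧ w * v = v * w := by
  have : Fact (Nat.Prime 2) := ⟨Nat.prime_two⟩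
  have hpow : ∀ (y : X), y * y = 1 → IsPGroup 2 (zpowers y) := by
    intro y hy
    rintro ⟨z, hz⟩
    obtain ⟨n, rfl⟩ := mem_zpowers_iff.mp hz
    refine ⟨1, ?_⟩
    apply Subtype.ext
    change (y ^ n) ^ 2 ^ 1 = 1
    rw [pow_one, pow_two, ← zpow_add, ← two_mul, zpow_mul]
    have : y ^ (2 : ℤ) = 1 := by rw [zpow_two]; exact hy
    rw [this, one_zpow]
  obtain ⟨S, hS⟩ := (hpow ⟨v, hv⟩ (Subtype.ext hvv)).exists_le_sylow
  obtain ⟨P, hP⟩ := (hpow ⟨z, hN hz⟩ (Subtype.ext hzz)).exists_le_sylow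
  obtain ⟨m, hm⟩ := MulAction.exists_smul_eq X P S
  have hvS : (⟨v, hv⟩ : X) ∈ (S : Subgroup X) := hS (mem_zpowers _)
  have hzP : (⟨z, hN hz⟩ : X) ∈ (P : Subgroup X) := hP (mem_zpowers _)
  have hzS : m * ⟨z, hN hz⟩ * m⁻¹ ∈ (S : Subgroup X) := by
    rw [← hm, Sylow.coe_subgroup_smul, mem_pointwise_smul_iff_inv_smul_mem]
    simpa only [MulAut.smul_def, mul_assoc, _root_.smul_mul', _root_.MulAut.inv_apply, _root_.MulAut.conj_symm_apply, _root_.inv_mul_cancel, _root_.one_mul, _root_.smul_inv', _root_.mul_inv_cancel, _root_.mul_one, _root_.mul_inv_cancel_left] using hzP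
  obtain ⟨S', hS'⟩ : ∃ S', S' = (S : Subgroup X).map X.subtype := ⟨_, rfl⟩
  have hS2 : IsPGroup 2 S' := hS' ▸ S.2.map _
  have hmem : ∀ y : X, y ∈ (S : Subgroup X) → (y : G) ∈ S' := by
    intro y hy
    rw [hS']
    exact ⟨y, hy, rfl⟩
  have hSX : S' ≤ X := by
    rw [hS']
    rintro _ ⟨y, _, rfl⟩
    exact y.2
  obtain ⟨w, hw, hww, hw1, hwS⟩ := exists_central hS2 (N := S' ⊓ N) inf_le_left
    (fun s hs n hn' => mem_inf.mpr ⟨mul_mem (mul_mem hs hn'.1) (inv_mem hs), hn s (hSX hs) n hn'.2⟩) (by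
      intro h
      have h1 : (m : G) * z * (m : G)⁻¹ ∈ S' ⊓ N := ⟨hmem _ hzS, hn m m.2 z hz⟩
      rw [h, mem_bot] at h1
      apply hz1
      calc z = (m : G)⁻¹ * ((m : G) * z * (m : G)⁻¹) * m := by group
        _ = 1 := by rw [h1]; group)
  exact ⟨w, hw.2, hww, hw1, hwS v (hmem _ hvS)⟩

theorem perf_map {X : Subgroup G} (h : X ≤ ⁅X, X⁆) (g : G) :
    X.map (MulAut.conj g).toMonoidHom ≤ ⁅X.map (MulAut.conj g).toMonoidHom, X.map (MulAut.conj g).toMonoidHom⁆ := by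
  rw [← map_commutator]
  exact map_mono h

theorem mem_map_conj {X : Subgroup G} {g x : G} :
    x ∈ X.map (MulAut.conj g).toMonoidHom ↔ ∃ y ∈ X, g * y * g⁻¹ = x := by
  rw [mem_map]
  simp only [MulEquiv.coe_toMonoidHom, MulAut.conj_apply]

namespace Conf

variable {O Y J : G → Subgroup G} {L : Subgroup G} {B : G → Prop} (H : Conf O Y J L B)
include H

/-- a conjugate of `J w` under `C(e)` in `N(L)` acts nontrivially on `L` -/
theorem J_not_le [Finite G] {e w : G} (he : B e) (hw : Wild L e w) {h : G} (hhe : h * e = e * h)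
    (h1 : ∀ j ∈ J w, h * j * h⁻¹ ∈ normalizer (L : Set G)) :
    ¬ ∀ j ∈ J w, h * j * h⁻¹ ∈ centralizer (L : Set G) := by
  intro h2
  obtain ⟨i, hi, hiS⟩ := H.wfix he w hw
  have hT : IsT L e (h * i * h⁻¹) := ⟨h2 i hi, cj_comm hhe hiS.comm, by
    calc h * i * h⁻¹ * (h * i * h⁻¹) = h * (i * i) * h⁻¹ := by group
      _ = 1 := by rw [hiS.sq]; group, by
    intro h3
    apply hiS.ne
    calc i = h⁻¹ * (h * i * h⁻¹) * h := by group
      _ = 1 := by rw [h3]; group⟩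
  have key : ∀ i' ∈ J w, i' * i' = 1 → i' ≠ 1 → ∀ c, c * (h * i' * h⁻¹) = (h * i' * h⁻¹) * c →
      c ∈ normalizer (L : Set G) := by
    intro i' hi' hii hi1 c hc
    obtain ⟨j, hj, hji⟩ := H.wone he w hw i hi i' hi' hiS.sq hiS.ne hii hi1
    have hjM := h1 j hj
    have e1 : (h * j * h⁻¹)⁻¹ * c * (h * j * h⁻¹) * (h * i * h⁻¹) =
        (h * i * h⁻¹) * ((h * j * h⁻¹)⁻¹ * c * (h * j * h⁻¹)) := by
      rw [← hji] at hc
      calc (h * j * h⁻¹)⁻¹ * c * (h * j * h⁻¹) * (h * i * h⁻¹)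
          = (h * j * h⁻¹)⁻¹ * (c * (h * (j * i * j⁻¹) * h⁻¹)) * (h * j * h⁻¹) := by group
        _ = (h * j * h⁻¹)⁻¹ * (h * (j * i * j⁻¹) * h⁻¹ * c) * (h * j * h⁻¹) := by rw [hc]
        _ = _ := by group
    have h3 := H.Ct he _ hT _ e1
    have h4 : c = (h * j * h⁻¹) * ((h * j * h⁻¹)⁻¹ * c * (h * j * h⁻¹)) * (h * j * h⁻¹)⁻¹ := by group
    rw [h4]
    exact mul_mem (mul_mem hjM h3) (inv_mem hjM)
  have hL : L ≤ (normalizer (L : Set G)).comap (MulAut.conj h).toMonoidHom := by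
    apply H.wgen he w hw
    intro j hj hjj hj1 l _ hlj
    apply key j hj hjj hj1
    change h * l * h⁻¹ * (h * j * h⁻¹) = h * j * h⁻¹ * (h * l * h⁻¹)
    calc h * l * h⁻¹ * (h * j * h⁻¹) = h * (l * j) * h⁻¹ := by group
      _ = h * (j * l) * h⁻¹ := by rw [hlj]
      _ = _ := by group
  exact hiS.ne ((H.pre he).z1 (g := h) (fun l hl => hL hl) hiS.mem (h2 i hi))

theorem wcen {e w : G} (he : B e) (hw : Wild L e w) {i : G} (hi : i ∈ J w) (h : ∀ i' ∈ J w, i * i' = i' * i) :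
    i = 1 := by
  rcases H.wsimp he w hw (J w ⊓ centralizer (J w : Set G)) inf_le_left (by
    rintro a ha n ⟨hn, hn2⟩
    have h1 := mem_centralizer_iff.mp hn2 a ha
    have h2 : a * n * a⁻¹ = n := by rw [h1]; group
    rw [h2]
    exact ⟨hn, hn2⟩) with h1 | h1
  · have h2 : i ∈ J w ⊓ centralizer (J w : Set G) := ⟨hi, mem_centralizer_iff.mpr fun i' hi' => (h i' hi').symm⟩
    rw [h1] at h2
    exact mem_bot.mp h2
  · exfalso
    obtain ⟨s, hs, hsS⟩ := H.wfix he w hw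
    have h2 : J w ≤ ⊥ := by
      refine (H.wperf he w hw).trans ?_
      rw [commutator_le]
      intro a ha b hb
      have h3 : b ∈ J w ⊓ centralizer (J w : Set G) := h1.symm ▸ hb
      have h4 := mem_centralizer_iff.mp h3.2 a ha
      rw [mem_bot, commutatorElement_def, h4]
      group
    exact hsS.ne (mem_bot.mp (h2 hs))

/-- the configuration of (B) -/
structure Sit (B : G → Prop) (L : Subgroup G) (e z g : G) : Prop where
  bad : B e
  hz : IsT L e z
  hge : g * e = e * g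
  hv : g * z * g⁻¹ ∈ normalizer (L : Set G)
  hg : g ∉ normalizer (L : Set G)

namespace Sit

omit H

variable {e z g : G} (S : Sit B L e z g)
include S

theorem ve : g * z * g⁻¹ * e = e * (g * z * g⁻¹) := cj_comm S.hge S.hz.comm

theorem vv : g * z * g⁻¹ * (g * z * g⁻¹) = 1 := by
  calc g * z * g⁻¹ * (g * z * g⁻¹) = g * (z * z) * g⁻¹ := by group
    _ = 1 := by rw [S.hz.sq]; group

theorem v1 : g * z * g⁻¹ ≠ 1 := by
  intro h
  apply S.hz.ne
  calc z = g⁻¹ * (g * z * g⁻¹) * g := by group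
    _ = 1 := by rw [h]; group

include H

theorem vK [Finite G] : g * z * g⁻¹ ∉ centralizer (L : Set G) := by
  intro h
  refine S.hg ((H.pre S.bad).fixT (t := g * z * g⁻¹) ⟨h, S.ve, S.vv, S.v1⟩ ?_)
  have : g⁻¹ * (g * z * g⁻¹) * g = z := by group
  rw [this]
  exact S.hz.mem

/-- `C(v) ≤ N(L^g)` -/
theorem cv {c : G} (hc : c * (g * z * g⁻¹) = g * z * g⁻¹ * c) : g⁻¹ * c * g ∈ normalizer (L : Set G) := by
  apply H.Ct S.bad z S.hz
  calc g⁻¹ * c * g * z = g⁻¹ * (c * (g * z * g⁻¹)) * g := by group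
    _ = g⁻¹ * (g * z * g⁻¹ * c) * g := by rw [hc]
    _ = z * (g⁻¹ * c * g) := by group

/-- the involutions `w` of `C_K(e)` commuting with `v` act faithfully on `L^g` -/
theorem wK [Finite G] {w : G} (hw : IsT L e w) : g⁻¹ * w * g ∉ centralizer (L : Set G) := by
  intro h
  exact S.hg ((H.pre S.bad).fixT hw h)

omit H in
theorem we {w : G} (hw : IsT L e w) : g⁻¹ * w * g * e = e * (g⁻¹ * w * g) := by
  have h1 := cj_comm (inv_comm S.hge) hw.comm
  rwa [inv_inv] at h1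

omit H S in
theorem ww {w : G} (hw : IsT L e w) : g⁻¹ * w * g * (g⁻¹ * w * g) = 1 := by
  calc g⁻¹ * w * g * (g⁻¹ * w * g) = g⁻¹ * (w * w) * g := by group
    _ = 1 := by rw [hw.sq]; group

/-- `J_{L^g}(w) ≤ N(L)` -/
theorem JM {w : G} (hw : IsT L e w) (hW : Wild L e (g⁻¹ * w * g)) {j : G} (hj : j ∈ J (g⁻¹ * w * g)) :
    g * j * g⁻¹ ∈ normalizer (L : Set G) := by
  apply H.Ct S.bad w hw
  have h1 := H.wcomm S.bad _ hW j hj
  calc g * j * g⁻¹ * w = g * (j * (g⁻¹ * w * g)) * g⁻¹ := by group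
    _ = g * ((g⁻¹ * w * g) * j) * g⁻¹ := by rw [h1]
    _ = w * (g * j * g⁻¹) := by group

/-- `J_{L^g}(w) ≤ C(v)` -/
theorem Jv {w : G} (hW : Wild L e (g⁻¹ * w * g)) {j : G} (hj : j ∈ J (g⁻¹ * w * g)) :
    g * j * g⁻¹ * (g * z * g⁻¹) = g * z * g⁻¹ * (g * j * g⁻¹) := by
  have h1 := comm_of_mem (H.wle S.bad _ hW hj) S.hz.mem
  calc g * j * g⁻¹ * (g * z * g⁻¹) = g * (j * z) * g⁻¹ := by group
    _ = g * (z * j) * g⁻¹ := by rw [h1]
    _ = _ := by group

theorem J_nK [Finite G] {w : G} (hw : IsT L e w) (hW : Wild L e (g⁻¹ * w * g)) :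
    ¬ ∀ j ∈ J (g⁻¹ * w * g), g * j * g⁻¹ ∈ centralizer (L : Set G) :=
  H.J_not_le S.bad hW S.hge fun _ hj => S.JM H hw hW hj

/-- if `v` is tame on `L`, then `w` is tame on `L^g` -/
theorem tame_of_tame [Finite G] (hnW : ¬ Wild L e (g * z * g⁻¹)) {w : G} (hw : IsT L e w) :
    ¬ Wild L e (g⁻¹ * w * g) := by
  intro hW
  apply S.J_nK H hw hW
  intro j hj
  have h1 := H.solv S.bad (g * z * g⁻¹) S.hv S.ve S.vv (S.vK H) hnW
    ((J (g⁻¹ * w * g)).map (MulAut.conj g).toMonoidHom) (by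
      intro x hx
      obtain ⟨y, hy, rfl⟩ := mem_map_conj.mp hx
      exact S.JM H hw hW hy) (by
      intro x hx
      obtain ⟨y, hy, rfl⟩ := mem_map_conj.mp hx
      exact S.Jv H hW hy) (perf_map (H.wperf S.bad _ hW) g)
  exact h1 (mem_map_conj.mpr ⟨j, hj, rfl⟩)

/-- an involution of `C_K(e, v)` acting as an element of `L^g` is impossible -/
theorem no_inner [Finite G] {w : G} (hw : IsT L e w) (hwv : w * (g * z * g⁻¹) = g * z * g⁻¹ * w)
    {l : G} (hl : l ∈ L) (hk : l * (g⁻¹ * w * g) ∈ centralizer (L : Set G)) : False := by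
  have hwM : g⁻¹ * w * g ∈ normalizer (L : Set G) := S.cv H hwv
  have hwK := S.wK H hw
  obtain ⟨k, hkd⟩ : ∃ k, k = l * (g⁻¹ * w * g) := ⟨_, rfl⟩
  rw [← hkd] at hk
  have hwe : g⁻¹ * w * g = l⁻¹ * k := by rw [hkd]; group
  have hee := H.mem S.bad
  -- `e` centralises `l` and `k`
  have h1 : e * l⁻¹ * e⁻¹ * (e * k * e⁻¹) = l⁻¹ * k := by
    calc e * l⁻¹ * e⁻¹ * (e * k * e⁻¹) = e * (l⁻¹ * k) * e⁻¹ := by group
      _ = e * (g⁻¹ * w * g) * e⁻¹ := by rw [hwe]
      _ = g⁻¹ * w * g * e * e⁻¹ := by rw [S.we hw]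
      _ = l⁻¹ * k := by rw [hwe]; group
  obtain ⟨h2, h3⟩ := H.uniq S.bad (L_conj hee (inv_mem hl)) (K_conj hee hk) (inv_mem hl) hk h1
  have h4 : l⁻¹ * l⁻¹ * (k * k) = 1 * 1 := by
    have h5 := ww (g := g) hw
    rw [hwe] at h5
    calc l⁻¹ * l⁻¹ * (k * k) = l⁻¹ * (l⁻¹ * k) * k := by group
      _ = l⁻¹ * (k * l⁻¹) * k := by rw [comm_of_mem (inv_mem hl) hk]
      _ = l⁻¹ * k * (l⁻¹ * k) := by group
      _ = 1 * 1 := by rw [h5, one_mul]
  obtain ⟨h5, -⟩ := H.uniq S.bad (mul_mem (inv_mem hl) (inv_mem hl)) (mul_mem hk hk) (one_mem _) (one_mem _) h4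
  have hs : IsS L e l⁻¹ := ⟨inv_mem hl, by
    calc l⁻¹ * e = (e * l⁻¹ * e⁻¹) * e := by rw [h2]
      _ = e * l⁻¹ := by group, h5, by
    intro h6
    apply hwK
    rw [hwe, h6, one_mul]
    exact hk⟩
  have hL : L ≤ (normalizer (L : Set G)).comap (MulAut.conj g).toMonoidHom := by
    apply H.gen2 S.bad _ hs
    · intro y hy
      exact H.O_le S.bad (H.O_conj S.hge (H.YO S.bad hy))
    · intro a ha hal
      apply H.Ct S.bad w hw
      change g * a * g⁻¹ * w = w * (g * a * g⁻¹)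
      have h7 : a * (g⁻¹ * w * g) = (g⁻¹ * w * g) * a := by
        rw [hwe]
        calc a * (l⁻¹ * k) = (a * l⁻¹) * k := by group
          _ = l⁻¹ * (a * k) := by rw [hal]; group
          _ = l⁻¹ * k * a := by rw [comm_of_mem ha hk]; group
      calc g * a * g⁻¹ * w = g * (a * (g⁻¹ * w * g)) * g⁻¹ := by group
        _ = g * ((g⁻¹ * w * g) * a) * g⁻¹ := by rw [h7]
        _ = w * (g * a * g⁻¹) := by group
  exact hwK ((H.pre S.bad).z3 (g := g) (fun l hl => hL hl) hw.mem hwM)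

/-- (B), `v` tame -/
theorem tame [Finite G] (hnW : ¬ Wild L e (g * z * g⁻¹)) : False := by
  obtain ⟨v, hvd⟩ : ∃ v, v = g * z * g⁻¹ := ⟨_, rfl⟩
  have hvM := S.hv
  have hve := S.ve
  have hvv := S.vv
  have hvK := S.vK H
  have hee := H.mem S.bad
  have hsq := H.sq S.bad
  rw [← hvd] at hvM hve hvv hvK hnW
  -- `v` acts on `C_K(e)` as `k`
  have key : ∃ k ∈ centralizer (L : Set G), k * k = 1 ∧ k * e = e * k ∧
      ∀ f ∈ centralizer (L : Set G), f * e = e * f → v * f * v⁻¹ = k * f * k⁻¹ := by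
    have h0 : (∃ l ∈ L, l * v ∈ centralizer (L : Set G)) ∨ ∃ l ∈ L, l * e * v ∈ centralizer (L : Set G) := by
      by_contra h
      push Not at h
      exact hnW ⟨hvM, hve, hvv, h.1, h.2⟩
    rcases h0 with ⟨l, hl, hk⟩ | ⟨l, hl, hk⟩
    · obtain ⟨k, hkd⟩ : ∃ k, k = l * v := ⟨_, rfl⟩
      rw [← hkd] at hk
      have hv' : v = l⁻¹ * k := by rw [hkd]; group
      have h1 : e * l⁻¹ * e⁻¹ * (e * k * e⁻¹) = l⁻¹ * k := by
        calc e * l⁻¹ * e⁻¹ * (e * k * e⁻¹) = e * (l⁻¹ * k) * e⁻¹ := by group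
          _ = e * v * e⁻¹ := by rw [hv']
          _ = l⁻¹ * k := by rw [← hve, hv']; group
      obtain ⟨-, h3⟩ := H.uniq S.bad (L_conj hee (inv_mem hl)) (K_conj hee hk) (inv_mem hl) hk h1
      have h4 : l⁻¹ * l⁻¹ * (k * k) = 1 * 1 := by
        rw [hv'] at hvv
        calc l⁻¹ * l⁻¹ * (k * k) = l⁻¹ * (l⁻¹ * k) * k := by group
          _ = l⁻¹ * (k * l⁻¹) * k := by rw [comm_of_mem (inv_mem hl) hk]
          _ = l⁻¹ * k * (l⁻¹ * k) := by group
          _ = 1 * 1 := by rw [hvv, one_mul]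
      obtain ⟨-, h5⟩ := H.uniq S.bad (mul_mem (inv_mem hl) (inv_mem hl)) (mul_mem hk hk) (one_mem _)
        (one_mem _) h4
      refine ⟨k, hk, h5, ?_, ?_⟩
      · calc k * e = (e * k * e⁻¹) * e := by rw [h3]
          _ = e * k := by group
      · intro f hf _
        have h6 := comm_of_mem (inv_mem hl) (mul_mem (mul_mem hk hf) (inv_mem hk))
        calc v * f * v⁻¹ = l⁻¹ * (k * f * k⁻¹) * l := by rw [hv']; group
          _ = (k * f * k⁻¹) * l⁻¹ * l := by rw [h6]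
          _ = k * f * k⁻¹ := by group
    · obtain ⟨k, hkd⟩ : ∃ k, k = l * e * v := ⟨_, rfl⟩
      rw [← hkd] at hk
      have hei : e⁻¹ = e := inv_eq_of_mul_eq_one_left hsq
      have hv' : e * v = l⁻¹ * k := by rw [hkd]; group
      have hv2 : v = e * (l⁻¹ * k) := by rw [← hv', ← mul_assoc, hsq, one_mul]
      have h1 : e * l⁻¹ * e⁻¹ * (e * k * e⁻¹) = l⁻¹ * k := by
        calc e * l⁻¹ * e⁻¹ * (e * k * e⁻¹) = e * (l⁻¹ * k) * e⁻¹ := by group
          _ = e * (e * v) * e⁻¹ := by rw [hv']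
          _ = e * (v * e) * e⁻¹ := by rw [hve]
          _ = e * v := by group
          _ = l⁻¹ * k := hv'
      obtain ⟨h2, h3⟩ := H.uniq S.bad (L_conj hee (inv_mem hl)) (K_conj hee hk) (inv_mem hl) hk h1
      have hke : k * e = e * k := by
        calc k * e = (e * k * e⁻¹) * e := by rw [h3]
          _ = e * k := by group
      have h4 : l⁻¹ * l⁻¹ * (k * k) = 1 * 1 := by
        have h5 : (e * v) * (e * v) = 1 := by
          calc (e * v) * (e * v) = e * (v * e) * v := by group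
            _ = (e * e) * (v * v) := by rw [hve]; group
            _ = 1 := by rw [hsq, hvv, one_mul]
        rw [hv'] at h5
        calc l⁻¹ * l⁻¹ * (k * k) = l⁻¹ * (l⁻¹ * k) * k := by group
          _ = l⁻¹ * (k * l⁻¹) * k := by rw [comm_of_mem (inv_mem hl) hk]
          _ = l⁻¹ * k * (l⁻¹ * k) := by group
          _ = 1 * 1 := by rw [h5, one_mul]
      obtain ⟨-, h5⟩ := H.uniq S.bad (mul_mem (inv_mem hl) (inv_mem hl)) (mul_mem hk hk) (one_mem _)
        (one_mem _) h4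
      refine ⟨k, hk, h5, hke, ?_⟩
      intro f hf hfe
      have h6 := comm_of_mem (inv_mem hl) (mul_mem (mul_mem hk hf) (inv_mem hk))
      have h7 : (k * f * k⁻¹) * e = e * (k * f * k⁻¹) := cj_comm hke hfe
      calc v * f * v⁻¹ = e * (l⁻¹ * (k * f * k⁻¹)) * l * e⁻¹ := by rw [hv2]; group
        _ = e * ((k * f * k⁻¹) * l⁻¹) * l * e⁻¹ := by rw [h6]
        _ = (e * (k * f * k⁻¹)) * e⁻¹ := by group
        _ = k * f * k⁻¹ := by rw [← h7]; group
  obtain ⟨k, hk, hkk, hke, hact⟩ := key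
  obtain ⟨t, u, ht, hu, hne, htu⟩ := H.four S.bad
  have hmem : ∀ {x : G}, x ∈ centralizer (L : Set G) → x * e = e * x →
      x ∈ centralizer (L : Set G) ⊓ centralizer ({e} : Set G) := fun h1 h2 =>
    ⟨h1, mem_centralizer_singleton_iff.mpr h2⟩
  obtain ⟨x, hx, y, hy, hxx, hyy, hxy, hx1, hy1, hxy1, hkx, hky⟩ := Cfsg.Agent.UGT.SL.exists_four_commute
    (hmem ht.mem ht.comm) (hmem hu.mem hu.comm) ht.sq hu.sq htu ht.ne hu.ne hne (hmem hk hke) hkk
  have hxT : IsT L e x := ⟨hx.1, mem_centralizer_singleton_iff.mp hx.2, hxx, hx1⟩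
  have hyT : IsT L e y := ⟨hy.1, mem_centralizer_singleton_iff.mp hy.2, hyy, hy1⟩
  have hfix : ∀ f, IsT L e f → k * f = f * k → f * v = v * f := by
    intro f hf hkf
    have h1 := hact f hf.mem hf.comm
    have h2 : k * f * k⁻¹ = f := by rw [hkf]; group
    rw [h2] at h1
    calc f * v = (v * f * v⁻¹) * v := by rw [h1]
      _ = v * f := by group
  have hxv := hfix x hxT hkx
  have hyv := hfix y hyT hky
  have hxyT := isT_mul hxT hyT hxy1 hxy
  have hxyv : x * y * v = v * (x * y) := by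
    calc x * y * v = x * (y * v) := by group
      _ = (x * v) * y := by rw [hyv]; group
      _ = v * (x * y) := by rw [hxv]; group
  rw [hvd] at hxv hyv hxyv hnW
  -- the actions on `L^g`
  have hdich : ∀ w, IsT L e w → w * (g * z * g⁻¹) = g * z * g⁻¹ * w →
      ∃ l ∈ L, l * e * (g⁻¹ * w * g) ∈ centralizer (L : Set G) := by
    intro w hw hwv
    by_contra h
    push Not at h
    refine S.tame_of_tame H hnW hw ⟨S.cv H hwv, S.we hw, ww hw, ?_, h⟩
    intro l hl hk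
    exact S.no_inner H hw hwv hl hk
  obtain ⟨l1, hl1, hk1⟩ := hdich x hxT hxv
  obtain ⟨l2, hl2, hk2⟩ := hdich y hyT hyv
  -- the product is inner
  obtain ⟨k1, hk1d⟩ : ∃ k1, k1 = l1 * e * (g⁻¹ * x * g) := ⟨_, rfl⟩
  obtain ⟨k2, hk2d⟩ : ∃ k2, k2 = l2 * e * (g⁻¹ * y * g) := ⟨_, rfl⟩
  rw [← hk1d] at hk1
  rw [← hk2d] at hk2
  -- `x' = l1'⁻¹ e k1`
  have hx' : g⁻¹ * x * g = e⁻¹ * l1⁻¹ * k1 := by rw [hk1d]; group
  have hy' : g⁻¹ * y * g = e⁻¹ * l2⁻¹ * k2 := by rw [hk2d]; group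
  have hei : e⁻¹ = e := inv_eq_of_mul_eq_one_left hsq
  have hprod : g⁻¹ * (x * y) * g = (e * l1⁻¹ * e⁻¹ * l2⁻¹) * (e * k1 * e⁻¹ * k2) := by
    have hL2 : e * k1 * e⁻¹ ∈ centralizer (L : Set G) := K_conj hee hk1
    calc g⁻¹ * (x * y) * g = (g⁻¹ * x * g) * (g⁻¹ * y * g) := by group
      _ = e⁻¹ * l1⁻¹ * k1 * (e⁻¹ * l2⁻¹ * k2) := by rw [hx', hy']
      _ = e⁻¹ * (l1⁻¹ * k1 * e⁻¹ * l2⁻¹ * k2) := by group
      _ = e * (l1⁻¹ * k1 * e⁻¹ * l2⁻¹ * k2) := congrArg (· * (l1⁻¹ * k1 * e⁻¹ * l2⁻¹ * k2)) hei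
      _ = e * l1⁻¹ * e⁻¹ * ((e * k1 * e⁻¹) * l2⁻¹) * k2 := by group
      _ = e * l1⁻¹ * e⁻¹ * (l2⁻¹ * (e * k1 * e⁻¹)) * k2 := by rw [comm_of_mem (inv_mem hl2) hL2]
      _ = _ := by group
  refine S.no_inner H hxyT hxyv (l := (e * l1⁻¹ * e⁻¹ * l2⁻¹)⁻¹)
    (inv_mem (mul_mem (L_conj hee (inv_mem hl1)) (inv_mem hl2))) ?_
  rw [hprod, inv_mul_cancel_left]
  exact mul_mem (K_conj hee hk1) hk2

/-- (B), `v` wild -/
theorem wild [Finite G] (hW : Wild L e (g * z * g⁻¹)) : False := by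
  obtain ⟨v, hvd⟩ : ∃ v, v = g * z * g⁻¹ := ⟨_, rfl⟩
  have hee := H.mem S.bad
  have hge' : g⁻¹ * e = e * g⁻¹ := inv_comm S.hge
  -- an involution `w` of `C_K(e, v)`
  have hmem : ∀ {x : G}, x ∈ centralizer (L : Set G) → x * e = e * x →
      x ∈ centralizer (L : Set G) ⊓ centralizer ({e} : Set G) := fun h1 h2 =>
    ⟨h1, mem_centralizer_singleton_iff.mpr h2⟩
  obtain ⟨w, hwF, hww, hw1, hwv⟩ := exists_fixed
    (X := normalizer (L : Set G) ⊓ centralizer ({e} : Set G))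
    (N := centralizer (L : Set G) ⊓ centralizer ({e} : Set G))
    (le_inf (inf_le_left.trans K_le_M) inf_le_right) (fun x hx n hn => by
      have h1 := mem_centralizer_singleton_iff.mp hx.2
      have h2 := mem_centralizer_singleton_iff.mp hn.2
      exact hmem (K_conj hx.1 hn.1) (cj_comm h1 h2))
    (⟨S.hv, mem_centralizer_singleton_iff.mpr S.ve⟩) S.vv (hmem S.hz.mem S.hz.comm) S.hz.sq S.hz.ne
  have hw : IsT L e w := ⟨hwF.1, mem_centralizer_singleton_iff.mp hwF.2, hww, hw1⟩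
  have hJM2 : ∀ j ∈ J (g * z * g⁻¹), g⁻¹ * j * g⁻¹⁻¹ ∈ normalizer (L : Set G) := by
    intro j hj
    rw [inv_inv]
    exact S.cv H (H.wcomm S.bad _ hW j hj)
  have hJnK2 := H.J_not_le S.bad hW hge' hJM2
  have hw2M := S.cv H hwv
  have hw2K := S.wK H hw
  have hwj : ∀ j ∈ J (g * z * g⁻¹), g⁻¹ * j * g * (g⁻¹ * w * g) = g⁻¹ * w * g * (g⁻¹ * j * g) := by
    intro j hj
    have h1 := comm_of_mem (H.wle S.bad _ hW hj) hw.mem
    calc g⁻¹ * j * g * (g⁻¹ * w * g) = g⁻¹ * (j * w) * g := by group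
      _ = g⁻¹ * (w * j) * g := by rw [h1]
      _ = _ := by group
  -- `w` is wild on `L^g`
  have hW2 : Wild L e (g⁻¹ * w * g) := by
    by_contra hnW
    apply hJnK2
    intro j hj
    have h1 := H.solv S.bad _ hw2M (S.we hw) (ww hw) hw2K hnW
      ((J (g * z * g⁻¹)).map (MulAut.conj g⁻¹).toMonoidHom) (by
        intro x hx
        obtain ⟨y, hy, rfl⟩ := mem_map_conj.mp hx
        exact hJM2 y hy) (by
        intro x hx
        obtain ⟨y, hy, rfl⟩ := mem_map_conj.mp hx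
        rw [inv_inv]
        exact hwj y hy) (perf_map (H.wperf S.bad _ hW) _)
    exact h1 (mem_map_conj.mpr ⟨j, hj, rfl⟩)
  have hnK := S.J_nK H hw hW2
  -- the conjugate `X2` of `J w'`
  obtain ⟨X2, hX2⟩ : ∃ X2, X2 = (J (g⁻¹ * w * g)).map (MulAut.conj g).toMonoidHom := ⟨_, rfl⟩
  have hX2m : ∀ {x : G}, x ∈ X2 ↔ ∃ y ∈ J (g⁻¹ * w * g), g * y * g⁻¹ = x := by
    intro x; rw [hX2]; exact mem_map_conj
  have hX2M : X2 ≤ normalizer (L : Set G) := by
    intro x hx
    obtain ⟨y, hy, rfl⟩ := hX2m.mp hx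
    exact S.JM H hw hW2 hy
  have hX2v : ∀ x ∈ X2, x * (g * z * g⁻¹) = g * z * g⁻¹ * x := by
    intro x hx
    obtain ⟨y, hy, rfl⟩ := hX2m.mp hx
    exact S.Jv H hW2 hy
  have hX2w : ∀ x ∈ X2, x * w = w * x := by
    intro x hx
    obtain ⟨y, hy, rfl⟩ := hX2m.mp hx
    have h1 := H.wcomm S.bad _ hW2 y hy
    calc g * y * g⁻¹ * w = g * (y * (g⁻¹ * w * g)) * g⁻¹ := by group
      _ = g * ((g⁻¹ * w * g) * y) * g⁻¹ := by rw [h1]
      _ = w * (g * y * g⁻¹) := by group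
  have hX2p : X2 ≤ ⁅X2, X2⁆ := by rw [hX2]; exact perf_map (H.wperf S.bad _ hW2) g
  have hmax := H.wmax S.bad _ hW X2 hX2M hX2v hX2p
  -- the projection `JK` of `X2` to `K`
  let JK : Subgroup G :=
    { carrier := {k | k ∈ centralizer (L : Set G) ∧ ∃ j ∈ J (g * z * g⁻¹), j * k ∈ X2}
      mul_mem' := by
        rintro a b ⟨ha, j, hj, hja⟩ ⟨hb, j', hj', hjb⟩
        refine ⟨mul_mem ha hb, j * j', mul_mem hj hj', ?_⟩
        have h1 := comm_of_mem (H.wle S.bad _ hW hj') ha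
        have h2 : j * j' * (a * b) = (j * a) * (j' * b) := by
          calc j * j' * (a * b) = j * (j' * a) * b := by group
            _ = j * (a * j') * b := by rw [h1]
            _ = _ := by group
        rw [h2]
        exact mul_mem hja hjb
      one_mem' := ⟨one_mem _, 1, one_mem _, by rw [one_mul]; exact one_mem _⟩
      inv_mem' := by
        rintro a ⟨ha, j, hj, hja⟩
        refine ⟨inv_mem ha, j⁻¹, inv_mem hj, ?_⟩
        have h1 := comm_of_mem (H.wle S.bad _ hW hj) ha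
        have h2 : j⁻¹ * a⁻¹ = (j * a)⁻¹ := by rw [h1]; group
        rw [h2]
        exact inv_mem hja }
  have hJKm : ∀ {k : G}, k ∈ JK ↔ k ∈ centralizer (L : Set G) ∧ ∃ j ∈ J (g * z * g⁻¹), j * k ∈ X2 :=
    Iff.rfl
  have hJKp : JK ≤ ⁅JK, JK⁆ := by
    have hle : ⁅JK, JK⁆ ≤ JK := commutator_le.mpr fun a ha b hb =>
      mul_mem (mul_mem (mul_mem ha hb) (inv_mem ha)) (inv_mem hb)
    have h1 : ⁅X2, X2⁆ ≤ J (g * z * g⁻¹) ⊔ ⁅JK, JK⁆ := by
      rw [commutator_le]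
      intro a ha b hb
      obtain ⟨j, hj, k, hk, hjk⟩ := hmax a ha
      obtain ⟨j', hj', k', hk', hjk'⟩ := hmax b hb
      have h2 : k ∈ JK := ⟨hk, j, hj, hjk ▸ ha⟩
      have h3 : k' ∈ JK := ⟨hk', j', hj', hjk' ▸ hb⟩
      have hjL := H.wle S.bad _ hW hj
      have hj'L := H.wle S.bad _ hW hj'
      have h4 : a * b * a⁻¹ * b⁻¹ = (j * j' * j⁻¹ * j'⁻¹) * (k * k' * k⁻¹ * k'⁻¹) := by
        rw [hjk, hjk']
        have e1 := comm_of_mem hj'L hk
        have e2 := comm_of_mem (inv_mem hjL) (mul_mem (mul_mem hk hk') (inv_mem hk))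
        have e3 := comm_of_mem (inv_mem hj'L) (mul_mem (mul_mem (mul_mem hk hk') (inv_mem hk)) (inv_mem hk'))
        calc j * k * (j' * k') * (j * k)⁻¹ * (j' * k')⁻¹
            = j * (k * j') * k' * k⁻¹ * j⁻¹ * k'⁻¹ * j'⁻¹ := by group
          _ = j * (j' * k) * k' * k⁻¹ * j⁻¹ * k'⁻¹ * j'⁻¹ := by rw [e1]
          _ = j * j' * ((k * k' * k⁻¹) * j⁻¹) * k'⁻¹ * j'⁻¹ := by group
          _ = j * j' * (j⁻¹ * (k * k' * k⁻¹)) * k'⁻¹ * j'⁻¹ := by rw [e2]
          _ = j * j' * j⁻¹ * ((k * k' * k⁻¹ * k'⁻¹) * j'⁻¹) := by group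
          _ = j * j' * j⁻¹ * (j'⁻¹ * (k * k' * k⁻¹ * k'⁻¹)) := by rw [e3]
          _ = _ := by group
      rw [commutatorElement_def, h4]
      have h5 := commutator_mem_commutator h2 h3
      rw [commutatorElement_def] at h5
      exact mul_mem (mem_sup_left (mul_mem (mul_mem (mul_mem hj hj') (inv_mem hj)) (inv_mem hj')))
        (mem_sup_right h5)
    intro k hk
    obtain ⟨hkK, j, hj, hjk⟩ := hk
    obtain ⟨j', hj', k', hk', hjk'⟩ := Cfsg.Agent.UGT.SL.exists_mul_of_mem_sup (by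
      intro b hb a ha
      have h2 := comm_of_mem (H.wle S.bad _ hW ha) (hle hb).1
      have h3 : b * a * b⁻¹ = a := by rw [← h2]; group
      rw [h3]; exact ha) (h1 (hX2p hjk))
    obtain ⟨-, h3⟩ := H.uniq S.bad (H.wle S.bad _ hW hj') (hle hk').1 (H.wle S.bad _ hW hj) hkK hjk'
    rw [← h3]; exact hk'
  -- `JK` centralises `L^g`
  have hJKw : ∀ k ∈ JK, k * w = w * k := by
    rintro k ⟨-, j, hj, hjk⟩
    have h1 := hX2w _ hjk
    have h2 := comm_of_mem (inv_mem (H.wle S.bad _ hW hj)) hw.mem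
    calc k * w = j⁻¹ * ((j * k) * w) := by group
      _ = (j⁻¹ * w) * (j * k) := by rw [h1]; group
      _ = w * k := by rw [h2]; group
  have hJKv : ∀ k ∈ JK, k * (g * z * g⁻¹) = g * z * g⁻¹ * k := by
    rintro k ⟨-, j, hj, hjk⟩
    have h1 := hX2v _ hjk
    have h2 := H.wcomm S.bad _ hW _ (inv_mem hj)
    calc k * (g * z * g⁻¹) = j⁻¹ * ((j * k) * (g * z * g⁻¹)) := by group
      _ = (j⁻¹ * (g * z * g⁻¹)) * (j * k) := by rw [h1]; group
      _ = g * z * g⁻¹ * k := by rw [h2]; group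
  have hJKc : ∀ k ∈ JK, g⁻¹ * k * g ∈ centralizer (L : Set G) := by
    have h1 := H.wmax S.bad _ hW2 (JK.map (MulAut.conj g⁻¹).toMonoidHom) (by
      intro x hx
      obtain ⟨y, hy, rfl⟩ := mem_map_conj.mp hx
      rw [inv_inv]
      exact S.cv H (hJKv y hy)) (by
      intro x hx
      obtain ⟨y, hy, rfl⟩ := mem_map_conj.mp hx
      rw [inv_inv]
      calc g⁻¹ * y * g * (g⁻¹ * w * g) = g⁻¹ * (y * w) * g := by group
        _ = g⁻¹ * (w * y) * g := by rw [hJKw y hy]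
        _ = _ := by group) (perf_map hJKp _)
    have h2 := H.wmin S.bad _ _ hW2 hW g⁻¹ hJM2 (by
      intro j hj
      rw [inv_inv]
      exact hwj j hj) hJnK2
    intro k hk
    obtain ⟨i, hi, κ, hκ, hiκ⟩ := h1 (g⁻¹ * k * g) (mem_map_conj.mpr ⟨k, hk, by rw [inv_inv]⟩)
    have hcen : ∀ i' ∈ J (g⁻¹ * w * g), i * i' = i' * i := by
      intro i' hi'
      obtain ⟨j, hj, κ', hκ', hjκ⟩ := h2 i' hi'
      rw [inv_inv] at hjκ
      have hiL := H.wle S.bad _ hW2 hi
      have hi'L := H.wle S.bad _ hW2 hi'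
      have h3 : g⁻¹ * k * g * (g⁻¹ * j * g) = g⁻¹ * j * g * (g⁻¹ * k * g) := by
        have h4 := comm_of_mem (H.wle S.bad _ hW hj) hk.1
        calc g⁻¹ * k * g * (g⁻¹ * j * g) = g⁻¹ * (k * j) * g := by group
          _ = g⁻¹ * (j * k) * g := by rw [h4]
          _ = _ := by group
      rw [hiκ, hjκ] at h3
      have h5 : i * i' * (κ * κ') = i' * i * (κ' * κ) := by
        calc i * i' * (κ * κ') = i * (i' * κ) * κ' := by group
          _ = i * (κ * i') * κ' := by rw [comm_of_mem hi'L hκ]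
          _ = i * κ * (i' * κ') := by group
          _ = i' * κ' * (i * κ) := h3
          _ = i' * (κ' * i) * κ := by group
          _ = i' * (i * κ') * κ := by rw [comm_of_mem hiL hκ']
          _ = _ := by group
      exact (H.uniq S.bad (mul_mem hiL hi'L) (mul_mem hκ hκ') (mul_mem hi'L hiL) (mul_mem hκ' hκ) h5).1
    have hi1 := H.wcen S.bad hW2 hi hcen
    rw [hiκ, hi1, one_mul]
    exact hκ
  -- an involution `i` of `J w'` commuting with `e`
  obtain ⟨i, hi, hiS⟩ := H.wfix S.bad _ hW2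
  have hxX : g * i * g⁻¹ ∈ X2 := hX2m.mpr ⟨i, hi, rfl⟩
  obtain ⟨x, hxd⟩ : ∃ x, x = g * i * g⁻¹ := ⟨_, rfl⟩
  have hxe : x * e = e * x := by rw [hxd]; exact cj_comm S.hge hiS.comm
  have hxx : x * x = 1 := by
    rw [hxd]
    calc g * i * g⁻¹ * (g * i * g⁻¹) = g * (i * i) * g⁻¹ := by group
      _ = 1 := by rw [hiS.sq]; group
  have hx1 : x ≠ 1 := by
    intro h
    apply hiS.ne
    calc i = g⁻¹ * x * g := by rw [hxd]; group
      _ = 1 := by rw [h]; group
  obtain ⟨j, hj, k, hk, hjk⟩ := hmax _ hxX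
  rw [← hxd] at hjk
  have hjL := H.wle S.bad _ hW hj
  have h1 : e * j * e⁻¹ * (e * k * e⁻¹) = j * k := by
    calc e * j * e⁻¹ * (e * k * e⁻¹) = e * (j * k) * e⁻¹ := by group
      _ = e * x * e⁻¹ := by rw [hjk]
      _ = j * k := by rw [← hxe, hjk]; group
  obtain ⟨-, hke⟩ := H.uniq S.bad (L_conj hee hjL) (K_conj hee hk) hjL hk h1
  have h2 : j * j * (k * k) = 1 * 1 := by
    calc j * j * (k * k) = j * (j * k) * k := by group
      _ = j * (k * j) * k := by rw [comm_of_mem hjL hk]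
      _ = (j * k) * (j * k) := by group
      _ = 1 * 1 := by rw [← hjk, hxx, one_mul]
  obtain ⟨-, hkk⟩ := H.uniq S.bad (mul_mem hjL hjL) (mul_mem hk hk) (one_mem _) (one_mem _) h2
  have hk1 : k = 1 := by
    by_contra hk1
    have hkT : IsT L e k := ⟨hk, by
      calc k * e = (e * k * e⁻¹) * e := by rw [hke]
        _ = e * k := by group, hkk, hk1⟩
    apply S.wK H hkT
    exact hJKc k ⟨hk, j, hj, by rw [← hjk, hxd]; exact hxX⟩
  rw [hk1, mul_one] at hjk
  have hxJ : x ∈ J (g * z * g⁻¹) := hjk ▸ hj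
  -- `X2 ≤ J v`
  have hX2J : ∀ i ∈ J (g⁻¹ * w * g), g * i * g⁻¹ ∈ J (g * z * g⁻¹) := by
    rcases H.wsimp S.bad _ hW2 (J (g⁻¹ * w * g) ⊓ (J (g * z * g⁻¹)).comap (MulAut.conj g).toMonoidHom)
      inf_le_left (by
        rintro a ha n ⟨hn, hn2⟩
        refine mem_inf.mpr ⟨mul_mem (mul_mem ha hn) (inv_mem ha), ?_⟩
        change g * (a * n * a⁻¹) * g⁻¹ ∈ J (g * z * g⁻¹)
        obtain ⟨j', hj', k', hk', hjk'⟩ := hmax _ (hX2m.mpr ⟨a, ha, rfl⟩)
        have hn3 : g * n * g⁻¹ ∈ J (g * z * g⁻¹) := hn2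
        have h3 := comm_of_mem (H.wle S.bad _ hW hn3) hk'
        have h4 : g * (a * n * a⁻¹) * g⁻¹ = j' * (g * n * g⁻¹) * j'⁻¹ := by
          calc g * (a * n * a⁻¹) * g⁻¹ = (g * a * g⁻¹) * (g * n * g⁻¹) * (g * a * g⁻¹)⁻¹ := by group
            _ = j' * (k' * (g * n * g⁻¹)) * k'⁻¹ * j'⁻¹ := by rw [hjk']; group
            _ = j' * ((g * n * g⁻¹) * k') * k'⁻¹ * j'⁻¹ := by rw [h3]
            _ = _ := by group
        rw [h4]
        exact mul_mem (mul_mem hj' hn3) (inv_mem hj')) with h | h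
    · exfalso
      apply hiS.ne
      have h3 : i ∈ J (g⁻¹ * w * g) ⊓ (J (g * z * g⁻¹)).comap (MulAut.conj g).toMonoidHom := by
        refine ⟨hi, ?_⟩
        change g * i * g⁻¹ ∈ J (g * z * g⁻¹)
        rw [← hxd]; exact hxJ
      rw [h] at h3
      exact mem_bot.mp h3
    · intro i hi
      have h3 : i ∈ J (g⁻¹ * w * g) ⊓ (J (g * z * g⁻¹)).comap (MulAut.conj g).toMonoidHom := h.symm ▸ hi
      exact h3.2
  have hJL : ∀ j ∈ J (g * z * g⁻¹), g⁻¹ * j * g ∈ L := by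
    intro j hj
    obtain ⟨i, hi, k, hk, hik⟩ := H.wmin S.bad _ _ hW hW2 g (fun j hj => S.JM H hw hW2 hj)
      (fun j hj => S.Jv H hW2 hj) hnK j hj
    have h3 : g * i * g⁻¹ * 1 = j * k := by rw [mul_one]; exact hik
    obtain ⟨h4, -⟩ := H.uniq S.bad (H.wle S.bad _ hW (hX2J i hi)) (one_mem _) (H.wle S.bad _ hW hj) hk h3
    rw [← h4]
    have h5 : g⁻¹ * (g * i * g⁻¹) * g = i := by group
    rw [h5]
    exact H.wle S.bad _ hW2 hi
  have hxS : IsS L e x := ⟨H.wle S.bad _ hW hxJ, hxe, hxx, hx1⟩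
  have hYL : ∀ y ∈ Y e, g⁻¹ * y * g ∈ L := by
    intro y hy
    have h3 := H.Y_conj S.bad hxS hiS hge' (by rw [hxd, inv_inv]; group) hy
    rw [inv_inv] at h3
    exact H.YL S.bad h3
  have hfin : L ≤ L.comap (MulAut.conj g⁻¹).toMonoidHom := by
    apply H.wY S.bad _ hW
    · intro j hj
      change g⁻¹ * j * g⁻¹⁻¹ ∈ L
      rw [inv_inv]; exact hJL j hj
    · intro y hy
      change g⁻¹ * y * g⁻¹⁻¹ ∈ L
      rw [inv_inv]; exact hYL y hy
  apply S.hg
  have h3 : g⁻¹ ∈ normalizer (L : Set G) := mem_normalizer_of fun l hl => hfin hl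
  have h4 := inv_mem h3
  rwa [inv_inv] at h4

end Sit

/-- (B) -/
theorem fus [Finite G] {e z g : G} (he : B e) (hz : IsT L e z) (hge : g * e = e * g)
    (hv : g * z * g⁻¹ ∈ normalizer (L : Set G)) : g ∈ normalizer (L : Set G) := by
  by_contra hg
  have S : Sit B L e z g := ⟨he, hz, hge, hv, hg⟩
  by_cases hW : Wild L e (g * z * g⁻¹)
  · exact S.wild H hW
  · exact S.tame H hW

end Conf

end Cfsg.Agent.UGT.CE
end

-- part: UGT/CE/Main
section
/-!
# `C(e) ≤ N(L)` for bad involutions `e`, IV: the theorem (helper20, UGT node `N2`)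
-/

set_option autoImplicit false

open Subgroup

namespace Cfsg.Agent.UGT.CE

open Cfsg.Agent.UGT.ThE.Base (IsT IsS comm_of_mem L_conj L_conj' K_le_M L_le_M K_conj K_conj' exists_central)
open Cfsg.Agent.UGT.CE.Base

universe u

variable {G : Type u} [Group G]

theorem inv_pow' {s v : G} (hs : s * s = 1) (hv : v * v = 1) (n : ℕ) :
    s * (s * v) ^ n * s⁻¹ = ((s * v) ^ n)⁻¹ := by
  have hs' : s⁻¹ = s := inv_eq_of_mul_eq_one_left hs
  have hv' : v⁻¹ = v := inv_eq_of_mul_eq_one_left hv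
  have h1 : s * (s * v) * s⁻¹ = (s * v)⁻¹ := by
    rw [mul_inv_rev, hv', hs']
    calc s * (s * v) * s = (s * s) * v * s := by group
      _ = v * s := by rw [hs, one_mul]
  rw [← conj_pow, h1, inv_pow]

/-- two involutions `s`, `v` that are not conjugate in `⟨s, v⟩`: an involution `u ∈ ⟨s, v⟩` commuting with both, and
`d ∈ ⟨sv⟩` with `v^d = uv` or `v^d = su` -/
theorem dih [Finite G] {s v : G} (hs : s * s = 1) (hv : v * v = 1) {H : Subgroup G} (hsH : s ∈ H) (hvH : v ∈ H) :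
    (∃ c ∈ H, c * s * c⁻¹ = v) ∨
      ∃ u ∈ H, u * u = 1 ∧ u ≠ 1 ∧ u * s = s * u ∧ u * v = v * u ∧ ∃ d ∈ H, d * u = u * d ∧
        (d * v * d⁻¹ = u * v ∨ d * v * d⁻¹ = s * u) := by
  obtain ⟨r, hr⟩ : ∃ r, r = s * v := ⟨_, rfl⟩
  have hrH : r ∈ H := hr ▸ mul_mem hsH hvH
  have hsr : ∀ n : ℕ, s * r ^ n * s⁻¹ = (r ^ n)⁻¹ := fun n => hr ▸ inv_pow' hs hv n
  have hs' : s⁻¹ = s := inv_eq_of_mul_eq_one_left hs
  have hv' : v⁻¹ = v := inv_eq_of_mul_eq_one_left hv
  have hvr' : v = s * r := by rw [hr, ← mul_assoc, hs, one_mul]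
  have hvr : ∀ n : ℕ, v * r ^ n * v⁻¹ = (r ^ n)⁻¹ := by
    intro n
    have h1 : r * r ^ n * r⁻¹ = r ^ n := by rw [← pow_succ', pow_succ]; group
    calc v * r ^ n * v⁻¹ = s * (r * r ^ n * r⁻¹) * s⁻¹ := by rw [hvr']; group
      _ = (r ^ n)⁻¹ := by rw [h1, hsr]
  have hpos : 0 < orderOf r := orderOf_pos _
  rcases Nat.even_or_odd (orderOf r) with ⟨m, hm⟩ | ⟨m, hm⟩
  · right
    have hm0 : 0 < m := by omega
    have h0 : r ^ m * r ^ m = 1 := by rw [← pow_add, ← hm]; exact pow_orderOf_eq_one r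
    have h1 : r ^ m ≠ 1 := by
      intro h
      have := orderOf_dvd_of_pow_eq_one h
      have := Nat.le_of_dvd hm0 this
      omega
    have h2 : (r ^ m)⁻¹ = r ^ m := inv_eq_of_mul_eq_one_left h0
    have h3 : r ^ m * s = s * r ^ m := by
      have := hsr m
      rw [h2] at this
      calc r ^ m * s = (s * r ^ m * s⁻¹) * s := by rw [this]
        _ = s * r ^ m := by group
    have h4 : r ^ m * v = v * r ^ m := by
      have := hvr m
      rw [h2] at this
      calc r ^ m * v = (v * r ^ m * v⁻¹) * v := by rw [this]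
        _ = v * r ^ m := by group
    have hconj : ∀ n : ℕ, r ^ n * v * (r ^ n)⁻¹ = r ^ (2 * n) * v := by
      intro n
      have h5 : v * (r ^ n)⁻¹ * v⁻¹ = r ^ n := by
        calc v * (r ^ n)⁻¹ * v⁻¹ = (v * r ^ n * v⁻¹)⁻¹ := by group
          _ = r ^ n := by rw [hvr, inv_inv]
      calc r ^ n * v * (r ^ n)⁻¹ = r ^ n * (v * (r ^ n)⁻¹ * v⁻¹) * v := by group
        _ = r ^ (2 * n) * v := by rw [h5, ← pow_add, two_mul]
    refine ⟨r ^ m, pow_mem hrH m, h0, h1, h3, h4, ?_⟩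
    rcases Nat.even_or_odd m with ⟨n, hn⟩ | ⟨n, hn⟩
    · refine ⟨r ^ n, pow_mem hrH n, by rw [← pow_add, ← pow_add, add_comm], Or.inl ?_⟩
      rw [hconj, show 2 * n = m by omega]
    · refine ⟨(r ^ n)⁻¹, inv_mem (pow_mem hrH n), ?_, Or.inr ?_⟩
      · have h5 : r ^ n * r ^ m = r ^ m * r ^ n := by rw [← pow_add, ← pow_add, add_comm]
        exact inv_comm h5
      · rw [inv_inv]
        -- `r^-n v r^n = s r^m`
        have h5 : (r ^ n)⁻¹ * s = s * r ^ n := by
          rw [← hsr n]; group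
        calc (r ^ n)⁻¹ * v * r ^ n = ((r ^ n)⁻¹ * s) * r * r ^ n := by rw [hvr']; group
          _ = s * (r ^ n * r * r ^ n) := by rw [h5]; group
          _ = s * r ^ m := by rw [← pow_succ, ← pow_add]; congr 2; omega
  · left
    refine ⟨r ^ m, pow_mem hrH m, ?_⟩
    have h1 : s * (r ^ m)⁻¹ = r ^ m * s := by
      rw [← hsr m, hs']
      calc s * (s * r ^ m * s) = (s * s) * r ^ m * s := by group
        _ = r ^ m * s := by rw [hs, one_mul]
    have h2 : r ^ (m + m) = r⁻¹ := by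
      have h3 : r ^ (m + m) * r = 1 := by rw [← pow_succ, show m + m + 1 = orderOf r by omega, pow_orderOf_eq_one]
      exact eq_inv_of_mul_eq_one_left h3
    calc r ^ m * s * (r ^ m)⁻¹ = r ^ m * (s * (r ^ m)⁻¹) := by group
      _ = r ^ (m + m) * s := by rw [h1, pow_add]; group
      _ = r⁻¹ * s := by rw [h2]
      _ = v := by
        rw [hr, mul_inv_rev, hs', hv']
        calc v * s * s = v * (s * s) := by group
          _ = v := by rw [hs, mul_one]

theorem exists_four_commute' [Finite G] {K : Subgroup G} {a b k : G} (ha : a ∈ K) (hb : b ∈ K) (ha2 : a * a = 1)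
    (hb2 : b * b = 1) (hab : a * b = b * a) (ha1 : a ≠ 1) (hb1 : b ≠ 1) (hne : a ≠ b) (hk : k ∈ K)
    (hk2 : k * k = 1) : ∃ x ∈ K, ∃ y ∈ K, x * x = 1 ∧ y * y = 1 ∧ x * y = y * x ∧ x ≠ 1 ∧ y ≠ 1 ∧ x ≠ y ∧
      k * x = x * k ∧ k * y = y * k :=
  Cfsg.Agent.UGT.SL.exists_four_commute ha hb ha2 hb2 hab ha1 hb1 hne hk hk2

/-- `C(e) ≤ N(L)` -/
theorem Conf.main [Finite G] {O Y J : G → Subgroup G} {L : Subgroup G} {B : G → Prop} (H : Conf O Y J L B)
    {e : G} (he : B e) {c : G} (hc : c * e = e * c) : c ∈ normalizer (L : Set G) := by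
  obtain ⟨g, hgd⟩ : ∃ g, g = c := ⟨_, rfl⟩
  rw [← hgd] at hc ⊢
  by_contra hg
  have hee := H.mem he
  obtain ⟨t0, u0, hz, hu0, hne0, htu0⟩ := H.four he
  obtain ⟨z, hzd⟩ : ∃ z, z = t0 := ⟨_, rfl⟩
  have hz' : IsT L e z := hzd ▸ hz
  obtain ⟨s, hs⟩ := H.exS he
  have hsM : s ∈ normalizer (L : Set G) := L_le_M hs.mem
  obtain ⟨v, hvd⟩ : ∃ v, v = g * z * g⁻¹ := ⟨_, rfl⟩
  have hve : v * e = e * v := by rw [hvd]; exact cj_comm hc hz'.comm
  have hvv : v * v = 1 := by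
    rw [hvd]
    calc g * z * g⁻¹ * (g * z * g⁻¹) = g * (z * z) * g⁻¹ := by group
      _ = 1 := by rw [hz'.sq]; group
  have hvM : v ∉ normalizer (L : Set G) := fun h => hg (H.fus he hz' hc (hvd ▸ h))
  have hmem : ∀ {x : G}, x * e = e * x → x ∈ centralizer ({e} : Set G) :=
    fun h => mem_centralizer_singleton_iff.mpr h
  have hmem' : ∀ {x : G}, x ∈ centralizer ({e} : Set G) → x * e = e * x :=
    fun h => mem_centralizer_singleton_iff.mp h
  -- an element of `C_K(e)` conjugate to `z` under `C(e)`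
  have hfus : ∀ h : G, h * e = e * h → ∀ z', IsT L e z' → h * z' * h⁻¹ ∈ normalizer (L : Set G) →
      h * z' * h⁻¹ ∈ centralizer (L : Set G) := fun h hh z' hz'' hm =>
    K_conj (H.fus he hz'' hh hm) hz''.mem
  have hei := inv_comm hc
  rcases dih hs.sq hvv (hmem hs.comm) (hmem hve) with ⟨d, hd, hdv⟩ | ⟨u, huH, huu, hu1, hus, huv, d, hdH, hdu, hd⟩
  · -- `s` is conjugate to `z` in `C(e)`
    have hde := hmem' hd
    have h1 : (d⁻¹ * g) * e = e * (d⁻¹ * g) := by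
      calc (d⁻¹ * g) * e = d⁻¹ * (g * e) := by group
        _ = (d⁻¹ * e) * g := by rw [hc]; group
        _ = e * (d⁻¹ * g) := by rw [inv_comm hde]; group
    have h2 : (d⁻¹ * g) * z * (d⁻¹ * g)⁻¹ = s := by
      calc (d⁻¹ * g) * z * (d⁻¹ * g)⁻¹ = d⁻¹ * (g * z * g⁻¹) * d := by group
        _ = d⁻¹ * (d * s * d⁻¹) * d := by rw [← hvd, hdv]
        _ = s := by group
    have h3 := hfus _ h1 z hz' (by rw [h2]; exact hsM)
    rw [h2] at h3
    exact hs.ne (H.disj he hs.mem h3)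
  have hue := hmem' huH
  have hde := hmem' hdH
  have huM : u ∈ normalizer (L : Set G) := H.ces he hs hue hus
  -- `u` is not in the conjugate of `K`
  have hnF : g⁻¹ * u * g ∉ centralizer (L : Set G) := by
    intro h
    have h1 : IsT L e (g⁻¹ * u * g) := ⟨h, by
      have h2 := cj_comm hei hue
      rwa [inv_inv] at h2, by
      calc g⁻¹ * u * g * (g⁻¹ * u * g) = g⁻¹ * (u * u) * g := by group
        _ = 1 := by rw [huu]; group, by
      intro h2
      apply hu1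
      calc u = g * (g⁻¹ * u * g) * g⁻¹ := by group
        _ = 1 := by rw [h2]; group⟩
    apply hg
    apply H.fus he h1 hc
    have h2 : g * (g⁻¹ * u * g) * g⁻¹ = u := by group
    rw [h2]; exact huM
  rcases hd with hd | hd
  · -- `v^d = uv`
    obtain ⟨h, hhd⟩ : ∃ h, h = g⁻¹ * d * g := ⟨_, rfl⟩
    have h1 : h * e = e * h := by
      rw [hhd]
      have h2 := cj_comm hei hde
      rwa [inv_inv] at h2
    have h2 : h * z * h⁻¹ = g⁻¹ * (u * v) * g := by
      rw [← hd, hhd, hvd]; group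
    have h3 : h * z * h⁻¹ ∈ normalizer (L : Set G) := by
      apply H.Ct he z hz'
      rw [h2]
      have h4 : u * v * v = v * (u * v) := (congrArg (· * v) huv).trans (mul_assoc v u v)
      calc g⁻¹ * (u * v) * g * z = g⁻¹ * (u * v * (g * z * g⁻¹)) * g := by group
        _ = g⁻¹ * (v * (u * v)) * g := by rw [← hvd, h4]
        _ = z * (g⁻¹ * (u * v) * g) := by rw [hvd]; group
    have h4 := hfus h h1 z hz' h3
    rw [h2] at h4
    apply hnF
    have h5 : g⁻¹ * u * g = g⁻¹ * (u * v) * g * z⁻¹ := by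
      rw [hvd]; group
    rw [h5]
    exact mul_mem h4 (inv_mem hz'.mem)
  · -- `v^d = su =: r'`
    obtain ⟨r, hrd⟩ : ∃ r, r = s * u := ⟨_, rfl⟩
    rw [← hrd] at hd
    have h1 : (d * g) * e = e * (d * g) := by
      calc (d * g) * e = d * (g * e) := by group
        _ = (d * e) * g := by rw [hc]; group
        _ = e * (d * g) := by rw [hde]; group
    have h2 : (d * g) * z * (d * g)⁻¹ = r := by
      calc (d * g) * z * (d * g)⁻¹ = d * (g * z * g⁻¹) * d⁻¹ := by group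
        _ = r := by rw [← hvd, hd]
    have hrM : r ∈ normalizer (L : Set G) := by rw [hrd]; exact mul_mem hsM huM
    have hrK : r ∈ centralizer (L : Set G) := by
      have h3 := hfus _ h1 z hz' (by rw [h2]; exact hrM)
      rwa [h2] at h3
    have hre : r * e = e * r := by
      rw [hrd]
      calc s * u * e = s * (u * e) := by group
        _ = (s * e) * u := by rw [hue]; group
        _ = e * (s * u) := by rw [hs.comm]; group
    have hrr : r * r = 1 := by
      rw [hrd]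
      calc s * u * (s * u) = s * (u * s) * u := by group
        _ = (s * s) * (u * u) := by rw [hus]; group
        _ = 1 := by rw [hs.sq, huu, one_mul]
    have hr1 : r ≠ 1 := by
      intro h
      have h3 : v = 1 := by
        calc v = d⁻¹ * (d * v * d⁻¹) * d := by group
          _ = 1 := by rw [hd, h]; group
      exact hvM (h3 ▸ one_mem _)
    have hrT : IsT L e r := ⟨hrK, hre, hrr, hr1⟩
    have hsr : u = s * r := by rw [hrd, ← mul_assoc, hs.sq, one_mul]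
    have hru : r * u = u * r := by
      rw [hrd]
      calc s * u * u = u * s * u := by rw [hus]
        _ = u * (s * u) := by group
    -- `C := C(e, u)`
    have hmC : ∀ {x : G}, x * e = e * x → x * u = u * x →
        x ∈ centralizer ({e} : Set G) ⊓ centralizer ({u} : Set G) := fun h1 h2 =>
      ⟨mem_centralizer_singleton_iff.mpr h1, mem_centralizer_singleton_iff.mpr h2⟩
    rcases Cfsg.Agent.UGT.SL.zstar_sub (X := centralizer ({e} : Set G) ⊓ centralizer ({u} : Set G)) (hmC hre hru)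
      hrr hr1 with ⟨h, hh, hne, hcomm⟩ | ⟨N, hNX, hNodd, hNn, hNc⟩
    · have hhe := mem_centralizer_singleton_iff.mp hh.1
      have hhu := mem_centralizer_singleton_iff.mp hh.2
      have h3 : h * r * h⁻¹ ∈ normalizer (L : Set G) := H.Ct he r hrT _ hcomm.symm
      have hhM := H.fus he hrT hhe h3
      have h4 := hfus h hhe r hrT h3
      have h5 : h * s * h⁻¹ * (h * r * h⁻¹) = s * r := by
        calc h * s * h⁻¹ * (h * r * h⁻¹) = h * (s * r) * h⁻¹ := by group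
          _ = u := by rw [← hsr, hhu]; group
          _ = s * r := hsr
      exact hne (H.uniq he (L_conj hhM hs.mem) h4 hs.mem hrK h5).2
    · -- `N ≤ M`
      obtain ⟨x, hx, y, hy, hxx, hyy, hxy, hx1, hy1, hxy1, hkx, hky⟩ := exists_four_commute'
        (K := centralizer (L : Set G) ⊓ centralizer ({e} : Set G)) (k := r)
        ⟨hz.mem, hmem hz.comm⟩ ⟨hu0.mem, hmem hu0.comm⟩ hz.sq hu0.sq htu0 hz.ne hu0.ne hne0
        ⟨hrK, hmem hre⟩ hrr
      have hxT : IsT L e x := ⟨hx.1, hmem' hx.2, hxx, hx1⟩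
      have hyT : IsT L e y := ⟨hy.1, hmem' hy.2, hyy, hy1⟩
      have hxyT := isT_mul hxT hyT hxy1 hxy
      have hcu : ∀ f, IsT L e f → r * f = f * r → f ∈ centralizer ({e} : Set G) ⊓ centralizer ({u} : Set G) := by
        intro f hf hrf
        apply hmC hf.comm
        have h3 := comm_of_mem hs.mem hf.mem
        rw [hsr]
        calc f * (s * r) = (s * f) * r := by rw [h3]; group
          _ = s * r * f := by rw [mul_assoc, ← hrf]; group
      have hNM : N ≤ normalizer (L : Set G) := by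
        refine Cfsg.Agent.Lib.KleinGen.le_of_klein N _ hNodd x y hxx hyy hxy
          (fun a ha => hNn x (hcu x hxT hkx) a ha) (fun a ha => hNn y (hcu y hyT hky) a ha) ?_ ?_ ?_
        · intro c hc
          exact H.Ct he x hxT c (mem_centralizer_singleton_iff.mp hc.2)
        · intro c hc
          exact H.Ct he y hyT c (mem_centralizer_singleton_iff.mp hc.2)
        · intro c hc
          exact H.Ct he _ hxyT c (mem_centralizer_singleton_iff.mp hc.2)
      have hdC : d⁻¹ ∈ centralizer ({e} : Set G) ⊓ centralizer ({u} : Set G) :=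
        inv_mem (hmC hde hdu)
      have h3 := hNM (hNc d⁻¹ hdC)
      have h4 : v = r⁻¹ * (r * d⁻¹ * r⁻¹ * d⁻¹⁻¹) := by
        have hri : r⁻¹ = r := inv_eq_of_mul_eq_one_left hrr
        have h5 : v = d⁻¹ * r * d := by rw [← hd]; group
        rw [h5]
        calc d⁻¹ * r * d = d⁻¹ * r⁻¹ * d := by rw [hri]
          _ = r⁻¹ * (r * d⁻¹ * r⁻¹ * d⁻¹⁻¹) := by group
      apply hvM
      rw [h4]
      exact mul_mem (inv_mem hrM) h3

end Cfsg.Agent.UGT.CE
end

-- part: UGT/CE/L34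
section
/-!
# `C(e) ≤ N(L)` for bad involutions `e`, V: `L = L₃(4)`

`Facts3 x`: the facts on `L₃(4)`. `Grp O L B`: the hypotheses in the group `G`. `Grp.main`: `C(e) ≤ N(L)` for bad
`e`.
-/

set_option autoImplicit false

open Subgroup

namespace Cfsg.Agent.UGT.CE.L34

open Cfsg.Agent.UGT.ThE.Base (IsT IsS comm_of_mem L_conj L_conj' K_le_M L_le_M K_conj K_conj' exists_central)
open Cfsg.Agent.UGT.CE.Base
open Cfsg.Agent.UGT.ThEL34 (Acts Facts Facts2 fx mem_fx exists_acts acts_one_iff acts_coe acts_of_mem acts_one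
  acts_norm exists_hom)

universe u

/-- The facts on `L₃(4)` used for `C(e) ≤ N(L)`. -/
structure Facts3 {D : Type*} [Group D] (x : MulAut D) : Prop extends Facts2 x where
  /-- odd groups of automorphisms centralized by `x` and normalized by `C_D(x)` lie in `O(C_D(x))` -/
  core : ∀ E : Subgroup (MulAut D), Odd (Nat.card E) → (∀ e ∈ E, e * x = x * e) →
    (∀ l, x l = l → ∀ e ∈ E, MulAut.conj l * e * (MulAut.conj l)⁻¹ ∈ E) →
    ∀ e ∈ E, ∃ y, e = MulAut.conj y ∧ y ^ 3 = 1 ∧ x y = y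
  /-- the involutions of `C_D(x)` invert `O(C_D(x))` -/
  inv : ∀ b y, b * b = 1 → b ≠ 1 → x b = b → y ^ 3 = 1 → x y = y → b * y * b⁻¹ = y⁻¹
  exs : ∃ s, s * s = 1 ∧ s ≠ 1 ∧ x s = s
  /-- `⟨O(C_D(x)), O(C_D(xb))⟩ = D` for the involutions `b` of `C_D(x)` -/
  gen1 : ∀ b, b * b = 1 → b ≠ 1 → x b = b → ∀ H : Subgroup D, (∀ y, y ^ 3 = 1 → x y = y → y ∈ H) →
    (∀ y, y ^ 3 = 1 → x (b * y * b⁻¹) = y → y ∈ H) → H = ⊤
  /-- `Out D` is solvable -/
  out : ∀ X : Subgroup (MulAut D), X ≤ ⁅X, X⁆ → ∀ a ∈ X, ∃ l, a = MulAut.conj l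
  wcard : ∀ a, ThEL34.Wild x a → Nat.card (fx a) = 60 ∨ Nat.card (fx a) = 168
  /-- `C_D(a)` has one class of involutions -/
  winv : ∀ a, ThEL34.Wild x a → ∀ i j, a i = i → a j = j → i * i = 1 → i ≠ 1 → j * j = 1 → j ≠ 1 →
    ∃ m, a m = m ∧ m * i * m⁻¹ = j
  wY : ∀ a, ThEL34.Wild x a → a * x = x * a → ∀ H : Subgroup D, (∀ y, y ^ 3 = 1 → x y = y → y ∈ H) →
    fx a ≤ H → H = ⊤

/-- The facts on `L₃(4)` used in the paired case. -/
structure Facts4 {D : Type*} [Group D] (x : MulAut D) : Prop extends Facts3 x where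
  /-- `C_D(Y) = Y` for `Y = O(C_D(x))` -/
  cY : ∀ l, (∀ y, y ^ 3 = 1 → x y = y → l * y = y * l) → l ^ 3 = 1 ∧ x l = l

variable {G : Type u} [Group G]

/-- The first hypotheses in `G`. -/
structure Grp0 (O : G → Subgroup G) (L : Subgroup G) (B : G → Prop) : Prop where
  Ocj : ∀ g t a : G, a ∈ O t → g * a * g⁻¹ ∈ O (g * t * g⁻¹)
  Oc : ∀ {e}, B e → ∀ a ∈ O e, a * e = e * a
  odd : ∀ {e}, B e → Odd (Nat.card (O e))
  sq : ∀ {e}, B e → e * e = 1
  facts : ∀ {e}, B e → ∃ X : MulAut L, Acts L e X ∧ Facts3 X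

/-- The hypotheses in `G`. -/
structure Grp (O : G → Subgroup G) (L : Subgroup G) (B : G → Prop) : Prop extends Grp0 O L B where
  nc : ∀ g : G, ¬ ∀ l ∈ L, g * l * g⁻¹ ∈ centralizer (L : Set G)
  Bcj : ∀ {e}, B e → ∀ l ∈ L, B (l * e * l⁻¹)
  four : ∀ {e}, B e → ∃ t u, IsT L e t ∧ IsT L e u ∧ t ≠ u ∧ t * u = u * t
  Ct : ∀ {e}, B e → ∀ t, IsT L e t → ∀ c, c * t = t * c → c ∈ normalizer (L : Set G)
  /-- `O(C_L(e)) ≤ O(C(e))` -/
  bad : ∀ {e}, B e → ∀ y ∈ L, y ^ 3 = 1 → y * e = e * y → y ∈ O e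

/-- the subgroup `O(C_L(e))` -/
def YY (L : Subgroup G) (e : G) : Subgroup G := _root_.Subgroup.closure {y | y ∈ L ∧ y ^ 3 = 1 ∧ y * e = e * y}

/-- `C_L(v)` -/
def JJ (L : Subgroup G) (v : G) : Subgroup G := L ⊓ centralizer ({v} : Set G)

theorem mem_JJ {L : Subgroup G} {v j : G} : j ∈ JJ L v ↔ j ∈ L ∧ j * v = v * j := by
  rw [JJ, mem_inf, mem_centralizer_singleton_iff]

section aux

variable {L : Subgroup G} {e : G} {X : MulAut L}

theorem fix_iff' (hX : Acts L e X) (l : L) : X l = l ↔ (l : G) * e = e * l :=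
  (hX.fix_iff l).trans ⟨fun h => h.symm, fun h => h.symm⟩

theorem mem_YY (hX : Acts L e X) (F : Facts X) {y : G} : y ∈ YY L e ↔ y ∈ L ∧ y ^ 3 = 1 ∧ y * e = e * y := by
  constructor
  · intro h
    rw [YY] at h
    induction h using closure_induction with
    | mem y hy => exact hy
    | one => exact ⟨one_mem _, one_pow 3, by rw [one_mul, mul_one]⟩
    | mul y z _ _ iy iz =>
      refine ⟨mul_mem iy.1 iz.1, ?_, ?_⟩
      · have h := F.three ⟨y, iy.1⟩ ⟨z, iz.1⟩ (Subtype.ext iy.2.1) ((fix_iff' hX _).mpr iy.2.2)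
          (Subtype.ext iz.2.1) ((fix_iff' hX _).mpr iz.2.2)
        exact congrArg Subtype.val h
      · calc y * z * e = y * (z * e) := by group
          _ = (y * e) * z := by rw [iz.2.2]; group
          _ = e * (y * z) := by rw [iy.2.2]; group
    | inv y _ iy =>
      refine ⟨inv_mem iy.1, by rw [inv_pow, iy.2.1, inv_one], ?_⟩
      calc y⁻¹ * e = y⁻¹ * (e * y) * y⁻¹ := by group
        _ = y⁻¹ * (y * e) * y⁻¹ := by rw [iy.2.2]
        _ = e * y⁻¹ := by group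
  · intro h
    exact _root_.Subgroup.subset_closure h

theorem le_of_sub {H : Subgroup G} (h : H.subgroupOf L = ⊤) : L ≤ H := subgroupOf_eq_top.mp h

/-- wild elements act as wild automorphisms -/
theorem wild_acts (hX : Acts L e X) (hee : e * e = 1) {v : G} (hv : Wild L e v) {a : MulAut L}
    (ha : Acts L v a) : ThEL34.Wild X a where
  sq := ha.sq hv.sq
  inn l h := by
    subst h
    have h1 := (acts_coe l).inv_mul_mem ha
    exact hv.inn _ (inv_mem l.2) h1
  xinn l h := by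
    subst h
    have h1 := (hX.mul (acts_coe l)).inv_mul_mem ha
    have h2 : (e * (l : G))⁻¹ * v = (l : G)⁻¹ * e * v := by
      rw [mul_inv_rev, inv_eq_of_mul_eq_one_left hee]
    rw [h2] at h1
    exact hv.einn _ (inv_mem l.2) h1

theorem acts_wild (hX : Acts L e X) (hee : e * e = 1) {v : G} {a : MulAut L} (ha : Acts L v a)
    (hve : v * e = e * v) (hvv : v * v = 1) (h : ThEL34.Wild X a) : Wild L e v where
  mem := ha.mem
  comm := hve
  sq := hvv
  inn l hl hk := by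
    apply h.inn (⟨l, hl⟩⁻¹ : L)
    have h1 := (acts_coe (⟨l, hl⟩⁻¹ : L)).mulK hk
    have h2 : (((⟨l, hl⟩⁻¹ : L) : L) : G) * (l * v) = v := by
      change l⁻¹ * (l * v) = v
      group
    rw [h2] at h1
    exact ha.uniq h1
  einn l hl hk := by
    apply h.xinn (⟨l, hl⟩⁻¹ : L)
    have h1 := (hX.mul (acts_coe (⟨l, hl⟩⁻¹ : L))).mulK hk
    have h2 : e * (((⟨l, hl⟩⁻¹ : L) : L) : G) * (l * e * v) = v := by
      change e * l⁻¹ * (l * e * v) = v
      calc e * l⁻¹ * (l * e * v) = (e * e) * v := by group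
        _ = v := by rw [hee, one_mul]
    rw [h2] at h1
    exact ha.uniq h1

/-- a perfect subgroup of a solvable group is trivial -/
theorem perfect_bot {A : Type*} [Group A] {S P : Subgroup A} (hS : Group.IsSolvable S) (hP : P ≤ ⁅P, P⁆)
    (hPS : P ≤ S) : P = ⊥ := by
  have h2 : ∀ n, P.subgroupOf S ≤ derivedSeries S n := by
    intro n
    induction n with
    | zero => exact le_top
    | succ n ih =>
      have h3 : P.subgroupOf S ≤ ⁅P.subgroupOf S, P.subgroupOf S⁆ := by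
        rw [← map_le_map_iff_of_injective S.subtype_injective, map_commutator, subgroupOf_map_subtype,
          inf_eq_left.mpr hPS]
        exact hP
      exact h3.trans (commutator_mono ih ih)
  obtain ⟨n, hn⟩ := (Group.isSolvable_def S).mp hS
  rw [eq_bot_iff]
  intro p hp
  have h3 : (⟨p, hPS hp⟩ : S) ∈ derivedSeries S n := h2 n hp
  rw [hn, mem_bot] at h3
  rw [mem_bot]
  exact congrArg Subtype.val h3

/-- the image in `Aut L` of a perfect subgroup -/
theorem image_perfect {Q : Subgroup G} (hQ : Q ≤ normalizer (L : Set G)) (hp : Q ≤ ⁅Q, Q⁆) :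
    ∃ R : Subgroup (MulAut L), R ≤ ⁅R, R⁆ ∧ ∀ q ∈ Q, ∀ a, Acts L q a → a ∈ R := by
  obtain ⟨f, hf⟩ : ∃ f : Q →* MulAut L, ∀ q : Q, Acts L (q : G) (f q) :=
    ⟨L.normalizerMonoidHom.comp (inclusion hQ), fun q => acts_norm _⟩
  refine ⟨f.range, ?_, ?_⟩
  · rw [MonoidHom.range_eq_map, ← map_commutator]
    apply map_mono
    rw [← map_le_map_iff_of_injective Q.subtype_injective, map_commutator, ← MonoidHom.range_eq_map,
      range_subtype]
    exact hp
  · intro q hq a ha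
    exact ⟨⟨q, hq⟩, (hf _).uniq ha⟩

end aux

namespace Grp0

variable {O : G → Subgroup G} {L : Subgroup G} {B : G → Prop} (H : Grp0 O L B)
include H

theorem simp {e : G} (he : B e) (N : Subgroup G) (hN : N ≤ L) (hn : ∀ l ∈ L, ∀ n ∈ N, l * n * l⁻¹ ∈ N) :
    N = ⊥ ∨ N = L := by
  obtain ⟨X, hX, F⟩ := H.facts he
  have hs := F.simp
  have h1 : (N.subgroupOf L).Normal := by
    constructor
    intro n hn' l
    rw [mem_subgroupOf] at hn' ⊢
    exact hn l l.2 n hn'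
  rcases hs.eq_bot_or_eq_top_of_normal _ h1 with h | h
  · left
    rw [eq_bot_iff]
    intro n hn'
    have h2 : (⟨n, hN hn'⟩ : L) ∈ N.subgroupOf L := hn'
    rw [h, mem_bot] at h2
    exact congrArg Subtype.val h2
  · right
    exact le_antisymm hN (le_of_sub h)

theorem perf {e : G} (he : B e) (g : G) (hg : ∀ l ∈ L, g * l * g⁻¹ ∈ normalizer (L : Set G)) (l : G) (hl : l ∈ L) :
    ∃ l' ∈ L, g * l * g⁻¹ * l' ∈ centralizer (L : Set G) := by
  obtain ⟨X, hX, F⟩ := H.facts he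
  obtain ⟨ψ, hψ⟩ := exists_hom (J := (⊤ : Subgroup L)) (g := g) (fun j _ => hg j j.2)
  obtain ⟨l', hl'⟩ := F.inn (ψ.comp (topEquiv (G := L)).symm.toMonoidHom) ⟨l, hl⟩
  have h1 := hψ ((topEquiv (G := L)).symm ⟨l, hl⟩)
  have h2 : ψ ((topEquiv (G := L)).symm ⟨l, hl⟩) = MulAut.conj l' := hl'
  rw [h2] at h1
  refine ⟨(l' : G)⁻¹, inv_mem l'.2, ?_⟩
  exact h1.mul_inv_mem (acts_coe l')

theorem disj {e : G} (he : B e) {l : G} (hl : l ∈ L) (hk : l ∈ centralizer (L : Set G)) : l = 1 := by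
  obtain ⟨X, hX, F⟩ := H.facts he
  have h1 := (acts_of_mem hl).uniq (acts_one_iff.mpr hk)
  exact congrArg Subtype.val (F.cl _ h1)

theorem cj {e : G} (he : B e) (s : G) (hs : IsS L e s) : ∃ l ∈ L, l * e * l⁻¹ = e * s := by
  obtain ⟨X, hX, F⟩ := H.facts he
  have hXs := (fix_iff' hX ⟨s, hs.mem⟩).mpr hs.comm
  have hc : X * MulAut.conj ⟨s, hs.mem⟩ = MulAut.conj ⟨s, hs.mem⟩ * X := (F.comm_conj_iff X _).mpr hXs
  have hss : (⟨s, hs.mem⟩ : L) * ⟨s, hs.mem⟩ = 1 := Subtype.ext hs.sq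
  obtain ⟨m, hm⟩ := F.xconj ⟨s, hs.mem⟩ (by
    calc X * MulAut.conj ⟨s, hs.mem⟩ * (X * MulAut.conj ⟨s, hs.mem⟩)
        = X * (MulAut.conj ⟨s, hs.mem⟩ * X) * MulAut.conj ⟨s, hs.mem⟩ := by group
      _ = (X * X) * (MulAut.conj ⟨s, hs.mem⟩ * MulAut.conj ⟨s, hs.mem⟩) := by rw [← hc]; group
      _ = 1 := by rw [F.xx, ← map_mul, hss, map_one, one_mul])
  have h1 : MulAut.conj m⁻¹ * X * (MulAut.conj m⁻¹)⁻¹ = X * MulAut.conj ⟨s, hs.mem⟩ := by
    rw [map_inv]
    calc (MulAut.conj m)⁻¹ * X * (MulAut.conj m)⁻¹⁻¹ = (MulAut.conj m)⁻¹ *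
          (MulAut.conj m * (X * MulAut.conj ⟨s, hs.mem⟩) * (MulAut.conj m)⁻¹) * MulAut.conj m := by
            rw [hm, inv_inv]
      _ = _ := by group
  have h2 := ((acts_coe m⁻¹).mul hX).mul (acts_coe m⁻¹).inv
  rw [h1] at h2
  have h3 := (hX.mul (acts_of_mem hs.mem)).mul_inv_mem h2
  refine ⟨((m⁻¹ : L) : G), (m⁻¹ : L).2, ?_⟩
  set l : G := ((m⁻¹ : L) : G) with hl
  have hlL : l ∈ L := (m⁻¹ : L).2
  -- `e * s * (l * e * l⁻¹)⁻¹ ∈ L`
  have h4 : e * s * (l * e * l⁻¹)⁻¹ ∈ L := by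
    have h5 : e * s * (l * e * l⁻¹)⁻¹ = (e * (s * l) * e⁻¹) * l⁻¹ := by group
    rw [h5]
    exact mul_mem (L_conj hX.mem (mul_mem hs.mem hlL)) (inv_mem hlL)
  have h6 := H.disj he h4 h3
  exact (mul_inv_eq_one.mp h6).symm

theorem core {e : G} (he : B e) (hO : O e ≤ normalizer (L : Set G)) (a : G) (ha : a ∈ O e) :
    ∃ y ∈ YY L e, ∃ k ∈ centralizer (L : Set G), a = y * k := by
  obtain ⟨X, hX, F⟩ := H.facts he
  obtain ⟨f, hf⟩ : ∃ f : O e →* MulAut L, ∀ q : O e, Acts L (q : G) (f q) :=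
    ⟨L.normalizerMonoidHom.comp (inclusion hO), fun q => acts_norm _⟩
  have h1 : Odd (Nat.card f.range) := (H.odd he).of_dvd_nat (card_range_dvd f)
  have h2 : ∀ b ∈ f.range, b * X = X * b := by
    rintro b ⟨q, rfl⟩
    exact (hf q).comm hX (H.Oc he q q.2)
  have h3 : ∀ l, X l = l → ∀ b ∈ f.range, MulAut.conj l * b * (MulAut.conj l)⁻¹ ∈ f.range := by
    rintro l hl b ⟨q, rfl⟩
    have h4 : (l : G) * q * (l : G)⁻¹ ∈ O e := by
      have h5 := H.Ocj l e q q.2
      rwa [cj_eq ((fix_iff' hX l).mp hl)] at h5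
    refine ⟨⟨_, h4⟩, ?_⟩
    exact (hf ⟨_, h4⟩).uniq (((acts_coe l).mul (hf q)).mul (acts_coe l).inv)
  obtain ⟨y, hy, hy3, hXy⟩ := F.core _ h1 h2 h3 (f ⟨a, ha⟩) ⟨⟨a, ha⟩, rfl⟩
  refine ⟨y, (mem_YY hX F.toFacts).mpr ⟨y.2, ?_, (fix_iff' hX y).mp hXy⟩, (y : G)⁻¹ * a, ?_, by group⟩
  · exact congrArg Subtype.val hy3
  · have h6 := hf ⟨a, ha⟩
    rw [hy] at h6
    exact (acts_coe y).inv_mul_mem h6

theorem exS {e : G} (he : B e) : ∃ s, IsS L e s := by
  obtain ⟨X, hX, F⟩ := H.facts he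
  obtain ⟨s, hss, hs1, hXs⟩ := F.exs
  exact ⟨s, s.2, (fix_iff' hX s).mp hXs, congrArg Subtype.val hss, fun h => hs1 (Subtype.ext h)⟩

theorem inv {e : G} (he : B e) (s : G) (hs : IsS L e s) (y : G) (hy : y ∈ YY L e) : s * y * s⁻¹ = y⁻¹ := by
  obtain ⟨X, hX, F⟩ := H.facts he
  obtain ⟨hyL, hy3, hye⟩ := (mem_YY hX F.toFacts).mp hy
  have h1 := F.inv ⟨s, hs.mem⟩ ⟨y, hyL⟩ (Subtype.ext hs.sq) (fun h => hs.ne (congrArg Subtype.val h))
    ((fix_iff' hX _).mpr hs.comm) (Subtype.ext hy3) ((fix_iff' hX _).mpr hye)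
  exact congrArg Subtype.val h1

theorem gen1 {e : G} (he : B e) (s : G) (hs : IsS L e s) (H' : Subgroup G) (h1 : YY L e ≤ H')
    (h2 : YY L (e * s) ≤ H') : L ≤ H' := by
  obtain ⟨X, hX, F⟩ := H.facts he
  apply le_of_sub
  apply F.gen1 ⟨s, hs.mem⟩ (Subtype.ext hs.sq) (fun h => hs.ne (congrArg Subtype.val h))
    ((fix_iff' hX _).mpr hs.comm)
  · intro y hy3 hy
    rw [mem_subgroupOf]
    exact h1 (subset_closure ⟨y.2, congrArg Subtype.val hy3, (fix_iff' hX y).mp hy⟩)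
  · intro y hy3 hy
    rw [mem_subgroupOf]
    refine h2 (subset_closure ⟨y.2, congrArg Subtype.val hy3, ?_⟩)
    have h3 := hX (⟨s, hs.mem⟩ * y * ⟨s, hs.mem⟩⁻¹)
    rw [hy] at h3
    have h4 : (((⟨s, hs.mem⟩ * y * ⟨s, hs.mem⟩⁻¹ : L) : L) : G) = s * y * s⁻¹ := rfl
    rw [h4] at h3
    calc (y : G) * (e * s) = (e * (s * y * s⁻¹) * e⁻¹) * (e * s) := by rw [← h3]
      _ = e * s * y := by group

theorem gen2 {e : G} (he : B e) (s : G) (hs : IsS L e s) (H' : Subgroup G) (h1 : YY L e ≤ H')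
    (h2 : ∀ l ∈ L, l * s = s * l → l ∈ H') : L ≤ H' := by
  obtain ⟨X, hX, F⟩ := H.facts he
  apply le_of_sub
  rw [eq_top_iff, ← F.yp ⟨s, hs.mem⟩ (Subtype.ext hs.sq) (fun h => hs.ne (congrArg Subtype.val h))
    ((fix_iff' hX _).mpr hs.comm)]
  apply sup_le
  · rw [closure_le]
    rintro y ⟨hy3, hy⟩
    exact h1 (subset_closure ⟨y.2, congrArg Subtype.val hy3, (fix_iff' hX y).mp hy⟩)
  · intro l hl
    rw [mem_centralizer_singleton_iff] at hl
    exact h2 l l.2 (congrArg Subtype.val hl)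

theorem solv {e : G} (he : B e) (v : G) (hvM : v ∈ normalizer (L : Set G)) (hve : v * e = e * v)
    (hvv : v * v = 1) (hvK : v ∉ centralizer (L : Set G)) (hw : ¬ Wild L e v) (Q : Subgroup G)
    (hQ : Q ≤ normalizer (L : Set G)) (hc : ∀ x ∈ Q, x * v = v * x) (hp : Q ≤ ⁅Q, Q⁆) :
    Q ≤ centralizer (L : Set G) := by
  obtain ⟨X, hX, F⟩ := H.facts he
  obtain ⟨a, ha⟩ := exists_acts hvM
  obtain ⟨f, hf⟩ : ∃ f : Q →* MulAut L, ∀ q : Q, Acts L (q : G) (f q) :=
    ⟨L.normalizerMonoidHom.comp (inclusion hQ), fun q => acts_norm _⟩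
  have hR : f.range ≤ ⁅f.range, f.range⁆ := by
    rw [MonoidHom.range_eq_map, ← map_commutator]
    apply map_mono
    rw [← map_le_map_iff_of_injective Q.subtype_injective, map_commutator, ← MonoidHom.range_eq_map,
      range_subtype]
    exact hp
  have hRa : f.range ≤ centralizer ({a} : Set (MulAut L)) := by
    rintro _ ⟨q, rfl⟩
    rw [mem_centralizer_singleton_iff]
    exact (hf q).comm ha (hc q q.2)
  have ha1 : a ≠ 1 := fun h => hvK (acts_one_iff.mp (h ▸ ha))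
  have hsol : Group.IsSolvable (centralizer ({a} : Set (MulAut L))) := by
    rcases ThEL34.tri X (ha.sq hvv) with ⟨l, hl⟩ | ⟨l, hl⟩ | h
    · rw [hl]
      apply F.sols l (F.sq_of_conj (hl ▸ ha.sq hvv))
      rintro rfl
      exact ha1 (by rw [hl, map_one])
    · obtain ⟨m, hm⟩ := F.xconj l (hl ▸ ha.sq hvv)
      rw [← hl] at hm
      have h1 : (centralizer ({a} : Set (MulAut L))).map (MulAut.conj (MulAut.conj m)).toMonoidHom ≤
          centralizer ({X} : Set (MulAut L)) := by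
        rintro _ ⟨b, hb, rfl⟩
        have hb' := mem_centralizer_singleton_iff.mp hb
        rw [mem_centralizer_singleton_iff, ← hm]
        change MulAut.conj m * b * (MulAut.conj m)⁻¹ * (MulAut.conj m * a * (MulAut.conj m)⁻¹) =
          MulAut.conj m * a * (MulAut.conj m)⁻¹ * (MulAut.conj m * b * (MulAut.conj m)⁻¹)
        calc _ = MulAut.conj m * (b * a) * (MulAut.conj m)⁻¹ := by group
          _ = _ := by rw [hb']; group
      have := F.solx
      have h2 : Group.IsSolvable ((centralizer ({a} : Set (MulAut L))).map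
          (MulAut.conj (MulAut.conj m)).toMonoidHom) :=
        Group.isSolvable_of_isSolvable_injective (inclusion_injective h1)
      exact Group.isSolvable_of_isSolvable_injective
        (f := ((centralizer ({a} : Set (MulAut L))).equivMapOfInjective
          (MulAut.conj (MulAut.conj m)).toMonoidHom (MulAut.conj (MulAut.conj m)).injective).toMonoidHom)
        (MulEquiv.injective _)
    · exact absurd (acts_wild hX (H.sq he) ha hve hvv h) hw
  have hbot := perfect_bot hsol hR hRa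
  intro q hq
  have h1 : f ⟨q, hq⟩ ∈ f.range := ⟨_, rfl⟩
  rw [hbot, mem_bot] at h1
  have h2 := hf ⟨q, hq⟩
  rw [h1] at h2
  exact acts_one_iff.mp h2

/-! ### Wild elements -/

/-- the data of a wild element -/
theorem wild {e : G} (he : B e) {v : G} (hv : Wild L e v) :
    ∃ X a : MulAut L, Acts L e X ∧ Facts3 X ∧ Acts L v a ∧ ThEL34.Wild X a ∧ a * X = X * a := by
  obtain ⟨X, hX, F⟩ := H.facts he
  obtain ⟨a, ha⟩ := exists_acts hv.mem
  exact ⟨X, a, hX, F, ha, wild_acts hX (H.sq he) hv ha, ha.comm hX hv.comm⟩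

omit H in
theorem fx_JJ {v : G} {a : MulAut L} (ha : Acts L v a) (l : L) : l ∈ fx a ↔ (l : G) ∈ JJ L v := by
  rw [mem_fx, fix_iff' ha, mem_JJ]
  exact ⟨fun h => ⟨l.2, h⟩, fun h => h.2⟩

omit H in
theorem JJ_map {v : G} {a : MulAut L} (ha : Acts L v a) : (fx a).map L.subtype = JJ L v := by
  apply le_antisymm
  · rintro _ ⟨l, hl, rfl⟩
    exact (fx_JJ ha l).mp hl
  · intro j hj
    exact ⟨⟨j, (mem_JJ.mp hj).1⟩, (fx_JJ ha ⟨j, (mem_JJ.mp hj).1⟩).mpr hj, rfl⟩

theorem wsimp {e : G} (he : B e) (v : G) (hv : Wild L e v) (N : Subgroup G) (hN : N ≤ JJ L v)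
    (hn : ∀ l ∈ JJ L v, ∀ n ∈ N, l * n * l⁻¹ ∈ N) : N = ⊥ ∨ N = JJ L v := by
  obtain ⟨X, a, hX, F, ha, hw, hc⟩ := H.wild he hv
  have hs := F.wsimp a hw
  obtain ⟨f, hf⟩ : ∃ f : fx a →* G, ∀ j : fx a, f j = ((j : L) : G) :=
    ⟨L.subtype.comp (fx a).subtype, fun j => rfl⟩
  have h1 : (N.comap f).Normal := by
    constructor
    intro n hn' l
    rw [mem_comap] at hn' ⊢
    rw [map_mul, map_mul, map_inv, hf l]
    exact hn _ ((fx_JJ ha l).mp l.2) _ hn'
  have hinj : ∀ n ∈ N, ∃ j : fx a, f j = n := by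
    intro n hn'
    have h2 := hN hn'
    exact ⟨⟨⟨n, (mem_JJ.mp h2).1⟩, (fx_JJ ha _).mpr h2⟩, by rw [hf]⟩
  rcases hs.eq_bot_or_eq_top_of_normal _ h1 with h | h
  · left
    rw [eq_bot_iff]
    intro n hn'
    obtain ⟨j, rfl⟩ := hinj n hn'
    have h2 : j ∈ N.comap f := hn'
    rw [h, mem_bot] at h2
    rw [h2, map_one]
    exact one_mem _
  · right
    apply le_antisymm hN
    intro j hj
    have h2 : (⟨⟨j, (mem_JJ.mp hj).1⟩, (fx_JJ ha _).mpr hj⟩ : fx a) ∈ N.comap f := by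
      rw [h]; exact mem_top _
    rw [mem_comap, hf] at h2
    exact h2

theorem wperf {e : G} (he : B e) (v : G) (hv : Wild L e v) : JJ L v ≤ ⁅JJ L v, JJ L v⁆ := by
  obtain ⟨X, a, hX, F, ha, hw, hc⟩ := H.wild he hv
  rw [← JJ_map ha, ← map_commutator]
  apply map_mono
  have h1 := F.wperf a hw
  rw [← map_subtype_commutator, h1]
  rw [← MonoidHom.range_eq_map, range_subtype]

theorem exists_inv {e : G} (he : B e) {v : G} (hv : Wild L e v) : ∃ i ∈ JJ L v, i * i = 1 ∧ i ≠ 1 := by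
  obtain ⟨X, a, hX, F, ha, hw, hc⟩ := H.wild he hv
  have hfin : Finite (fx a) := Nat.finite_of_card_ne_zero (by
    rcases F.wcard a hw with h | h <;> rw [h] <;> decide)
  have : Fact (Nat.Prime 2) := ⟨Nat.prime_two⟩
  obtain ⟨i, hi⟩ := exists_prime_orderOf_dvd_card' 2 (F.weven a hw)
  refine ⟨((i : L) : G), (fx_JJ ha i).mp i.2, ?_, ?_⟩
  · have h1 := pow_orderOf_eq_one i
    rw [hi, pow_two] at h1
    exact congrArg Subtype.val (congrArg Subtype.val h1)
  · intro h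
    have h1 : i = 1 := Subtype.ext (Subtype.ext h)
    rw [h1, orderOf_one] at hi
    omega

theorem wfix [Finite G] {e : G} (he : B e) (v : G) (hv : Wild L e v) : ∃ i ∈ JJ L v, IsS L e i := by
  obtain ⟨X, a, hX, F, ha, hw, hc⟩ := H.wild he hv
  obtain ⟨z, hz, hzz, hz1⟩ := H.exists_inv he hv
  obtain ⟨w, hw1, hww, hwne, hwe⟩ := exists_fixed (X := normalizer (JJ L v : Set G)) (N := JJ L v)
    (v := e) (z := z) le_normalizer (fun x hx n hn => (mem_normalizer_iff.mp hx n).mp hn) (by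
      apply mem_normalizer_of
      intro l hl
      obtain ⟨h1, h2⟩ := mem_JJ.mp hl
      rw [mem_JJ]
      exact ⟨L_conj hX.mem h1, cj_comm hv.comm.symm h2⟩) (H.sq he) hz hzz hz1
  exact ⟨w, hw1, (mem_JJ.mp hw1).1, hwe, hww, hwne⟩

theorem wone {e : G} (he : B e) (v : G) (hv : Wild L e v) (i : G) (hi : i ∈ JJ L v) (i' : G) (hi' : i' ∈ JJ L v)
    (hii : i * i = 1) (hi1 : i ≠ 1) (hii' : i' * i' = 1) (hi1' : i' ≠ 1) : ∃ j ∈ JJ L v, j * i * j⁻¹ = i' := by
  obtain ⟨X, a, hX, F, ha, hw, hc⟩ := H.wild he hv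
  obtain ⟨m, hm, hmi⟩ := F.winv a hw ⟨i, (mem_JJ.mp hi).1⟩ ⟨i', (mem_JJ.mp hi').1⟩
    ((fx_JJ ha _).mpr hi) ((fx_JJ ha _).mpr hi') (Subtype.ext hii) (fun h => hi1 (congrArg Subtype.val h))
    (Subtype.ext hii') (fun h => hi1' (congrArg Subtype.val h))
  exact ⟨m, (fx_JJ ha m).mp hm, congrArg Subtype.val hmi⟩

theorem wgen {e : G} (he : B e) (v : G) (hv : Wild L e v) (H' : Subgroup G)
    (h : ∀ j ∈ JJ L v, j * j = 1 → j ≠ 1 → ∀ l ∈ L, l * j = j * l → l ∈ H') : L ≤ H' := by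
  obtain ⟨X, a, hX, F, ha, hw, hc⟩ := H.wild he hv
  obtain ⟨i, hi, hii, hi1⟩ := H.exists_inv he hv
  -- the involutions of `J` generate `J`
  have hJ : _root_.Subgroup.closure {j | j ∈ JJ L v ∧ j * j = 1} = JJ L v := by
    rcases H.wsimp he v hv (_root_.Subgroup.closure {j | j ∈ JJ L v ∧ j * j = 1}) (by
      rw [closure_le]
      exact fun j hj => hj.1) (by
      intro l hl n hn
      induction hn using closure_induction with
      | mem n hn =>
        apply Subgroup.subset_closure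
        refine ⟨mul_mem (mul_mem hl hn.1) (inv_mem hl), ?_⟩
        calc l * n * l⁻¹ * (l * n * l⁻¹) = l * (n * n) * l⁻¹ := by group
          _ = 1 := by rw [hn.2]; group
      | one => simp only [_root_.mul_one, _root_.mul_inv_cancel, _root_.OneMemClass.one_mem]
      | mul a b _ _ ha hb =>
        have : l * (a * b) * l⁻¹ = (l * a * l⁻¹) * (l * b * l⁻¹) := by group
        rw [this]; exact mul_mem ha hb
      | inv a _ ha =>
        have : l * a⁻¹ * l⁻¹ = (l * a * l⁻¹)⁻¹ := by group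
        rw [this]; exact inv_mem ha) with h1 | h1
    · exfalso
      have h2 : i ∈ _root_.Subgroup.closure {j | j ∈ JJ L v ∧ j * j = 1} := subset_closure ⟨hi, hii⟩
      rw [h1, mem_bot] at h2
      exact hi1 h2
    · exact h1
  have hJH : JJ L v ≤ H' := by
    rw [← hJ, closure_le]
    rintro j ⟨hj, hjj⟩
    by_cases hj1 : j = 1
    · rw [hj1]; exact one_mem _
    · exact h j hj hjj hj1 j (mem_JJ.mp hj).1 rfl
  apply le_of_sub
  rw [eq_top_iff, ← F.wgen a hw ⟨i, (mem_JJ.mp hi).1⟩ (Subtype.ext hii)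
    (fun h => hi1 (congrArg Subtype.val h)) ((fx_JJ ha _).mpr hi)]
  apply sup_le
  · intro l hl
    exact hJH ((fx_JJ ha l).mp hl)
  · intro l hl
    rw [mem_centralizer_singleton_iff] at hl
    exact h i hi hii hi1 l l.2 (congrArg Subtype.val hl)

theorem wY {e : G} (he : B e) (v : G) (hv : Wild L e v) (H' : Subgroup G) (h1 : JJ L v ≤ H')
    (h2 : YY L e ≤ H') : L ≤ H' := by
  obtain ⟨X, a, hX, F, ha, hw, hc⟩ := H.wild he hv
  apply le_of_sub
  apply F.wY a hw hc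
  · intro y hy3 hy
    rw [mem_subgroupOf]
    exact h2 (subset_closure ⟨y.2, congrArg Subtype.val hy3, (fix_iff' hX y).mp hy⟩)
  · intro l hl
    exact h1 ((fx_JJ ha l).mp hl)

theorem wmax {e : G} (he : B e) (v : G) (hv : Wild L e v) (Q : Subgroup G) (hQ : Q ≤ normalizer (L : Set G))
    (hQv : ∀ x ∈ Q, x * v = v * x) (hp : Q ≤ ⁅Q, Q⁆) (q : G) (hq : q ∈ Q) :
    ∃ j ∈ JJ L v, ∃ k ∈ centralizer (L : Set G), q = j * k := by
  obtain ⟨X, a, hX, F, ha, hw, hc⟩ := H.wild he hv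
  obtain ⟨R, hR, hR2⟩ := image_perfect hQ hp
  obtain ⟨b, hb⟩ := exists_acts (hQ hq)
  obtain ⟨l, rfl⟩ := F.out R hR b (hR2 q hq b hb)
  have h1 : a l = l := (F.comm_conj_iff a l).mp (ha.comm hb (hQv q hq).symm)
  exact ⟨l, (fx_JJ ha l).mp h1, (l : G)⁻¹ * q, (acts_coe l).inv_mul_mem hb, by group⟩

theorem card_JJ {e : G} (he : B e) {v : G} (hv : Wild L e v) : Nat.card (JJ L v) = 60 ∨ Nat.card (JJ L v) = 168 := by
  obtain ⟨X, a, hX, F, ha, hw, hc⟩ := H.wild he hv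
  have h1 : Nat.card (JJ L v) = Nat.card (fx a) := by
    rw [← JJ_map ha]
    exact Nat.card_congr ((fx a).equivMapOfInjective _ L.subtype_injective).symm.toEquiv
  rw [h1]
  exact F.wcard a hw

theorem wmin [Finite G] {e : G} (he : B e) (v v' : G) (hv : Wild L e v) (hv' : Wild L e v') (h : G)
    (h1 : ∀ j ∈ JJ L v', h * j * h⁻¹ ∈ normalizer (L : Set G))
    (h2 : ∀ j ∈ JJ L v', h * j * h⁻¹ * v = v * (h * j * h⁻¹))
    (h3 : ¬ ∀ j ∈ JJ L v', h * j * h⁻¹ ∈ centralizer (L : Set G)) (j : G) (hj : j ∈ JJ L v) :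
    ∃ j' ∈ JJ L v', ∃ k ∈ centralizer (L : Set G), h * j' * h⁻¹ = j * k := by
  -- `h J' h⁻¹` is perfect
  obtain ⟨Q, hQd⟩ : ∃ Q, Q = (JJ L v').map (MulAut.conj h).toMonoidHom := ⟨_, rfl⟩
  have hmem : ∀ j ∈ JJ L v', h * j * h⁻¹ ∈ Q := fun j hj => hQd ▸ ⟨j, hj, rfl⟩
  have hmem' : ∀ q ∈ Q, ∃ j ∈ JJ L v', q = h * j * h⁻¹ := by
    intro q hq
    rw [hQd] at hq
    obtain ⟨j, hj, rfl⟩ := hq
    exact ⟨j, hj, rfl⟩
  have hQ : Q ≤ normalizer (L : Set G) := by
    intro q hq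
    obtain ⟨j, hj, rfl⟩ := hmem' q hq
    exact h1 j hj
  have hQv : ∀ q ∈ Q, q * v = v * q := by
    intro q hq
    obtain ⟨j, hj, rfl⟩ := hmem' q hq
    exact h2 j hj
  have hQp : Q ≤ ⁅Q, Q⁆ := by
    rw [hQd, ← map_commutator]
    exact map_mono (H.wperf he v' hv')
  have key := H.wmax he v hv Q hQ hQv hQp
  -- the homomorphism `J' → J`
  have hd : ∀ {a b c d : G}, a ∈ L → b ∈ centralizer (L : Set G) → c ∈ L → d ∈ centralizer (L : Set G) →
      a * b = c * d → a = c := by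
    intro a b c d ha hb hc hd heq
    have h4 : c⁻¹ * a = d * b⁻¹ := by
      calc c⁻¹ * a = c⁻¹ * (a * b) * b⁻¹ := by group
        _ = d * b⁻¹ := by rw [heq]; group
    have h5 := H.disj he (mul_mem (inv_mem hc) ha) (by rw [h4]; exact mul_mem hd (inv_mem hb))
    exact (inv_mul_eq_one.mp h5).symm
  choose! φ hφ κ hκ hφκ using fun j hj => key (h * j * h⁻¹) (hmem j hj)
  obtain ⟨f, hf⟩ : ∃ f : JJ L v' →* JJ L v, ∀ j : JJ L v', ((f j : JJ L v) : G) = φ j :=
    ⟨{ toFun := fun j => ⟨φ j, hφ j j.2⟩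
       map_one' := by
         apply Subtype.ext
         change φ ((1 : JJ L v') : G) = 1
         refine hd (mem_JJ.mp (hφ _ (one_mem _))).1 (hκ _ (one_mem _)) (one_mem L)
           (one_mem (centralizer (L : Set G))) ?_
         rw [OneMemClass.coe_one, ← hφκ _ (one_mem _)]
         group
       map_mul' := fun a b => by
         apply Subtype.ext
         change φ ((a * b : JJ L v') : G) = φ a * φ b
         refine hd (mem_JJ.mp (hφ _ (a * b).2)).1 (hκ _ (a * b).2)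
           (mul_mem (mem_JJ.mp (hφ _ a.2)).1 (mem_JJ.mp (hφ _ b.2)).1)
           (mul_mem (hκ _ a.2) (hκ _ b.2)) ?_
         rw [← hφκ _ (a * b).2]
         have h4 := comm_of_mem (mem_JJ.mp (hφ _ b.2)).1 (hκ _ a.2)
         calc h * ((a * b : JJ L v') : G) * h⁻¹ = (h * (a : G) * h⁻¹) * (h * (b : G) * h⁻¹) := by
               rw [Subgroup.coe_mul]; group
           _ = φ a * (κ a * φ b) * κ b := by rw [hφκ _ a.2, hφκ _ b.2]; group
           _ = φ a * φ b * (κ a * κ b) := by rw [← h4]; group }, fun j => rfl⟩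
  have hinj : Function.Injective f := by
    rw [← MonoidHom.ker_eq_bot_iff]
    have hk : f.ker.map (JJ L v').subtype = ⊥ ∨ f.ker.map (JJ L v').subtype = JJ L v' := by
      apply H.wsimp he v' hv'
      · rintro _ ⟨k, _, rfl⟩
        exact k.2
      · rintro l hl _ ⟨k, hk, rfl⟩
        refine ⟨⟨l, hl⟩ * k * ⟨l, hl⟩⁻¹, ?_, rfl⟩
        exact f.normal_ker.conj_mem k hk _
    rcases hk with hk | hk
    · exact (map_eq_bot_iff_of_injective _ (JJ L v').subtype_injective).mp hk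
    · exfalso
      apply h3
      intro j hj
      have h5 : j ∈ f.ker.map (JJ L v').subtype := by rw [hk]; exact hj
      obtain ⟨k, hk, rfl⟩ := h5
      have h6 : f k = 1 := hk
      have h7 := hf k
      rw [h6] at h7
      change h * (k : G) * h⁻¹ ∈ _
      rw [hφκ _ k.2, ← h7, OneMemClass.coe_one, one_mul]
      exact hκ _ k.2
  have hcard : Nat.card (JJ L v') = Nat.card (JJ L v) := by
    have h4 := card_dvd_of_injective f hinj
    rcases H.card_JJ he hv with h5 | h5 <;> rcases H.card_JJ he hv' with h6 | h6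
    · rw [h5, h6]
    · rw [h5, h6] at h4
      exact absurd h4 (by decide)
    · rw [h5, h6] at h4
      exact absurd h4 (by decide)
    · rw [h5, h6]
  have hsurj : Function.Surjective f := by
    have h4 := (Nat.bijective_iff_injective_and_card f).mpr ⟨hinj, hcard⟩
    exact h4.2
  obtain ⟨j', hj'⟩ := hsurj ⟨j, hj⟩
  refine ⟨j', j'.2, κ j', hκ _ j'.2, ?_⟩
  rw [hφκ _ j'.2, ← hf j', hj']

end Grp0

namespace Grp

variable {O : G → Subgroup G} {L : Subgroup G} {B : G → Prop} (H : Grp O L B)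
include H

/-- The configuration of `Conf.main`. -/
theorem conf [Finite G] {e₀ : G} (he₀ : B e₀) : Conf O (YY L) (JJ L) L B where
  Ocj := H.Ocj
  simp := H.toGrp0.simp he₀
  nc := H.nc
  perf := H.toGrp0.perf he₀
  sq := H.sq
  mem he := by
    obtain ⟨X, hX, F⟩ := H.facts he
    exact hX.mem
  odd := H.odd
  Bcj := H.Bcj
  four := H.four
  Ct := H.Ct
  YL he y hy := by
    obtain ⟨X, hX, F⟩ := H.facts he
    exact ((mem_YY hX F.toFacts).mp hy).1
  YO he y hy := by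
    obtain ⟨X, hX, F⟩ := H.facts he
    obtain ⟨h1, h2, h3⟩ := (mem_YY hX F.toFacts).mp hy
    exact H.bad he y h1 h2 h3
  core := H.toGrp0.core
  exS := H.toGrp0.exS
  inv := H.toGrp0.inv
  cj := H.toGrp0.cj
  gen1 := H.toGrp0.gen1
  gen2 := H.toGrp0.gen2
  solv := H.toGrp0.solv
  wle _ v _ := inf_le_left
  wcomm _ v _ j hj := (mem_JJ.mp hj).2
  wsimp := H.toGrp0.wsimp
  wperf := H.toGrp0.wperf
  wfix := H.toGrp0.wfix
  wone := H.toGrp0.wone
  wgen := H.toGrp0.wgen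
  wY := H.toGrp0.wY
  wmax := H.toGrp0.wmax
  wmin := H.toGrp0.wmin

/-- `C(e) ≤ N(L)` for bad `e` -/
theorem main [Finite G] {e : G} (he : B e) {c : G} (hc : c * e = e * c) : c ∈ normalizer (L : Set G) :=
  (H.conf he).main he hc

end Grp

end Cfsg.Agent.UGT.CE.L34
end

-- part: UGT/CE/Facts3
section
/-!
# `C(e) ≤ N(L)` for bad involutions `e`, VII: the facts on `L₃(4)`
-/

set_option autoImplicit false
set_option linter.constructorNameAsVariable false
set_option linter.unusedVariables false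

namespace Cfsg.Agent.UGT.CE.L34

open Subgroup
open Cfsg.Agent.SporadicA.FieldFour
open Cfsg.Agent.LThreeFour Cfsg.Agent.LThreeFour.Dat
open Cfsg.Agent.ONType.Psl (PSL3 SL3 T t tm)
open Cfsg.Agent.ClassicalGeometry.AutPSL.Root
open Cfsg.Agent.ClassicalGeometry.AutPSL.Auto
open Cfsg.Agent.UGT.ThEL34 (fx mem_fx Facts Facts2)
open Cfsg.Agent.UGT.FL34
open Cfsg.Agent.UGT.Iface (IsL34)

variable {L : Type*} [Group L]

/-- `Out L` is solvable -/
theorem out (e : PSL3 ≃* L) (X : Subgroup (MulAut L)) (hX : X ≤ ⁅X, X⁆) (a : MulAut L) (ha : a ∈ X) :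
    ∃ l, a = MulAut.conj l := by
  rw [← (D e).inner_iff]
  have h1 : (X.map (D e).tyHom) ≤ ⁅X.map (D e).tyHom, X.map (D e).tyHom⁆ := by
    rw [← map_commutator]
    exact map_mono hX
  have hs := TyG.isSolvable
  have h2 : Group.IsSolvable (⊤ : Subgroup TyG) :=
    Group.isSolvable_of_isSolvable_injective (f := (⊤ : Subgroup TyG).subtype) (subtype_injective _)
  have h3 := perfect_bot h2 h1 le_top
  have h4 : (D e).tyHom a ∈ X.map (D e).tyHom := ⟨a, ha, rfl⟩
  rwa [h3, mem_bot] at h4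

section

variable (e : PSL3 ≃* L) {x : MulAut L} (hx : x * x = 1)
  (hb : bits ((D e).tyHom x) = (true, true))

include hx hb in
theorem exs : ∃ s, s * s = 1 ∧ s ≠ 1 ∧ x s = s := by
  obtain ⟨e', he⟩ := pure1 e hx hb (by decide)
  exact ⟨(D e').x 0 2 1, (D e').x_sq 0 2 (by decide) 1, x02_ne _, x02_one _ he⟩

include hx hb in
theorem wcard (a : MulAut L) (ha : ThEL34.Wild x a) : Nat.card (fx a) = 60 ∨ Nat.card (fx a) = 168 := by
  obtain ⟨e', h | h⟩ := wpure e hx hb ha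
  · right
    rw [eq_tr e' isTau_f0 h, Nat.card_congr (fxEquiv e' f0).toEquiv, card_f0]
  · left
    rw [eq_tr e' isTau_g0 h, Nat.card_congr (fxEquiv e' g0).toEquiv, card_g0]

/-- transport of conjugacy -/
theorem winv_aux {e' : PSL3 ≃* L} {a : MulAut L} {b : MulAut PSL3} (h : a = _root_.Cfsg.Agent.UGT.FL34.tr e' b)
    (hc : ∀ i : PSL3, b i = i → i * i = 1 → i ≠ 1 → ∃ g, b g = g ∧ g * i * g⁻¹ = t 0 2 1) (i j : L)
    (hi : a i = i) (hj : a j = j) (hii : i * i = 1) (hi1 : i ≠ 1) (hjj : j * j = 1) (hj1 : j ≠ 1) :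
    ∃ m, a m = m ∧ m * i * m⁻¹ = j := by
  have key : ∀ i : L, a i = i → i * i = 1 → i ≠ 1 → ∃ m, a m = m ∧ m * i * m⁻¹ = e' (t 0 2 1) := by
    intro i hi hii hi1
    rw [h, fix_symm] at hi
    obtain ⟨g, hg, hgi⟩ := hc (e'.symm i) hi (by rw [← map_mul, hii, map_one])
      (fun h => hi1 (e'.symm.injective (by rw [h, map_one])))
    refine ⟨e' g, by rw [h, tr_e, hg], ?_⟩
    rw [← hgi, map_mul, map_mul, map_inv, e'.apply_symm_apply]
  obtain ⟨m, hm, hmi⟩ := key i hi hii hi1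
  obtain ⟨n, hn, hnj⟩ := key j hj hjj hj1
  refine ⟨n⁻¹ * m, by rw [map_mul, map_inv, hm, hn], ?_⟩
  calc n⁻¹ * m * i * (n⁻¹ * m)⁻¹ = n⁻¹ * (m * i * m⁻¹) * n := by group
    _ = n⁻¹ * (n * j * n⁻¹) * n := by rw [hmi, hnj]
    _ = j := by group

include hx hb in
theorem winv (a : MulAut L) (ha : ThEL34.Wild x a) (i j : L) (hi : a i = i) (hj : a j = j) (hii : i * i = 1)
    (hi1 : i ≠ 1) (hjj : j * j = 1) (hj1 : j ≠ 1) : ∃ m, a m = m ∧ m * i * m⁻¹ = j := by
  obtain ⟨e', h | h⟩ := wpure e hx hb ha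
  · exact winv_aux (eq_tr e' isTau_f0 h) (fun i h1 h2 h3 => conj_f0 h1 h2 h3) i j hi hj hii hi1 hjj hj1
  · exact winv_aux (eq_tr e' isTau_g0 h) (fun i h1 h2 h3 => conj_g0 h1 h2 h3) i j hi hj hii hi1 hjj hj1

/-- the elements of `Y` in coordinates -/
theorem mem_R {e' : PSL3 ≃* L} {x : MulAut L} (h : (D e').IsTau (true, true, 0) x) {R : M3}
    (hR : R.unit = true) (h3 : (M3.cube R).isSc = true) :
    (e' (pr (sl R (unit_det hR)))) ^ 3 = 1 ∧ x (e' (pr (sl R (unit_det hR)))) = e' (pr (sl R (unit_det hR))) := by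
  constructor
  · rw [← map_pow, (pow_three_iff (M := sl R (unit_det hR)) rfl).2 h3, map_one]
  · rw [eq_tr e' isTau_x0 h, tr_e, fix_x0_mem hR]

theorem R1_cube : (M3.cube R1).isSc = true := indep_chk.1

theorem R2_cube : (M3.cube R2).isSc = true := indep_chk.2.1

include hx hb in
theorem wY (a : MulAut L) (ha : ThEL34.Wild x a) (hax : a * x = x * a) (H : Subgroup L)
    (h1 : ∀ y, y ^ 3 = 1 → x y = y → y ∈ H) (h2 : fx a ≤ H) : H = ⊤ := by
  obtain ⟨e', h3, h4⟩ := pl2' e hx hb ha.sq (wild_bits e hx hb ha) hax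
  obtain ⟨H0, hH0⟩ : ∃ H0, H0 = H.comap e'.toMonoidHom := ⟨_, rfl⟩
  have hm : ∀ l, l ∈ H0 ↔ e' l ∈ H := fun l => by rw [hH0]; exact Iff.rfl
  have hR2 : pr (sl R2 det_R2) ∈ H0 := by
    rw [hm]
    obtain ⟨k1, k2⟩ := mem_R h3 R2_unit R2_cube
    exact h1 _ k1 k2
  have hx' : ∀ i j u, t i j u ∈ H0 ↔ (D e').x i j u ∈ H := fun i j u => hm _
  rcases h4 with h4 | h4
  · have h5 : ∀ i j : Fin 3, i ≠ j → (D e').x i j 1 ∈ H := fun i j hij => h2 (fx_one h4 hij)
    apply gen_pair (D e') h5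
    intro u
    rw [← hx']
    exact field_gen (fun i j hij => (hx' i j 1).2 (h5 i j hij)) hR2 u
  · have h5 : ∀ u, (D e').x 0 2 u ∈ H := fun u => h2 (fx_u h4 u)
    have h6 : ∀ u, (D e').x 2 0 u ∈ H := fun u => h2 (by
      show a ((D e').x 2 0 u) = (D e').x 2 0 u
      rw [h4.x20]; rfl)
    have h7 := graph_gen (H := H0) (fun u => (hx' 0 2 u).2 (h5 u)) (fun u => (hx' 2 0 u).2 (h6 u)) hR2
    apply gen_T (D e') _ (h6 1)
    rintro _ ⟨p, rfl⟩
    rw [(D e').el_eq]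
    exact mul_mem (mul_mem ((hx' 0 1 _).1 (h7 _).1) ((hx' 1 2 _).1 (h7 _).2)) (h5 _)

include hx hb in
theorem gen1 (b : L) (hbb : b * b = 1) (hb1 : b ≠ 1) (hxb : x b = b) (H : Subgroup L)
    (h1 : ∀ y, y ^ 3 = 1 → x y = y → y ∈ H) (h2 : ∀ y, y ^ 3 = 1 → x (b * y * b⁻¹) = y → y ∈ H) : H = ⊤ := by
  obtain ⟨e', h3, rfl⟩ := plx' e hx hb hbb hb1 hxb
  obtain ⟨H0, hH0⟩ : ∃ H0, H0 = H.comap e'.toMonoidHom := ⟨_, rfl⟩
  have hm : ∀ l, l ∈ H0 ↔ e' l ∈ H := fun l => by rw [hH0]; exact Iff.rfl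
  have hx' : ∀ i j u, t i j u ∈ H0 ↔ (D e').x i j u ∈ H := fun i j u => hm _
  obtain ⟨p, hp⟩ : ∃ p, p = (D e').x 0 2 F4.w := ⟨_, rfl⟩
  have hpp : p * p = 1 := by rw [hp]; exact (D e').x_sq 0 2 (by decide) _
  have hxp : x p = (D e').x 0 2 1 * p := by
    rw [hp, h3.x02, (D e').x_add 0 2 (by decide)]
    rfl
  have hbp : (D e').x 0 2 1 * p = p * (D e').x 0 2 1 := by
    rw [hp, (D e').x_add 0 2 (by decide), (D e').x_add 0 2 (by decide), add_comm]
  have hP : ∀ y : L, y ^ 3 = 1 → x y = y → p * y * p ∈ H := by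
    intro y hy hxy
    have hpi : p⁻¹ = p := inv_eq_of_mul_eq_one_left hpp
    apply h2
    · have h5 : p * y * p = p * y * p⁻¹ := by rw [hpi]
      rw [h5, conj_pow, hy]
      group
    · have hbi : ((D e').x 0 2 1)⁻¹ = (D e').x 0 2 1 := inv_eq_of_mul_eq_one_left hbb
      have h6 : (D e').x 0 2 1 * (p * y * p) * ((D e').x 0 2 1)⁻¹ =
          ((D e').x 0 2 1 * p) * y * ((D e').x 0 2 1 * p) := by
        rw [hbi]
        calc (D e').x 0 2 1 * (p * y * p) * (D e').x 0 2 1 = ((D e').x 0 2 1 * p) * y * (p * (D e').x 0 2 1) := by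
              group
          _ = _ := by rw [← hbp]
      rw [h6, map_mul, map_mul, map_mul, hxp, hxy, x02_one _ h3]
      have h7 : (D e').x 0 2 1 * ((D e').x 0 2 1 * p) = p := by rw [← mul_assoc, hbb, one_mul]
      rw [h7]
  obtain ⟨k1, k2⟩ := mem_R h3 R1_unit R1_cube
  obtain ⟨k3, k4⟩ := mem_R h3 R2_unit R2_cube
  have h8 := y_gen (H := H0) ((hm _).2 (h1 _ k1 k2)) ((hm _).2 (h1 _ k3 k4)) (by
    rw [hm, map_mul, map_mul]
    have := hP _ k1 k2
    rw [hp] at this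
    exact this) (by
    rw [hm, map_mul, map_mul]
    have := hP _ k3 k4
    rw [hp] at this
    exact this)
  apply gen_T (D e') _ ((hx' 2 0 1).1 (h8 0).2.2.2)
  rintro _ ⟨q, rfl⟩
  rw [(D e').el_eq]
  exact mul_mem (mul_mem ((hx' 0 1 _).1 (h8 _).1) ((hx' 1 2 _).1 (h8 _).2.1)) ((hx' 0 2 _).1 (h8 _).2.2.1)

include hx hb in
/-- the facts on `L₃(4)` -/
theorem facts3 : Facts3 x where
  toFacts2 := facts2 e hx hb
  core E h1 h2 h3 := KF.core e hx hb E ⟨h1, h2, h3⟩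
  inv := KF.inv e hx hb
  exs := exs e hx hb
  gen1 := gen1 e hx hb
  out := out e
  wcard := wcard e hx hb
  winv := winv e hx hb
  wY := wY e hx hb

end

/-- the facts on `L₃(4)` for an involutory automorphism centralizing a nontrivial odd group normalized by its
centralizer -/
theorem facts3_of {K : Type*} [Group K] (hK : IsL34 K) {x : MulAut K} (hx : x * x = 1)
    {E : Subgroup (MulAut K)} (hE : LTF.Defs.OddC x E) (h1 : E ≠ ⊥) : Facts3 x := by
  obtain ⟨F, _, _, hF, ⟨e⟩⟩ := hK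
  obtain ⟨e'⟩ := nonempty_psl_equiv (n := Fin 3) F hF
  let e0 : PSL3 ≃* K := e'.trans e.symm
  exact facts3 e0 hx (KF.bits_of_oddC e0 hx hE h1)

end Cfsg.Agent.UGT.CE.L34
end

private theorem dce_3e32c5e7ba83 : _root_.True := by
  try have : _root_.True := by simp only [_root_.Cfsg.Agent.UGT.FL34.sl.congr_simp]
  try have : _root_.True := by simp only [_root_.Cfsg.Agent.UGT.CE.L34.JJ.eq_1]
  try have : _root_.True := by simp only [_root_.Cfsg.Agent.UGT.CE.L34.YY.eq_1]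
  exact _root_.True.intro
end

-- part: UGT/N2S/Base_mg
section
set_option linter.all false
open scoped Cfsg.Agent.FastGrp

-- part: UGT/N2S/KF
section
/-!
# K-facts for the supply in the world `L₂(q)`, `Aₙ`, `L₃(4)` (node N2, `m(C_K(x)) ≥ 2`)

* `K34`: a triple of type `L₃(4)`: `x` is a unitary polarity, all facts.
* `K2`: facts on `L₂(q)`, `q ≥ 5` odd.
* `KA`: facts on `Aₙ`, `n ≥ 7` odd.
-/

set_option autoImplicit false

open Cfsg Subgroup
open Cfsg.Agent.UGT.Iface (Bar IsL2 IsL34 IsAltOdd)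
open Cfsg.Agent.UGT.LTF.Defs

namespace Cfsg.Agent.UGT.N2S

universe u

/-- facts on `L₃(4)` -/
def K34 : Prop := ∀ (D : Type u) [Group D], IsL34 D →
  ∀ ξ : MulAut D, ξ * ξ = 1 → ∀ E, OddC ξ E → E ≠ ⊥ → FT ξ ∧ CE.L34.Facts3 ξ

/-- facts on `L₂(q)`, `q ≥ 5` odd -/
structure K2 : Prop where
  cen : ∀ (D : Type u) [Group D], IsL2 D → ∀ z : D, (∀ d, z * d = d * z) → z = 1
  /-- 2-rank 2 -/
  rank : ∀ (D : Type u) [Group D], IsL2 D → ∀ A : Subgroup D, (∀ a ∈ A, a * a = 1) → Nat.card A ≤ 4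
  /-- `Out D` has no elements of order 3 inverted by something -/
  out : ∀ (D : Type u) [Group D], IsL2 D → ∀ α β : MulAut D, β ^ 3 = 1 → α * β * α⁻¹ = β⁻¹ →
    ∃ l, β = MulAut.conj l
  /-- an involution `ω` commuting with `ξ` and with `b ∈ O(C_D(ξ))` of order 3 is `ξ` or of field type -/
  cent : ∀ (D : Type u) [Group D], IsL2 D → ∀ ξ : MulAut D, ξ * ξ = 1 → ∀ E, OddC ξ E →
    ∀ b : D, b ^ 3 = 1 → b ≠ 1 → MulAut.conj b ∈ E →
    ∀ ω : MulAut D, ω * ω = 1 → ω * ξ = ξ * ω → ω b = b → ω = 1 ∨ ω = ξ ∨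
      ∃ M : Subgroup D, (∀ m ∈ M, ω m = m) ∧ (∀ l, ω l = l → ∀ m ∈ M, l * m * l⁻¹ ∈ M) ∧
        IsSimpleGroup M ∧ 2 ∣ Nat.card M ∧ (∃ m ∈ M, ∃ m' ∈ M, m * m' ≠ m' * m) ∧ b ∈ M

/-- facts on `Aₙ`, `n ≥ 7` odd -/
def KA : Prop := ∀ (D : Type u) [Group D], IsAltOdd D →
  ∀ ξ : MulAut D, ξ * ξ = 1 → ∀ E, OddC ξ E → E ≠ ⊥ →
    Nat.card E = 3 ∧ ∀ C : Subgroup D, (∀ c, c ∈ C ↔ ∀ ε ∈ E, ε c = c) → 2 ∣ Nat.card C

/-- `L₃(4)` contains an elementary abelian group of order 8 -/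
def K34E : Prop := ∀ (D : Type u) [Group D], IsL34 D →
  ∃ A : Subgroup D, Nat.card A = 8 ∧ ∀ a ∈ A, a * a = 1

end Cfsg.Agent.UGT.N2S
end

-- part: UGT/N2S/Base
section
/-!
# The world `L₂(q)`, `Aₙ`, `L₃(4)`, `X` core-free: basics

* `World X`: `|G : X| ≤ 2`, `O(C(t)) = 1` for the involutions `t` of `X`, the types, and `one`: at most one `L` of
  type `L₃(4)` for each pair `(x, a)`.
* `TT x a L`: a triple of type `L₃(4)`.
* `honest`: the facts for a triple with `O(L) = 1`.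
* `mem_core`: `O(C_L(x)) ≤ O(C(x))`.
-/

set_option autoImplicit false

open Cfsg Subgroup
open Cfsg.Agent.SignalizersComponents Cfsg.Agent.Lib
open Cfsg.Agent.SignalizersComponents.IntrinsicBasic
open Cfsg.Agent.SignalizersComponents.PLayerAut
open Cfsg.Agent.Intrinsic.Basic Cfsg.Agent.Intrinsic.Cen Cfsg.Agent.Intrinsic.Diag
open Cfsg.Agent.McLLyComp.Act
open Cfsg.Agent.UGT.Triple Cfsg.Agent.UGT.TriBase Cfsg.Agent.UGT.Res.Base
open Cfsg.Agent.UGT.Iface (Bar IsL2 IsL34 IsAltOdd)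
open Cfsg.Agent.UGT.LTF.Defs
open Cfsg.Agent.UGT.LTF.Basics (img mem_img img_ne)
open Cfsg.Agent.UGT.ThE.Base (IsT comm_of_mem L_conj L_conj' K_le_M K_conj)
open Cfsg.Agent.UGT.ThEL34 (Acts exists_acts acts_one_iff acts_one acts_of_mem acts_coe acts_norm)
open scoped commutatorElement

namespace Cfsg.Agent.UGT.N2S

universe u

section iso

theorem isL34_congr {A B : Type*} [Group A] [Group B] (e : A ≃* B) (h : IsL34 A) : IsL34 B := by
  obtain ⟨F, i, j, hF, ⟨f⟩⟩ := h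
  exact ⟨F, i, j, hF, ⟨e.symm.trans f⟩⟩

end iso

variable {G : Type u} [Group G]

/-- The types of the triples. -/
def Typ (G : Type u) [Group G] : Prop := ∀ {x c : G} {J : Subgroup G}, IsTriple x c J →
  IsL2 (Bar J) ∨ IsAltOdd (Bar J) ∨ IsL34 (Bar J)

/-- The world. -/
structure World (X : Subgroup G) : Prop where
  mul : ∀ {g h : G}, g ∉ X → h ∉ X → g * h ∈ X
  cf : ∀ {t : G}, t ∈ X → orderOf t = 2 → core (centralizer ({t} : Set G)) = ⊥
  typ : Typ G
  one : ∀ {x a : G} {L L' : Subgroup G}, IsTriple x a L → IsTriple x a L' → IsL34 (Bar L) →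
    IsL34 (Bar L') → L = L'

/-- The K-facts. -/
structure KFs : Prop where
  k34 : K34.{u}
  k2 : K2.{u}
  kA : KA.{u}
  kE : K34E.{u}
  kC : ∀ (D : Type u) [Group D], IsAltOdd D → ∀ z : D, (∀ d, z * d = d * z) → z = 1

/-- A triple of type `L₃(4)`. -/
structure TT (x a : G) (L : Subgroup G) : Prop extends IsTriple x a L where
  l34 : IsL34 (Bar L)

theorem TT.cj {x a : G} {L : Subgroup G} (T : TT x a L) (g : G) :
    TT (g * x * g⁻¹) (g * a * g⁻¹) (cj g L) :=
  { toIsTriple := T.toIsTriple.cj g, l34 := isL34_congr (cjQuot g L) T.l34 }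

section world

variable {X : Subgroup G} {x a : G} {L : Subgroup G}

theorem World.conj (W : World X) {g b : G} (hb : b ∈ X) : g * b * g⁻¹ ∈ X := by
  by_cases hg : g ∈ X
  · exact mul_mem (mul_mem hg hb) (inv_mem hg)
  · refine W.mul (fun h => hg ?_) (fun h => hg (by simpa using inv_mem h))
    have := mul_mem h (inv_mem hb)
    rwa [mul_inv_cancel_right] at this

/-- `C(x) ∩ C(a)` normalizes `L` -/
theorem World.norm (W : World X) (T : TT x a L) {k : G} (hkx : k * x = x * k) (hka : k * a = a * k) :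
    k ∈ normalizer (L : Set G) := by
  have h1 := T.cj k
  rw [hkx, hka, mul_inv_cancel_right, mul_inv_cancel_right] at h1
  rw [mem_normalizer_iff_cj]
  exact (W.one T.toIsTriple h1.toIsTriple T.l34 h1.l34).symm

variable [Finite G]

omit [Finite G] in
theorem World.not_mem (W : World X) (T : IsTriple x a L) : x ∉ X := by
  intro hx
  obtain ⟨d, hd, -, hf⟩ := T.bad
  rw [W.cf hx T.invx, mem_bot] at hd
  rw [hd] at hf
  exact hf (fixes_one L)

theorem World.core_bot (W : World X) (T : IsTriple x a L) (ha : a ∈ X) : core L = ⊥ := by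
  rw [eq_bot_iff, ← W.cf ha T.inva]
  exact T.comp.core_le_core

theorem oddC' (T : IsTriple x a L) : OddC (act L ⟨x, T.x_mem⟩) (img x a L) := by
  refine ⟨?_, ?_, ?_⟩
  · refine Odd.of_dvd_nat ?_ (card_map_dvd _ _)
    refine Odd.of_dvd_nat (odd_card_core (centralizer ({x} : Set G))) ?_
    have h1 := card_comap_dvd_of_injective
      (core (centralizer ({x} : Set G)) ⊓ centralizer ({a} : Set G))
      (normalizer (L : Set G)).subtype (subtype_injective _)
    exact h1.trans (card_dvd_of_le inf_le_left)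
  · intro e he
    obtain ⟨d, hd, h1, h2, rfl⟩ := mem_img.mp he
    rw [← act_mul, ← act_mul]
    apply act_congr
    exact comm_c (core_le _ h1)
  · intro l hl e he
    obtain ⟨d, hd, h1, h2, rfl⟩ := mem_img.mp he
    obtain ⟨m, hm, hmx, rfl⟩ := Res.KFacts.exists_lift T hl
    have hma : m * a = a * m := comm_c (T.comp.le hm)
    rw [← act_of_mem hm, ← act_mul, ← act_inv, ← act_mul]
    refine mem_img.mpr ⟨m * d * m⁻¹, _, ?_, ?_, rfl⟩
    · exact conj_core (mem_c hmx) h1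
    · have := mul_mem (mul_mem (mem_c hma) (mem_c h2)) (inv_mem (mem_c hma))
      exact comm_c this

theorem KFs.ft (K : KFs.{u}) (T : TT x a L) :
    FT (act L ⟨x, T.x_mem⟩) ∧ CE.L34.Facts3 (act L ⟨x, T.x_mem⟩) :=
  K.k34 _ T.l34 _ (Res.KFacts.act_sq T.toIsTriple) _ (oddC' T.toIsTriple) (img_ne T.toIsTriple)

/-- the centre of `L / O(L)` is trivial for all triples -/
theorem KFs.center (K : KFs.{u}) (W : Typ G) (T : IsTriple x a L) :
    ∀ z : Bar L, (∀ d, z * d = d * z) → z = 1 := by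
  rcases W T with h | h | h
  · exact K.k2.cen _ h
  · exact K.kC _ h
  · exact LTF.Comp.center_of_ft (K.ft ⟨T, h⟩).1

end world

/-! ### honest `L` -/

section honest

variable [Finite G] {X : Subgroup G} {x a : G} {L : Subgroup G}

/-- `L ≅ L / O(L)` -/
noncomputable def barEquiv (hc : core L = ⊥) : ↥L ≃* Bar L :=
  MulEquiv.ofBijective (QuotientGroup.mk' (oddCore ↥L)) ⟨by
    intro y z h
    apply Subtype.ext
    exact LTF.Basics.mk_inj hc y.2 z.2 h, QuotientGroup.mk'_surjective _⟩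

omit [Finite G] in
theorem isL34_self (T : TT x a L) (hc : core L = ⊥) : IsL34 ↥L := isL34_congr (barEquiv hc).symm T.l34

/-- the image of `O(C(x)) ∩ C(a)` in `Aut L` -/
theorem exists_E (T : IsTriple x a L) {ξ : MulAut L} (hξ : Acts L x ξ) : ∃ E : Subgroup (MulAut L),
    OddC ξ E ∧ E ≠ ⊥ ∧ ∀ e, e ∈ E ↔ ∃ d ∈ core (centralizer ({x} : Set G)), d * a = a * d ∧ Acts L d e := by
  obtain ⟨N, hN⟩ : ∃ N, N = core (centralizer ({x} : Set G)) ⊓ centralizer ({a} : Set G) := ⟨_, rfl⟩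
  have hNL : N ≤ normalizer (L : Set G) := by
    rw [hN]
    exact fun d hd => T.mem_normalizer_of_core hd.1 hd.2
  obtain ⟨E, hE⟩ : ∃ E, E = (N.subgroupOf (normalizer (L : Set G))).map L.normalizerMonoidHom := ⟨_, rfl⟩
  have hmem : ∀ e, e ∈ E ↔ ∃ d ∈ N, Acts L d e := by
    intro e
    rw [hE]
    constructor
    · rintro ⟨d, hd, rfl⟩
      exact ⟨d, hd, acts_norm d⟩
    · rintro ⟨d, hd, h⟩
      exact ⟨⟨d, hNL hd⟩, hd, (acts_norm ⟨d, hNL hd⟩).uniq h⟩
  refine ⟨E, ⟨?_, ?_, ?_⟩, ?_, fun e => ?_⟩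
  · rw [hE]
    refine Odd.of_dvd_nat ?_ (card_map_dvd _ _)
    rw [Nat.card_congr (subgroupOfEquivOfLe hNL).toEquiv, hN]
    exact Odd.of_dvd_nat (odd_card_core (centralizer ({x} : Set G))) (card_dvd_of_le inf_le_left)
  · intro e he
    obtain ⟨d, hd, h⟩ := (hmem e).mp he
    rw [hN] at hd
    exact h.comm hξ (comm_c (core_le _ hd.1))
  · intro l hl e he
    obtain ⟨d, hd, h⟩ := (hmem e).mp he
    have hlx : x * (l : G) = l * x := (hξ.fix_iff l).mp hl
    have hla : (l : G) ∈ centralizer ({a} : Set G) := T.comp.le l.2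
    refine (hmem _).mpr ⟨(l : G) * d * (l : G)⁻¹, ?_, ((acts_coe l).mul h).mul (acts_coe l).inv⟩
    rw [hN] at hd ⊢
    exact ⟨conj_core (mem_c hlx.symm) hd.1, (centralizer ({a} : Set G)).mul_mem
      ((centralizer ({a} : Set G)).mul_mem hla hd.2) ((centralizer ({a} : Set G)).inv_mem hla)⟩
  · intro hbot
    obtain ⟨d, hd, hda, hf⟩ := T.bad
    obtain ⟨e, he⟩ := exists_acts (T.mem_normalizer_of_core hd hda)
    have h1 : e ∈ E := (hmem e).mpr ⟨d, by rw [hN]; exact ⟨hd, hda⟩, he⟩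
    rw [hbot, mem_bot] at h1
    rw [h1, acts_one_iff] at he
    exact hf (fixes_self' fun l hl => mem_centralizer_singleton_iff.mpr (comm_of_mem hl he))
  · rw [hmem, hN]
    constructor
    · rintro ⟨d, hd, h⟩
      exact ⟨d, hd.1, comm_c hd.2, h⟩
    · rintro ⟨d, hd, hda, h⟩
      exact ⟨d, ⟨hd, mem_c hda⟩, h⟩

/-- the facts on `x` acting on `L` -/
theorem KFs.honest (K : KFs.{u}) (T : TT x a L) (hc : core L = ⊥) :
    ∃ ξ : MulAut L, Acts L x ξ ∧ FT ξ ∧ CE.L34.Facts3 ξ := by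
  obtain ⟨ξ, hξ⟩ := exists_acts T.x_mem
  obtain ⟨E, hE, hne, -⟩ := exists_E T.toIsTriple hξ
  exact ⟨ξ, hξ, K.k34 _ (isL34_self T hc) ξ (hξ.sq (sq_of_order T.invx)) E hE hne⟩

omit [Finite G] in
theorem comm_of_fixes (h : core L = ⊥) {f : G} (hf : Fixes f L) : f ∈ centralizer (L : Set G) := by
  rw [mem_centralizer_iff]
  intro l hl
  have h1 := hf.2 l hl
  rw [h, mem_bot, commutatorElement_eq_one_iff_mul_comm] at h1
  exact h1.symm

omit [Finite G] in
theorem fixes_of_comm {f : G} (hf : f ∈ centralizer (L : Set G)) : Fixes f L :=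
  fixes_self' fun _ hl => mem_c (mem_centralizer_iff.mp hf _ hl)

omit [Finite G] in
theorem mem_K (T : IsTriple x a L) : a ∈ centralizer (L : Set G) := by
  rw [mem_centralizer_iff]
  intro l hl
  exact comm_c (T.comp.le hl)

theorem cen_eq (T : IsTriple x a L) (h : core L = ⊥) {w : G} (hw : w * w = 1) (hwa : w * a = a * w)
    (hf : w ∈ centralizer (L : Set G)) : cen L w = L := by
  obtain ⟨-, h2⟩ := isComp_cen T.comp (mem_c hwa) hw (fixes_of_comm hf)
  rwa [h, sup_bot_eq] at h2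

/-- an involution of `C_L(x)` -/
theorem KFs.exists_b (K : KFs.{u}) (T : TT x a L) (hc : core L = ⊥) :
    ∃ b ∈ L, orderOf b = 2 ∧ b * x = x * b := by
  obtain ⟨ξ, hξ, F, F3⟩ := K.honest T hc
  obtain ⟨s, hs1, hs2, hs3⟩ := F3.exs
  refine ⟨s, s.2, ?_, ((hξ.fix_iff s).mp hs3).symm⟩
  refine orderOf_eq_prime ?_ (fun h => hs2 (Subtype.ext h))
  rw [pow_two]
  exact congrArg Subtype.val hs1

/-- the involutions of `C_L(x)` invert `O(C_L(x))` -/
theorem KFs.inv (K : KFs.{u}) (T : TT x a L) (hc : core L = ⊥) {b y : G} (hb : b ∈ L)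
    (hbb : b * b = 1) (hb1 : b ≠ 1) (hbx : b * x = x * b) (hy : y ∈ L) (hy3 : y ^ 3 = 1)
    (hyx : y * x = x * y) : b * y * b⁻¹ = y⁻¹ := by
  obtain ⟨ξ, hξ, F, F3⟩ := K.honest T hc
  exact congrArg Subtype.val (F.inv ⟨b, hb⟩ ⟨y, hy⟩ (Subtype.ext hbb) (fun h => hb1 (congrArg Subtype.val h))
    ((hξ.fix_iff _).mpr hbx.symm) (Subtype.ext hy3) ((hξ.fix_iff _).mpr hyx.symm))

/-- `O(C_L(x)) ≤ O(C(x))` -/
theorem KFs.mem_core (K : KFs.{u}) (T : TT x a L) (hc : core L = ⊥) {z : G} (hz : z ∈ L)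
    (hz3 : z ^ 3 = 1) (hzx : z * x = x * z) : z ∈ core (centralizer ({x} : Set G)) := by
  obtain ⟨ξ, hξ, F, F3⟩ := K.honest T hc
  obtain ⟨b, hb, hb2, hbx⟩ := K.exists_b T hc
  obtain ⟨d, hd, hda, hf⟩ := T.bad
  have hdL := T.mem_normalizer_of_core hd hda
  have hbb := sq_of_order hb2
  have hb1 := ne_one_of_order hb2
  have hdx : d * x = x * d := comm_c (core_le _ hd)
  -- `d` acts as `y`
  have hD : ∃ y : L, y ^ 3 = 1 ∧ (y : G) * x = x * y ∧ Acts L d (MulAut.conj y) := by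
    obtain ⟨E, hE, -, hmem⟩ := exists_E T.toIsTriple hξ
    obtain ⟨e, he⟩ := exists_acts hdL
    obtain ⟨y, rfl, hy3, hyx⟩ := F.core E hE e ((hmem e).mpr ⟨d, hd, comm_c hda, he⟩)
    exact ⟨y, hy3, ((hξ.fix_iff y).mp hyx).symm, he⟩
  obtain ⟨y, hy3, hyx, hy⟩ := hD
  have hy3' : (y : G) ^ 3 = 1 := congrArg Subtype.val hy3
  have hy1 : (y : G) ≠ 1 := by
    intro h
    have h1 : y = 1 := Subtype.ext h
    rw [h1, map_one, acts_one_iff] at hy
    exact hf (fixes_of_comm hy)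
  -- `y ∈ O(C(x))`
  have hyc : (y : G) ∈ core (centralizer ({x} : Set G)) := by
    have h4 : d * b * d⁻¹ = y * b * (y : G)⁻¹ := (hy ⟨b, hb⟩).symm
    have h6 : (y : G) * b * (y : G)⁻¹ * b⁻¹ = y * y := by
      have h7 := K.inv T hc hb hbb hb1 hbx y.2 hy3' hyx
      calc (y : G) * b * (y : G)⁻¹ * b⁻¹ = y * (b * y * b⁻¹)⁻¹ := by group
        _ = _ := by rw [h7, inv_inv]
    have h8 : d * (b * d⁻¹ * b⁻¹) ∈ core (centralizer ({x} : Set G)) :=
      mul_mem hd (conj_core (mem_c hbx) (inv_mem hd))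
    have h9 : d * (b * d⁻¹ * b⁻¹) = y * y := by
      calc d * (b * d⁻¹ * b⁻¹) = d * b * d⁻¹ * b⁻¹ := by group
        _ = _ := by rw [h4, h6]
    rw [h9] at h8
    have h10 := mul_mem h8 h8
    have h11 : (y : G) * y * (y * y) = y := by
      calc (y : G) * y * (y * y) = (y : G) ^ 3 * y := by simp only [pow_succ, pow_zero, one_mul, mul_assoc]
        _ = y := by rw [hy3', one_mul]
    rwa [h11] at h10
  have h1 := F.irr y ⟨z, hz⟩ hy3 (fun h => hy1 (congrArg Subtype.val h)) ((hξ.fix_iff y).mpr hyx.symm)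
    (Subtype.ext hz3) ((hξ.fix_iff _).mpr hzx.symm)
  have h2 : closure {w : L | ∃ r, ξ r = r ∧ w = r * y * r⁻¹} ≤
      (core (centralizer ({x} : Set G))).subgroupOf L := by
    rw [closure_le]
    rintro _ ⟨r, hr, rfl⟩
    exact conj_core (mem_c ((hξ.fix_iff r).mp hr).symm) hyc
  exact h2 h1

end honest

end Cfsg.Agent.UGT.N2S
end

-- part: UGT/N2S/KF34
section
/-!
# The K-facts `K34`, `K34E` on `L₃(4)`
-/

set_option autoImplicit false

open Cfsg Subgroup
open Cfsg.Agent.UGT.Iface (IsL34)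
open Cfsg.Agent.UGT.FL34
open Cfsg.Agent.LThreeFour Cfsg.Agent.LThreeFour.Dat
open Cfsg.Agent.ONType.Psl (PSL3)
open Cfsg.Agent.SporadicA.FieldFour

namespace Cfsg.Agent.UGT.N2S

universe u

/-- **`K34`** -/
theorem k34 : K34.{u} := fun D _ hD ξ hξ E hE h1 =>
  ⟨KF.kf34 D hD ξ hξ E hE h1, CE.L34.facts3_of hD hξ hE h1⟩

theorem code_sq : ∀ p : Code, (p.a = 0 ∨ p.a = 1) → p.b = 0 → cmul p p = cone := by decide +kernel

theorem code_mul : ∀ p q : Code, ((p.a = 0 ∨ p.a = 1) ∧ p.b = 0) → ((q.a = 0 ∨ q.a = 1) ∧ q.b = 0) →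
    ((cmul p q).a = 0 ∨ (cmul p q).a = 1) ∧ (cmul p q).b = 0 := by decide +kernel

theorem code_inv : ∀ p : Code, ((p.a = 0 ∨ p.a = 1) ∧ p.b = 0) →
    ((cinv p).a = 0 ∨ (cinv p).a = 1) ∧ (cinv p).b = 0 := by decide +kernel

/-- **`K34E`** -/
theorem k34E : K34E.{u} := by
  rintro D _ ⟨F, _, _, hF, ⟨e1⟩⟩
  obtain ⟨e'⟩ := nonempty_psl_equiv (n := Fin 3) F hF
  obtain ⟨A, -⟩ : ∃ A : Dat D, A = Cfsg.Agent.UGT.FL34.D (e'.trans e1.symm) := ⟨_, rfl⟩
  let E : Subgroup D :=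
    { carrier := {g | ∃ p : Code, ((p.a = 0 ∨ p.a = 1) ∧ p.b = 0) ∧ g = A.el p}
      one_mem' := ⟨cone, by decide, A.el_one.symm⟩
      mul_mem' := by
        rintro _ _ ⟨p, hp, rfl⟩ ⟨q, hq, rfl⟩
        exact ⟨cmul p q, code_mul p q hp hq, A.el_mul p q⟩
      inv_mem' := by
        rintro _ ⟨p, hp, rfl⟩
        exact ⟨cinv p, code_inv p hp, A.el_inv p⟩ }
  refine ⟨E, ?_, ?_⟩
  · have h1 : Nat.card ↥E = Nat.card {p : Code // (p.a = 0 ∨ p.a = 1) ∧ p.b = 0} := by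
      symm
      apply Nat.card_eq_of_bijective (fun p => (⟨A.el p.1, p.1, p.2, rfl⟩ : ↥E))
      constructor
      · intro p q hpq
        exact Subtype.ext (A.inj (congrArg Subtype.val hpq))
      · rintro ⟨_, p, hp, rfl⟩
        exact ⟨⟨p, hp⟩, rfl⟩
    rw [h1, Nat.card_eq_fintype_card]
    decide +kernel
  · rintro _ ⟨p, hp, rfl⟩
    rw [A.el_mul, code_sq p hp.1 hp.2, A.el_one]

end Cfsg.Agent.UGT.N2S
end
end

-- part: UGT/CE/FactsAut_mg
section
prune_inst 0x802000000022000000180002000020441000000000030001c94104000000032129002701302012014100aa602008004001000050020000000000000040000000800252049348a104070087809000000000000000000000000000000000000000000000000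
set_option linter.all false
open scoped Cfsg.Agent.FastGrp

-- part: UGT/CE/FactsY
section
/-!
# `C_L(Y) = Y` for `Y = O(C_L(x))`, `L = L₃(4)`, `x` the unitary polarity
-/

set_option autoImplicit false
set_option linter.constructorNameAsVariable false
set_option linter.unusedVariables false

namespace Cfsg.Agent.UGT.CE.L34

open Matrix
open Cfsg.Agent.SporadicA.FieldFour
open Cfsg.Agent.SporadicA.FieldFour.F4
open Cfsg.Agent.LThreeFour Cfsg.Agent.LThreeFour.Dat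
open Cfsg.Agent.ONType.Psl (PSL3 SL3 T t tm)
open Cfsg.Agent.ClassicalGeometry.AutPSL.Root
open Cfsg.Agent.ClassicalGeometry.AutPSL.Auto
open Cfsg.Agent.UGT.ThEL34 (fx mem_fx)
open Cfsg.Agent.UGT.FL34
open Cfsg.Agent.UGT.Iface (IsL34)

/-- the matrix with rows `(a b e)`, `(d f g)` and last row determined by the first one -/
def my (c a b e d f g : F4) : M3 :=
  ⟨a, b, e, d, f, g, F4.mul (F4.mul c c) e, F4.mul (F4.mul c c) b, F4.mul (F4.mul c c) (F4.add a e)⟩

def chy (m : M3) : Bool := !(sim (M3.mul m R1) (M3.mul R1 m)) || (!(sim (M3.mul m R2) (M3.mul R2 m)) ||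
  (!(eqb m.det .o) || memb m Y27))

/-- the conditions on the second row -/
private def row2 (c d f g : F4) : Bool :=
  eqb (dot3 d f g .z .z .o) (F4.mul c (dot3 .z .o .z .z d .z)) && (eqb (dot3 d f g .z .o .z) (F4.mul c (dot3 .z .o .z .z f .z)) &&
    eqb (dot3 d f g .o .z .o) (F4.mul c (dot3 .z .o .z .z g .z)))

private def chY2 (c : F4) : Bool := eqb c .z || allF fun d => allF fun f => allF fun g => !(row2 c d f g) ||
  allF fun a => allF fun b => allF fun e => chy (my c a b e d f g)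

set_option maxRecDepth 100000 in
private theorem chY2_eq : allF chY2 = true := by decide +kernel

private theorem row2_of {m : M3} {c : F4} (h : M3.mul m R1 = M3.smul c (M3.mul R1 m)) : row2 c m.d m.e m.f = true := by
  have k : ∀ x y z : F4, dot3 .z .o .z x y z = dot3 .z .o .z .z y .z := by decide
  have h1 : dot3 m.d m.e m.f .z .z .o = F4.mul c (dot3 .z .o .z m.a m.d m.g) := congrArg M3.d h
  have h2 : dot3 m.d m.e m.f .z .o .z = F4.mul c (dot3 .z .o .z m.b m.e m.h) := congrArg M3.e h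
  have h3 : dot3 m.d m.e m.f .o .z .o = F4.mul c (dot3 .z .o .z m.c m.f m.i) := congrArg M3.f h
  rw [k] at h1 h2 h3
  unfold row2
  rw [(eqb_iff _ _).2 h1, (eqb_iff _ _).2 h2, (eqb_iff _ _).2 h3]
  rfl

def Y27_chk : Bool := allL (fun m => m.unit && (M3.cube m).isSc) Y27

set_option maxRecDepth 100000 in
theorem Y27_chk_eq : Y27_chk = true := by decide +kernel

theorem comm_code {m R : M3} (hm : m.det = 1) (hR : R.det = 1)
    (h : pr (sl m hm) * pr (sl R hR) = pr (sl R hR) * pr (sl m hm)) :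
    ∃ c : F4, c ≠ 0 ∧ M3.mul m R = M3.smul c (M3.mul R m) := by
  have h1 : pr (sl R hR * sl m hm) = pr (sl m hm * sl R hR) := by rw [map_mul, map_mul, h]
  obtain ⟨c, hc⟩ := exists_smul_of_pr_eq h1
  refine ⟨c, ?_, ?_⟩
  · rintro rfl
    have h5 : (sl m hm * sl R hR).1.det = 1 := (sl m hm * sl R hR).2
    rw [hc, zero_smul, Matrix.det_zero] at h5
    exact zero_ne_one h5
  · apply toM_inj
    rw [M3.toM_smul, M3.toM_mul, M3.toM_mul]
    exact hc

theorem my_eq {m : M3} {c : F4} (hc : c ≠ 0) (h : M3.mul m R1 = M3.smul c (M3.mul R1 m)) :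
    m = my c m.a m.b m.c m.d m.e m.f := by
  have k0 : ∀ x y z : F4, F4.add (F4.add (F4.mul x .z) (F4.mul y .z)) (F4.mul z .o) = z := by decide
  have k1 : ∀ x y z : F4, F4.add (F4.add (F4.mul x .z) (F4.mul y .o)) (F4.mul z .z) = y := by decide
  have k2 : ∀ x y z : F4, F4.add (F4.add (F4.mul x .o) (F4.mul y .z)) (F4.mul z .o) = F4.add x z := by decide
  have k3 : ∀ x y z : F4, F4.add (F4.add (F4.mul .z x) (F4.mul .z y)) (F4.mul .o z) = z := by decide
  have k4 : ∀ c x y : F4, c ≠ 0 → x = F4.mul c y → y = F4.mul (F4.mul c c) x := by decide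
  have ha : F4.add (F4.add (F4.mul m.a .z) (F4.mul m.b .z)) (F4.mul m.c .o) =
      F4.mul c (F4.add (F4.add (F4.mul .z m.a) (F4.mul .z m.d)) (F4.mul .o m.g)) := congrArg M3.a h
  have hb : F4.add (F4.add (F4.mul m.a .z) (F4.mul m.b .o)) (F4.mul m.c .z) =
      F4.mul c (F4.add (F4.add (F4.mul .z m.b) (F4.mul .z m.e)) (F4.mul .o m.h)) := congrArg M3.b h
  have hc' : F4.add (F4.add (F4.mul m.a .o) (F4.mul m.b .z)) (F4.mul m.c .o) =
      F4.mul c (F4.add (F4.add (F4.mul .z m.c) (F4.mul .z m.f)) (F4.mul .o m.i)) := congrArg M3.c h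
  rw [k0, k3] at ha
  rw [k1, k3] at hb
  rw [k2, k3] at hc'
  have e1 := k4 _ _ _ hc ha
  have e2 := k4 _ _ _ hc hb
  have e3 := k4 _ _ _ hc hc'
  obtain ⟨a, b, c', d, e, f, g, h', i⟩ := m
  simp only at e1 e2 e3
  unfold my
  rw [e1, e2, e3]

/-- `C(Y) = Y` in `PSL(3,4)` -/
theorem cY0 {l : PSL3} (h1 : l * pr (sl R1 det_R1) = pr (sl R1 det_R1) * l)
    (h2 : l * pr (sl R2 det_R2) = pr (sl R2 det_R2) * l) : l ^ 3 = 1 ∧ x0 l = l := by
  obtain ⟨M, rfl⟩ := pr_surjective l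
  obtain ⟨m, hm⟩ : ∃ m, m = M3.ofM M.1 := ⟨_, rfl⟩
  have hd : m.det = 1 := by
    rw [← M3.det_toM, hm, M3.toM_ofM]
    exact M.2
  have hM : M = sl m hd := by
    apply Subtype.ext
    show M.1 = m.toM
    rw [hm, M3.toM_ofM]
  rw [hM] at h1 h2 ⊢
  obtain ⟨c, hc, hmc⟩ := comm_code hd det_R1 h1
  obtain ⟨d, hd', hmd⟩ := comm_code hd det_R2 h2
  have h3 := allF_iff chY2_eq c
  unfold chY2 at h3
  rw [Bool.eq_false_iff.2 fun h => hc ((eqb_iff c .z).1 h), Bool.false_or] at h3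
  have h3' := allF_iff (allF_iff (allF_iff h3 m.d) m.e) m.f
  rw [row2_of hmc, Bool.not_true, Bool.false_or] at h3'
  have h4 := allF_iff (allF_iff (allF_iff h3' m.a) m.b) m.c
  rw [← my_eq hc hmc] at h4
  unfold chy at h4
  have h7 : eqb m.det .o = true := (eqb_iff _ _).2 hd
  rw [sim_of_smul hc hmc, sim_of_smul hd' hmd, h7, Bool.not_true, Bool.false_or,
    Bool.false_or, Bool.false_or] at h4
  have h5 := Y27_chk_eq
  unfold Y27_chk at h5
  have h6 := allL_iff h5 m (mem_of_memb h4)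
  rw [Bool.and_eq_true] at h6
  refine ⟨(pow_three_iff (M := sl m hd) rfl).2 h6.2, ?_⟩
  exact fix_x0_mem h6.1

section

variable {L : Type*} [Group L] (e : PSL3 ≃* L) {x : MulAut L} (hx : x * x = 1)
  (hb : bits ((D e).tyHom x) = (true, true))

include hx hb in
theorem cY (l : L) (h : ∀ y, y ^ 3 = 1 → x y = y → l * y = y * l) : l ^ 3 = 1 ∧ x l = l := by
  obtain ⟨e', he⟩ := pure1 e hx hb (by decide)
  have key : ∀ {R : M3} (hR : R.unit = true) (h3 : (M3.cube R).isSc = true),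
      e'.symm l * pr (sl R (unit_det hR)) = pr (sl R (unit_det hR)) * e'.symm l := by
    intro R hR h3
    obtain ⟨k1, k2⟩ := mem_R he hR h3
    have h4 := h _ k1 k2
    apply e'.injective
    rw [map_mul, map_mul, e'.apply_symm_apply]
    exact h4
  obtain ⟨h1, h2⟩ := cY0 (key R1_unit R1_cube) (key R2_unit R2_cube)
  constructor
  · apply e'.symm.injective
    rw [map_pow, h1, map_one]
  · rw [eq_tr e' isTau_x0 he, fix_symm]
    exact h2

end

theorem facts4_of {K : Type*} [Group K] (hK : IsL34 K) {x : MulAut K} (hx : x * x = 1)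
    {E : Subgroup (MulAut K)} (hE : LTF.Defs.OddC x E) (h1 : E ≠ ⊥) : Facts4 x := by
  have h2 := facts3_of hK hx hE h1
  obtain ⟨F, _, _, hF, ⟨e⟩⟩ := hK
  obtain ⟨e'⟩ := nonempty_psl_equiv (n := Fin 3) F hF
  let e0 : PSL3 ≃* K := e'.trans e.symm
  exact { toFacts3 := h2, cY := cY e0 hx (KF.bits_of_oddC e0 hx hE h1) }

end Cfsg.Agent.UGT.CE.L34
end

-- part: UGT/CE/FactsAut
section
/-!
# `C_{Aut L}(Y) = Y ⟨x⟩` for `Y = O(C_L(x))`, `L = L₃(4)`, `x` the unitary polarity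
-/

set_option autoImplicit false
set_option linter.constructorNameAsVariable false
set_option linter.unusedVariables false

namespace Cfsg.Agent.UGT.CE.L34

open Subgroup
open Cfsg.Agent.SporadicA.FieldFour
open Cfsg.Agent.LThreeFour Cfsg.Agent.LThreeFour.Dat
open Cfsg.Agent.ONType.Psl (PSL3)
open Cfsg.Agent.ClassicalGeometry.AutPSL.Root
open Cfsg.Agent.ClassicalGeometry.AutPSL.Auto
open Cfsg.Agent.UGT.ThEL34 (fx mem_fx Facts Facts2)
open Cfsg.Agent.UGT.FL34
open Cfsg.Agent.UGT.Iface (IsL34)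

/-- The facts on `L₃(4)` used in Theorem H. -/
structure Facts5 {D : Type*} [Group D] (x : MulAut D) : Prop extends Facts4 x where
  /-- `C_{Aut D}(Y) = Y ⟨x⟩` for `Y = O(C_D(x))` -/
  aut : ∀ α : MulAut D, (∀ y, y ^ 3 = 1 → x y = y → α y = y) →
    ∃ y, y ^ 3 = 1 ∧ x y = y ∧ (α = MulAut.conj y ∨ α = MulAut.conj y * x)

theorem ty_cen : ∀ g h : TyG, g.ty.1 = true → g.ty.2.1 = true → g * g = 1 → g * h = h * g := by
  decide +kernel

theorem bitsHom_cases : ∀ g h : TyG, h.ty.1 = true → h.ty.2.1 = true →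
    bitsHom g = 1 ∨ bitsHom (g * h) = 1 ∨ (g ≠ 1 ∧ g ≠ h) := by
  decide +kernel

theorem bitsHom_sq : ∀ g : TyG, bitsHom (g * g) = 1 := by decide +kernel

theorem bits_of : ∀ g : TyG, bits g = (true, true) → g.ty.1 = true ∧ g.ty.2.1 = true := by decide +kernel

theorem y_comm {D : Type*} [Group D] {x : MulAut D} (F : Facts3 x) {y z : D} (h1 : y ^ 3 = 1) (h2 : x y = y)
    (h3 : z ^ 3 = 1) (h4 : x z = z) : y * z = z * y := by
  obtain ⟨b, hb, hb1, hxb⟩ := F.exs
  have e1 := F.inv b (y * z) hb hb1 hxb (F.three y z h1 h2 h3 h4) (by rw [map_mul, h2, h4])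
  have e2 : b * (y * z) * b⁻¹ = (b * y * b⁻¹) * (b * z * b⁻¹) := by group
  rw [e2, F.inv b y hb hb1 hxb h1 h2, F.inv b z hb hb1 hxb h3 h4, mul_inv_rev] at e1
  have e3 := congrArg (fun w => w⁻¹) e1
  simp only [mul_inv_rev, inv_inv] at e3
  exact e3.symm

theorem aut {D : Type*} [Group D] (e : PSL3 ≃* D) {x : MulAut D}
    (hb : bits ((Cfsg.Agent.UGT.FL34.D e).tyHom x) = (true, true)) (F : Facts4 x) (α : MulAut D)
    (hα : ∀ y, y ^ 3 = 1 → x y = y → α y = y) :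
    ∃ y, y ^ 3 = 1 ∧ x y = y ∧ (α = MulAut.conj y ∨ α = MulAut.conj y * x) := by
  have hx := F.xx
  have hxi : x⁻¹ = x := inv_eq_of_mul_eq_one_left hx
  obtain ⟨hb1, hb2⟩ := bits_of _ hb
  have hx1 : (Cfsg.Agent.UGT.FL34.D e).tyHom x * (Cfsg.Agent.UGT.FL34.D e).tyHom x = 1 := by
    rw [← map_mul, hx, map_one]
  -- inner automorphisms centralizing `Y`
  have inn : ∀ l : D, (∀ y, y ^ 3 = 1 → x y = y → MulAut.conj l y = y) → l ^ 3 = 1 ∧ x l = l := by
    intro l hl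
    apply F.cY
    intro y h1 h2
    have h3 := hl y h1 h2
    rw [MulAut.conj_apply] at h3
    exact mul_inv_eq_iff_eq_mul.mp h3
  have hinv : ∀ β : MulAut D, (∀ y, y ^ 3 = 1 → x y = y → β y = y) → ∀ y, y ^ 3 = 1 → x y = y → β⁻¹ y = y := by
    intro β hβ y h1 h2
    nth_rewrite 1 [← hβ y h1 h2]
    exact MulAut.inv_apply_self D β y
  -- `α x = x α`
  have hcom : ∀ β : MulAut D, (∀ y, y ^ 3 = 1 → x y = y → β y = y) → β * x = x * β := by
    intro β hβ
    have h1 : (Cfsg.Agent.UGT.FL34.D e).tyHom (β * x * β⁻¹ * x⁻¹) = 1 := by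
      have := ty_cen _ ((Cfsg.Agent.UGT.FL34.D e).tyHom β) hb1 hb2 hx1
      rw [map_mul, map_mul, map_mul, map_inv, map_inv, ← this]
      group
    obtain ⟨l, hl⟩ := (Cfsg.Agent.UGT.FL34.D e).inner_iff.mp h1
    obtain ⟨hl3, hlx⟩ := inn l (by
      intro y h2 h3
      rw [← hl, MulAut.mul_apply, MulAut.mul_apply, MulAut.mul_apply, hxi, h3, hinv β hβ y h2 h3, h3, hβ y h2 h3])
    have h2 : β * x * β⁻¹ = MulAut.conj l * x := by
      rw [← hl]; group
    have h3 : MulAut.conj (l * l) = 1 := by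
      have h4 : (β * x * β⁻¹) * (β * x * β⁻¹) = 1 := by
        calc (β * x * β⁻¹) * (β * x * β⁻¹) = β * (x * x) * β⁻¹ := by group
          _ = 1 := by rw [hx]; group
      rw [h2] at h4
      have h5 : MulAut.conj l * x * (MulAut.conj l * x) = MulAut.conj l * (x * MulAut.conj l * x⁻¹) * (x * x) := by
        group
      have h6 : x * MulAut.conj l * x⁻¹ = MulAut.conj l := by
        ext m
        rw [MulAut.mul_apply, MulAut.mul_apply, MulAut.conj_apply, MulAut.conj_apply, map_mul, map_mul, map_inv, hlx,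
          MulAut.apply_inv_self]
      rw [h5, h6, hx, mul_one, ← map_mul] at h4
      exact h4
    have h4 := F.cl _ h3
    have h5 : l = 1 := by
      have : l ^ 3 = l * (l * l) := pow_three l
      rw [hl3, h4, mul_one] at this
      exact this.symm
    rw [h5, map_one, one_mul] at h2
    exact mul_inv_eq_iff_eq_mul.mp h2
  -- the group `E`
  obtain ⟨E, hE⟩ : ∃ E : Subgroup (MulAut D), ∀ β, β ∈ E ↔ (∀ y, y ^ 3 = 1 → x y = y → β y = y) ∧
      bitsHom ((Cfsg.Agent.UGT.FL34.D e).tyHom β) = 1 := by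
    refine ⟨{ carrier := {β | (∀ y, y ^ 3 = 1 → x y = y → β y = y) ∧
                bitsHom ((Cfsg.Agent.UGT.FL34.D e).tyHom β) = 1}
              one_mem' := ⟨fun y _ _ => rfl, by rw [map_one, map_one]⟩
              mul_mem' := ?_
              inv_mem' := ?_ }, fun β => Iff.rfl⟩
    · rintro β γ ⟨h1, h2⟩ ⟨h3, h4⟩
      refine ⟨fun y h5 h6 => ?_, by rw [map_mul, map_mul, h2, h4, mul_one]⟩
      rw [MulAut.mul_apply, h3 y h5 h6, h1 y h5 h6]
    · rintro β ⟨h1, h2⟩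
      exact ⟨hinv β h1, by rw [map_inv, map_inv, h2, inv_one]⟩
  have hfin : Finite (MulAut D) := (Cfsg.Agent.UGT.FL34.D e).finite_aut
  have hodd : Odd (Nat.card E) := by
    have hp : IsPGroup 3 E := by
      rintro ⟨β, hβ⟩
      refine ⟨2, ?_⟩
      obtain ⟨h1, h2⟩ := (hE β).mp hβ
      have h3 := TyG.cube _ h2
      rw [← map_mul, ← map_mul] at h3
      obtain ⟨l, hl⟩ := (Cfsg.Agent.UGT.FL34.D e).inner_iff.mp h3
      obtain ⟨hl3, -⟩ := inn l (by
        intro y h4 h5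
        rw [← hl, MulAut.mul_apply, MulAut.mul_apply, h1 y h4 h5, h1 y h4 h5, h1 y h4 h5])
      apply Subtype.ext
      show β ^ 3 ^ 2 = 1
      have : β ^ 3 ^ 2 = (β * β * β) ^ 3 := by
        rw [← pow_three', ← pow_mul]
        norm_num
      rw [this, hl, ← map_pow, hl3, map_one]
    have : Fact (Nat.Prime 3) := ⟨Nat.prime_three⟩
    obtain ⟨n, hn⟩ := IsPGroup.iff_card.mp hp
    rw [hn]
    exact Odd.pow (by decide)
  have hEY : ∀ β ∈ E, ∃ y, β = MulAut.conj y ∧ y ^ 3 = 1 ∧ x y = y := by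
    apply F.core E hodd
    · intro β hβ
      exact hcom β ((hE β).mp hβ).1
    · intro l hl β hβ
      obtain ⟨h1, h2⟩ := (hE β).mp hβ
      refine (hE _).mpr ⟨fun y h3 h4 => ?_, ?_⟩
      · have h5 : β (l⁻¹ * y * l) = l⁻¹ * y * l := by
          apply h1
          · have : l⁻¹ * y * l = l⁻¹ * y * l⁻¹⁻¹ := by group
            rw [this, conj_pow, h3]
            group
          · rw [map_mul, map_mul, map_inv, hl, h4]
        rw [MulAut.mul_apply, MulAut.mul_apply, ← map_inv, MulAut.conj_apply, MulAut.conj_apply, inv_inv, h5]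
        group
      · have h3 : (Cfsg.Agent.UGT.FL34.D e).tyHom (MulAut.conj l * β * (MulAut.conj l)⁻¹) =
            (Cfsg.Agent.UGT.FL34.D e).tyHom β := by
          rw [map_mul, map_mul, map_inv, (Cfsg.Agent.UGT.FL34.D e).tyHom_conj, one_mul, inv_one, mul_one]
        rw [h3]
        exact h2
  rcases bitsHom_cases ((Cfsg.Agent.UGT.FL34.D e).tyHom α) _ hb1 hb2 with h | h | ⟨h1, h2⟩
  · obtain ⟨y, h1, h2, h3⟩ := hEY α ((hE α).mpr ⟨hα, h⟩)
    exact ⟨y, h2, h3, Or.inl h1⟩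
  · rw [← map_mul] at h
    obtain ⟨y, h1, h2, h3⟩ := hEY (α * x) ((hE _).mpr ⟨fun y h1 h2 => by
      rw [MulAut.mul_apply, h2, hα y h1 h2], h⟩)
    refine ⟨y, h2, h3, Or.inr ?_⟩
    rw [← h1, mul_assoc, hx, mul_one]
  · exfalso
    obtain ⟨y, hy1, hy3, hyx⟩ := hEY (α * α) ((hE _).mpr ⟨fun y h1 h2 => by
      rw [MulAut.mul_apply, hα y h1 h2, hα y h1 h2], by rw [map_mul]; exact bitsHom_sq _⟩)
    have hαy : α * MulAut.conj y = MulAut.conj y * α := by
      ext m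
      rw [MulAut.mul_apply, MulAut.mul_apply, MulAut.conj_apply, MulAut.conj_apply, map_mul, map_mul, map_inv,
        hα y hy3 hyx]
    have hxy : x * MulAut.conj y = MulAut.conj y * x := by
      ext m
      rw [MulAut.mul_apply, MulAut.mul_apply, MulAut.conj_apply, MulAut.conj_apply, map_mul, map_mul, map_inv, hyx]
    have hty : (Cfsg.Agent.UGT.FL34.D e).tyHom (MulAut.conj y * α) = (Cfsg.Agent.UGT.FL34.D e).tyHom α := by
      rw [map_mul, (Cfsg.Agent.UGT.FL34.D e).tyHom_conj, one_mul]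
    have hW : ThEL34.Wild x (MulAut.conj y * α) := by
      refine ⟨?_, ?_, ?_⟩
      · calc MulAut.conj y * α * (MulAut.conj y * α) = MulAut.conj y * (α * MulAut.conj y) * α := by group
          _ = MulAut.conj y * MulAut.conj y * (α * α) := by rw [hαy]; group
          _ = MulAut.conj (y ^ 3) := by rw [hy1, ← map_mul, ← map_mul, pow_three']
          _ = 1 := by rw [hy3, map_one]
      · intro l hl
        apply h1
        rw [← hty, hl, (Cfsg.Agent.UGT.FL34.D e).tyHom_conj]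
      · intro l hl
        apply h2
        rw [← hty, hl, map_mul, (Cfsg.Agent.UGT.FL34.D e).tyHom_conj, mul_one]
    have hWx : MulAut.conj y * α * x = x * (MulAut.conj y * α) := by
      rw [mul_assoc, hcom α hα, ← mul_assoc, ← hxy, mul_assoc]
    have hfix : ∀ z, z ^ 3 = 1 → x z = z → (MulAut.conj y * α) z = z := by
      intro z h3 h4
      rw [MulAut.mul_apply, hα z h3 h4, MulAut.conj_apply, y_comm F.toFacts3 hy3 hyx h3 h4, mul_inv_cancel_right]
    obtain ⟨a, b, ha3, hxa, hb3, hxb, ha1, hb1', hab, hab'⟩ := F.indep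
    rcases F.wone _ hW hWx a b ha3 hxa (hfix a ha3 hxa) hb3 hxb (hfix b hb3 hxb) with h | h | h | h
    · exact ha1 h
    · exact hb1' h
    · exact hab h
    · exact hab' h

theorem facts5_of {K : Type*} [Group K] (hK : IsL34 K) {x : MulAut K} (hx : x * x = 1)
    {E : Subgroup (MulAut K)} (hE : LTF.Defs.OddC x E) (h1 : E ≠ ⊥) : Facts5 x := by
  have h2 := facts4_of hK hx hE h1
  obtain ⟨F, _, _, hF, ⟨e⟩⟩ := hK
  obtain ⟨e'⟩ := nonempty_psl_equiv (n := Fin 3) F hF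
  let e0 : PSL3 ≃* K := e'.trans e.symm
  exact { toFacts4 := h2, aut := aut e0 (KF.bits_of_oddC e0 hx hE h1) h2 }

end Cfsg.Agent.UGT.CE.L34
end

-- part: UGT/ThEL34/FixA
section
/-!
# Theorem E for `L₃(4)`, III: `x ^ g ∈ M → g ∈ M`
-/

set_option autoImplicit false

open Subgroup

namespace Cfsg.Agent.UGT.ThEL34

open Cfsg.Agent.UGT.ThE.Base (comm_of_mem L_conj L_conj' K_le_M L_le_M K_conj K_conj' IsT IsS IsT1 exists_central
  exists_sqrt)


theorem card_mod_two {α : Type*} [Finite α] (f : α → α) (hf : ∀ a, f (f a) = a) :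
    Nat.card α % 2 = Nat.card (Function.fixedPoints f) % 2 := by
  classical
  cases nonempty_fintype α
  have hp : Fact (Nat.Prime 2) := ⟨Nat.prime_two⟩
  have h0 : ∀ g : Function.End α, (∀ a, g (g a) = a) → g ^ 2 ^ 1 = 1 := by
    intro g hg
    rw [pow_one, sq]
    funext a
    exact hg a
  have h1 := Equiv.Perm.card_fixedPoints_modEq (α := α) (f := (f : Function.End α)) (p := 2) (n := 1) (h0 f hf)
  rw [Nat.card_eq_fintype_card, Nat.card_eq_fintype_card]
  exact h1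

/-- an involutory permutation of a finite type of even cardinality fixing a point fixes another point -/
theorem exists_fixed_ne {α : Type*} [Finite α] (f : Equiv.Perm α) (hf : ∀ a, f (f a) = a) (h : 2 ∣ Nat.card α)
    {a : α} (ha : f a = a) : ∃ b, b ≠ a ∧ f b = b := by
  classical
  by_contra hno
  push Not at hno
  have h1 := card_mod_two f hf
  have h2 : Nat.card (Function.fixedPoints f) = 1 := by
    rw [Nat.card_eq_one_iff_unique]
    have key : ∀ b : Function.fixedPoints f, b.1 = a := by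
      intro b
      by_contra hb
      exact hno b hb b.2
    exact ⟨⟨fun b c => Subtype.ext ((key b).trans (key c).symm)⟩, ⟨⟨a, ha⟩⟩⟩
  rw [h2] at h1
  omega

/-- an involutory automorphism fixes an involution of every invariant subgroup of even order -/
theorem exists_fixed_inv {Γ : Type*} [Group Γ] (σ : MulAut Γ) (hσ : σ * σ = 1) (D : Subgroup Γ) [Finite D]
    (hD : ∀ d ∈ D, σ d ∈ D) (h : 2 ∣ Nat.card D) : ∃ d ∈ D, d * d = 1 ∧ d ≠ 1 ∧ σ d = d := by
  classical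
  have hσσ : ∀ d, σ (σ d) = d := fun d => by
    rw [← MulAut.mul_apply, hσ, MulAut.one_apply]
  -- the elements with `d² = 1`
  let T := {d : D // d * d = 1}
  have hT : 2 ∣ Nat.card T := by
    have h1 := card_mod_two (fun d : D => d⁻¹) (fun d => inv_inv d)
    have e : Function.fixedPoints (fun d : D => d⁻¹) ≃ T :=
      Equiv.subtypeEquivRight (fun d => by
        change d⁻¹ = d ↔ d * d = 1
        constructor
        · intro h
          nth_rw 1 [← h]
          exact inv_mul_cancel d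
        · intro h
          exact inv_eq_of_mul_eq_one_left h)
    rw [← Nat.card_congr e]
    omega
  have hmap : ∀ t : T, (⟨σ t.1, hD _ t.1.2⟩ : D) * ⟨σ t.1, hD _ t.1.2⟩ = 1 := by
    rintro ⟨⟨d, hd⟩, hdd⟩
    apply Subtype.ext
    change σ d * σ d = 1
    rw [← map_mul, show d * d = 1 from congrArg Subtype.val hdd, map_one]
  let f : Equiv.Perm T :=
    { toFun := fun t => ⟨⟨σ t.1, hD _ t.1.2⟩, hmap t⟩
      invFun := fun t => ⟨⟨σ t.1, hD _ t.1.2⟩, hmap t⟩
      left_inv := fun t => Subtype.ext (Subtype.ext (hσσ _))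
      right_inv := fun t => Subtype.ext (Subtype.ext (hσσ _)) }
  obtain ⟨⟨⟨d, hd⟩, hdd⟩, hne, hfix⟩ := exists_fixed_ne f (fun t => Subtype.ext (Subtype.ext (hσσ _))) hT
    (a := ⟨1, one_mul 1⟩) (Subtype.ext (Subtype.ext (map_one σ)))
  refine ⟨d, hd, congrArg Subtype.val hdd, ?_, congrArg (fun t : T => ((t.1 : D) : Γ)) hfix⟩
  rintro rfl
  exact hne rfl


variable {G : Type*} [Group G]

/-- The hypotheses of Theorem E, `L = L₃(4)`. -/
structure Hyp (L : Subgroup G) (x : G) : Prop where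
  xx : x * x = 1
  facts2 : ∃ X : MulAut L, Acts L x X ∧ Facts2 X
  nc : ∀ g : G, ¬ ∀ l ∈ L, g * l * g⁻¹ ∈ centralizer (L : Set G)
  Cx : ∀ c, c * x = x * c → c ∈ normalizer (L : Set G)
  Ct : ∀ t, IsT L x t → ∀ c, c * t = t * c → c ∈ normalizer (L : Set G)
  Cxt : ∀ t, IsT L x t → ∀ c, c * (x * t) = (x * t) * c → c ∈ normalizer (L : Set G)
  four : ∃ t, IsT L x t
  rk : ∀ t, IsT L x t → ∃ u, IsT L x u ∧ u ≠ t ∧ u * t = t * u

namespace Hyp

variable {L : Subgroup G} {x : G} (H : Hyp L x)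
include H

theorem facts : ∃ X : MulAut L, Acts L x X ∧ Facts X := by
  obtain ⟨X, hX, F⟩ := H.facts2
  exact ⟨X, hX, F.toFacts⟩

theorem hyp0 : Hyp0 L x := by
  obtain ⟨X, hX, F⟩ := H.facts
  refine ⟨H.xx, hX.mem, ?_, ?_, H.nc, H.Cx, H.Ct, H.Cxt, H.four, H.rk, ?_⟩
  · intro l hl h
    have h1 := hX.mul (acts_of_mem hl)
    have h2 := (Acts.eq_one_iff h1).mpr h
    apply F.xne (⟨l, hl⟩⁻¹ : L)
    rw [map_inv]
    exact eq_inv_of_mul_eq_one_left h2
  · intro N hN hNn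
    have hn : (N.subgroupOf L).Normal := ⟨fun n hn l => by
      rw [mem_subgroupOf] at hn ⊢
      exact hNn l l.2 n hn⟩
    have := F.simp
    rcases F.simp.eq_bot_or_eq_top_of_normal _ hn with h | h
    · left
      rw [eq_bot_iff]
      intro n hn
      have h1 : (⟨n, hN hn⟩ : L) ∈ N.subgroupOf L := mem_subgroupOf.mpr hn
      rw [h, mem_bot] at h1
      exact mem_bot.mpr (congrArg Subtype.val h1)
    · right
      apply le_antisymm hN
      exact subgroupOf_eq_top.mp h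
  · intro g hg l hl
    obtain ⟨ψ, hψ⟩ := exists_hom (L := L) (J := ⊤) (g := g) (fun j _ => hg j j.2)
    obtain ⟨l', hl'⟩ := F.inn (ψ.comp (topEquiv (G := L)).symm.toMonoidHom) ⟨l, hl⟩
    have h1 := hψ ((topEquiv (G := L)).symm ⟨l, hl⟩)
    have h2 : ψ ((topEquiv (G := L)).symm ⟨l, hl⟩) = MulAut.conj l' := hl'
    rw [h2] at h1
    refine ⟨(l'⁻¹ : L), (l'⁻¹ : L).2, ?_⟩
    have h3 := h1.mul (acts_coe (l'⁻¹ : L))
    rw [← map_mul, mul_inv_cancel, map_one] at h3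
    exact acts_one_iff.mp h3

theorem xi : x⁻¹ = x := inv_eq_of_mul_eq_one_left H.xx

/-- no conjugate of `x` lies in `K` -/
theorem bad_of [Finite G] {e : G} (heM : e ∈ normalizer (L : Set G)) (he : e ∉ centralizer (L : Set G))
    (hC : ∀ c, c * e = e * c → c ∈ normalizer (L : Set G)) (g : G) :
    g⁻¹ * e * g ∉ centralizer (L : Set G) := by
  intro h
  refine he (H.hyp0.z4 (g := g) (fun l hl => hC _ ?_) heM h)
  have h1 := comm_of_mem hl h
  calc g * l * g⁻¹ * e = g * (l * (g⁻¹ * e * g)) * g⁻¹ := by group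
    _ = g * ((g⁻¹ * e * g) * l) * g⁻¹ := by rw [h1]
    _ = e * (g * l * g⁻¹) := by group

theorem xK : x ∉ centralizer (L : Set G) := by
  obtain ⟨X, hX, F⟩ := H.facts
  intro h
  exact F.xne 1 (by rw [(hX.eq_one_iff).mpr h, map_one])

theorem badT [Finite G] (g : G) : ¬ IsT L x (g⁻¹ * x * g) := fun h =>
  H.bad_of H.hyp0.xM H.xK H.Cx g h.mem

theorem badTt [Finite G] (t : G) (ht : IsT L x t) (g : G) : ¬ IsT L x (g⁻¹ * (x * t) * g) := fun h => by
  refine H.bad_of (mul_mem H.hyp0.xM (K_le_M ht.mem)) (fun h1 => H.xK ?_) (H.Cxt t ht) g h.mem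
  have h2 := mul_mem h1 (inv_mem ht.mem)
  rwa [mul_inv_cancel_right] at h2

/-- `x s` is conjugate to `x` under `L` -/
theorem conjS {s : G} (hs : IsS L x s) : ∃ l ∈ L, l * (x * s) * l⁻¹ = x := by
  obtain ⟨X, hX, F⟩ := H.facts
  have h0 := H.hyp0
  have h1 := hX.mul (acts_of_mem hs.mem)
  have h2 : x * s * (x * s) = 1 := by
    calc x * s * (x * s) = x * (s * x) * s := by group
      _ = (x * x) * (s * s) := by rw [hs.comm]; group
      _ = 1 := by rw [H.xx, hs.sq, one_mul]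
  obtain ⟨m, hm⟩ := F.xconj _ (h1.sq h2)
  refine ⟨m, m.2, ?_⟩
  have h3 := ((acts_coe m).mul h1).mul (acts_coe m).inv
  rw [hm] at h3
  have h4 := h3.mul_inv_mem hX
  have h5 : (m : G) * (x * s) * (m : G)⁻¹ * x⁻¹ = (m : G) * (x * (s * (m : G)⁻¹) * x⁻¹) := by group
  have h6 := h0.disj (l := (m : G) * (x * s) * (m : G)⁻¹ * x⁻¹) (by
    rw [h5]
    exact mul_mem m.2 (L_conj h0.xM (mul_mem hs.mem (inv_mem m.2)))) h4
  exact mul_inv_eq_one.mp h6

/-- the involutions commuting with `x` acting not wildly -/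
theorem cls {X : MulAut L} (hX : Acts L x X) (F : Facts X) {e : G} (he : e * x = x * e) (hee : e * e = 1)
    (h1 : e ≠ 1) {b : MulAut L} (hb : Acts L e b) (hw : ¬ Wild X b) :
    IsT L x e ∨ (∃ t, IsT1 L x t ∧ e = x * t) ∨
      (∃ s, IsS L x s ∧ ∃ t, IsT1 L x t ∧ e = s * t) ∨
        ∃ s, IsS L x s ∧ ∃ t, IsT1 L x t ∧ e = x * s * t := by
  obtain ⟨s, hss, hxs, hs⟩ := (F.cls (hb.sq hee) (hb.comm hX he)).resolve_right hw
  have hxs' : x * (s : G) = s * x := (hX.fix_iff s).mp hxs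
  have hsi : (s : G)⁻¹ = s := inv_eq_of_mul_eq_one_left (congrArg Subtype.val hss)
  have hss' : (s : G) * s = 1 := congrArg Subtype.val hss
  by_cases hs1 : s = 1
  · rw [hs1, map_one, mul_one] at hs
    rcases hs with hs | hs
    · exact Or.inl ⟨(hb.eq_one_iff).mp hs, he, hee, h1⟩
    · right; left
      refine ⟨x * e, ⟨?_, ?_, ?_⟩, ?_⟩
      · rw [hs] at hb
        have := hX.inv_mul_mem hb
        rwa [H.xi] at this
      · calc x * e * x = x * (e * x) := by group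
          _ = x * (x * e) := by rw [he]
      · calc x * e * (x * e) = x * (e * x) * e := by group
          _ = (x * x) * (e * e) := by rw [he]; group
          _ = 1 := by rw [H.xx, hee, one_mul]
      · rw [← mul_assoc, H.xx, one_mul]
  · have hS : IsS L x s := ⟨s.2, hxs'.symm, hss', fun h => hs1 (Subtype.ext h)⟩
    rcases hs with hs | hs
    · right; right; left
      rw [hs] at hb
      have h2 : e * (s : G) = s * e := (hb.fix_iff s).mp (by
        rw [MulAut.conj_apply, mul_inv_cancel_right])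
      refine ⟨s, hS, s * e, ⟨?_, ?_, ?_⟩, ?_⟩
      · have := (acts_coe s).inv_mul_mem hb
        rwa [hsi] at this
      · calc (s : G) * e * x = s * (e * x) := by group
          _ = (s * x) * e := by rw [he]; group
          _ = x * (s * e) := by rw [← hxs']; group
      · calc (s : G) * e * (s * e) = s * (e * s) * e := by group
          _ = (s * s) * (e * e) := by rw [h2]; group
          _ = 1 := by rw [hss', hee, one_mul]
      · rw [← mul_assoc, hss', one_mul]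
    · right; right; right
      rw [hs] at hb
      have hXs := (F.comm_conj_iff X s).mpr hxs
      have h2 : e * (s : G) = s * e := (hb.fix_iff s).mp (by
        rw [MulAut.mul_apply, MulAut.conj_apply, mul_inv_cancel_right, hxs])
      refine ⟨s, hS, s * x * e, ⟨?_, ?_, ?_⟩, ?_⟩
      · have h3 := (hX.mul (acts_coe s)).inv_mul_mem hb
        rwa [mul_inv_rev, hsi, H.xi] at h3
      · calc (s : G) * x * e * x = s * x * (e * x) := by group
          _ = s * (x * x) * e := by rw [he]; group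
          _ = (s : G) * e := by rw [H.xx, mul_one]
          _ = (x * x) * (s * e) := by rw [H.xx, one_mul]
          _ = x * (x * s) * e := by group
          _ = x * (s * x * e) := by rw [hxs']; group
      · calc (s : G) * x * e * (s * x * e) = s * x * (e * s) * x * e := by group
          _ = s * (x * s) * (e * x) * e := by rw [h2]; group
          _ = (s * s) * (x * x) * (e * e) := by rw [hxs', he]; group
          _ = 1 := by rw [hss', H.xx, hee]; group
      · calc e = (x * x) * (s * s) * e := by rw [H.xx, hss']; group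
          _ = x * (x * s) * s * e := by group
          _ = x * (s * x) * (s * e) := by rw [hxs']; group
          _ = x * s * (x * s) * e := by group
          _ = x * s * (s * x * e) := by rw [hxs']; group

theorem Cxt1 {t : G} (ht : IsT1 L x t) {c : G} (hc : c * (x * t) = (x * t) * c) :
    c ∈ normalizer (L : Set G) := by
  by_cases h : t = 1
  · rw [h, mul_one] at hc
    exact H.Cx c hc
  · exact H.Cxt t (ht.isT h) c hc

theorem badT1 [Finite G] {t : G} (ht : IsT1 L x t) (g : G) : ¬ IsT L x (g⁻¹ * (x * t) * g) := by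
  by_cases h : t = 1
  · rw [h, mul_one]
    exact H.badT g
  · exact H.badTt t (ht.isT h) g

theorem conjST {s t : G} (hs : IsS L x s) (ht : IsT1 L x t) :
    ∃ l ∈ L, l * (x * s * t) * l⁻¹ = x * t := by
  obtain ⟨l, hl, h⟩ := H.conjS hs
  refine ⟨l, hl, ?_⟩
  have h1 := comm_of_mem (inv_mem hl) ht.mem
  calc l * (x * s * t) * l⁻¹ = l * (x * s) * (t * l⁻¹) := by group
    _ = l * (x * s) * l⁻¹ * t := by rw [← h1]; group
    _ = x * t := by rw [h]

theorem Cxst {s t : G} (hs : IsS L x s) (ht : IsT1 L x t) {c : G}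
    (hc : c * (x * s * t) = (x * s * t) * c) : c ∈ normalizer (L : Set G) := by
  obtain ⟨l, hl, h⟩ := H.conjST hs ht
  have h1 : (l * c * l⁻¹) * (x * t) = (x * t) * (l * c * l⁻¹) := by
    rw [← h]
    calc (l * c * l⁻¹) * (l * (x * s * t) * l⁻¹) = l * (c * (x * s * t)) * l⁻¹ := by group
      _ = l * ((x * s * t) * c) * l⁻¹ := by rw [hc]
      _ = _ := by group
  have h2 := H.Cxt1 ht h1
  have h3 : c = l⁻¹ * (l * c * l⁻¹) * l := by group
  rw [h3]
  exact mul_mem (mul_mem (inv_mem (L_le_M hl)) h2) (L_le_M hl)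

theorem not_xs {s : G} (hs : s ∈ L) {t : G} (ht : t ∈ centralizer (L : Set G)) :
    x * s * t ∉ centralizer (L : Set G) := fun h => H.hyp0.xLK s hs (by
  have : x * s = x * s * t * t⁻¹ := by group
  rw [this]
  exact mul_mem h (inv_mem ht))

/-- pairs of commuting `t`'s commuting with `s t₁` -/
theorem exists_pair {s t₁ : G} (hs : IsS L x s) (ht₁ : IsT1 L x t₁) :
    ∃ f₁ f₂, IsT L x f₁ ∧ IsT L x f₂ ∧ IsT L x (f₁ * f₂) ∧ f₁ * f₂ = f₂ * f₁ ∧
      f₁ * (s * t₁) = s * t₁ * f₁ ∧ f₂ * (s * t₁) = s * t₁ * f₂ := by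
  have key : ∀ f, IsT L x f → f * t₁ = t₁ * f → f * (s * t₁) = s * t₁ * f := by
    intro f hf h
    have h1 := comm_of_mem hs.mem hf.mem
    calc f * (s * t₁) = (f * s) * t₁ := by group
      _ = s * (f * t₁) := by rw [← h1]; group
      _ = s * t₁ * f := by rw [h]; group
  have hmul : ∀ f₁ f₂, IsT L x f₁ → IsT L x f₂ → f₂ ≠ f₁ → f₂ * f₁ = f₁ * f₂ → IsT L x (f₁ * f₂) := by
    intro f₁ f₂ h1 h2 hne h
    refine (h1.isT1.mul h2.isT1 h.symm).isT ?_
    intro h3
    apply hne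
    have h4 := eq_inv_of_mul_eq_one_right h3
    rw [h4]
    exact inv_eq_of_mul_eq_one_left h1.sq
  by_cases h : t₁ = 1
  · obtain ⟨t, ht⟩ := H.four
    obtain ⟨u, hu, hut, hc⟩ := H.rk t ht
    exact ⟨t, u, ht, hu, hmul t u ht hu hut hc, hc.symm, key t ht (by rw [h]; group),
      key u hu (by rw [h]; group)⟩
  · have ht := ht₁.isT h
    obtain ⟨u, hu, hut, hc⟩ := H.rk t₁ ht
    exact ⟨t₁, u, ht, hu, hmul t₁ u ht hu hut hc, hc.symm, key t₁ ht rfl, key u hu hc⟩

omit H in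
/-- `g L g⁻¹ ≤ M` if `g` maps the fixed points of a wild automorphism and the centralizer of an involution fixed
by it into `M` -/
theorem gen_le {X : MulAut L} (F : Facts X) {α : MulAut L} (hα : Wild X α) {i : L} (hii : i * i = 1)
    (hi1 : i ≠ 1) (hαi : α i = i) {g : G} (h1 : ∀ j : L, α j = j → g * (j : G) * g⁻¹ ∈ normalizer (L : Set G))
    (h2 : ∀ j : L, j * i = i * j → g * (j : G) * g⁻¹ ∈ normalizer (L : Set G)) :
    ∀ l ∈ L, g * l * g⁻¹ ∈ normalizer (L : Set G) := by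
  obtain ⟨S, hS⟩ : ∃ S : Subgroup L, ∀ l : L, l ∈ S ↔ g * (l : G) * g⁻¹ ∈ normalizer (L : Set G) :=
    ⟨(normalizer (L : Set G)).comap ((MulAut.conj g).toMonoidHom.comp L.subtype), fun l => Iff.rfl⟩
  have h3 : (⊤ : Subgroup L) ≤ S := by
    rw [← F.wgen α hα i hii hi1 hαi]
    refine sup_le (fun j hj => (hS j).mpr (h1 j hj)) (fun j hj => (hS j).mpr (h2 j ?_))
    exact mem_centralizer_singleton_iff.mp hj
  intro l hl
  exact (hS ⟨l, hl⟩).mp (h3 (mem_top _))

end Hyp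

end Cfsg.Agent.UGT.ThEL34
end

-- part: UGT/ThEL34/FixB
section
/-!
# Theorem E for `L₃(4)`, IV: `x ^ g ∈ M → g ∈ M`, the end
-/

set_option autoImplicit false

open Subgroup

namespace Cfsg.Agent.UGT.ThEL34

open Cfsg.Agent.UGT.ThE.Base (comm_of_mem L_conj L_conj' K_le_M L_le_M K_conj K_conj' IsT IsS IsT1 exists_central
  exists_sqrt)

variable {G : Type*} [Group G]

namespace Hyp

variable {L : Subgroup G} {x : G} (H : Hyp L x)
include H

/-- a subgroup `g C_L(α) g⁻¹ ≤ M` (`α` wild) commuting with an element of `M` with solvable centralizer in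
`Aut L` lies in `K`; if `x` normalizes it, `g L g⁻¹ ≤ M` -/
theorem le_of_wild [Finite G] {X : MulAut L} (F : Facts X) {g : G} {α : MulAut L}
    (hα : Wild X α) (h1 : ∀ j : L, α j = j → g * (j : G) * g⁻¹ ∈ normalizer (L : Set G))
    {w : G} {β : MulAut L} (hβ : Acts L w β) (hS : Group.IsSolvable (centralizer ({β} : Set (MulAut L))))
    (h2 : ∀ j : L, α j = j → g * (j : G) * g⁻¹ * w = w * (g * (j : G) * g⁻¹))
    {y : G} (hy : y = g⁻¹ * x * g) {Y : MulAut L} (hY : Acts L y Y) (hYα : Y * α = α * Y) : False := by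
  have h0 := H.hyp0
  obtain ⟨ψ, hψ⟩ := exists_hom (L := L) (J := fx α) (g := g) (fun j hj => h1 j hj)
  have h3 : ∀ j : fx α, ψ j ∈ centralizer ({β} : Set (MulAut L)) := fun j => by
    rw [mem_centralizer_singleton_iff]
    exact (hψ j).comm hβ (h2 j j.2)
  have h4 : ∀ j : L, α j = j → g * (j : G) * g⁻¹ ∈ centralizer (L : Set G) := by
    intro j hj
    have h5 := F.hom_trivial hα hS ψ h3 ⟨j, hj⟩
    have h6 := hψ ⟨j, hj⟩
    rw [h5] at h6
    exact acts_one_iff.mp h6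
  have hyy : y * y = 1 := by
    rw [hy]
    calc g⁻¹ * x * g * (g⁻¹ * x * g) = g⁻¹ * (x * x) * g := by group
      _ = 1 := by rw [H.xx]; group
  obtain ⟨i, hi, hii, hi1, hYi⟩ := exists_fixed_inv Y (hY.sq hyy) (fx α) (fun d hd => by
    change α (Y d) = Y d
    rw [← MulAut.mul_apply, ← hYα, MulAut.mul_apply, show α d = d from hd]) (F.weven α hα)
  have hyi : y * (i : G) = i * y := (hY.fix_iff i).mp hYi
  have hii' : (i : G) * i = 1 := congrArg Subtype.val hii
  have hT : IsT L x (g * (i : G) * g⁻¹) := by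
    refine ⟨h4 i hi, ?_, ?_, ?_⟩
    · have e1 : x = g * y * g⁻¹ := by rw [hy]; group
      calc g * (i : G) * g⁻¹ * x = g * (i : G) * g⁻¹ * (g * y * g⁻¹) := by rw [← e1]
        _ = g * (i * y) * g⁻¹ := by group
        _ = g * (y * i) * g⁻¹ := by rw [hyi]
        _ = (g * y * g⁻¹) * (g * (i : G) * g⁻¹) := by group
        _ = x * (g * (i : G) * g⁻¹) := by rw [← e1]
    · calc g * (i : G) * g⁻¹ * (g * (i : G) * g⁻¹) = g * (i * i) * g⁻¹ := by group
        _ = 1 := by rw [hii']; group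
    · intro h
      apply hi1
      apply Subtype.ext
      calc (i : G) = g⁻¹ * (g * (i : G) * g⁻¹) * g := by group
        _ = 1 := by rw [h]; group
  have hL1 := gen_le F hα hii hi1 hi h1 (fun j hj => by
    apply H.Ct _ hT
    have hj' : (j : G) * i = i * j := congrArg Subtype.val hj
    calc g * (j : G) * g⁻¹ * (g * (i : G) * g⁻¹) = g * (j * i) * g⁻¹ := by group
      _ = g * (i * j) * g⁻¹ := by rw [hj']
      _ = _ := by group)
  exact hi1 (Subtype.ext (h0.z1 hL1 i.2 (h4 i hi)))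

/-- (E1), `x` inner on `g L g⁻¹` -/
theorem fix_inner [Finite G] {X : MulAut L} (hX : Acts L x X) (F : Facts X) {g : G} {s₀ : L}
    (hs₀ : s₀ * s₀ = 1) (hs1 : s₀ ≠ 1) (hy : Acts L (g⁻¹ * x * g) (MulAut.conj s₀)) : False := by
  have h0 := H.hyp0
  obtain ⟨y, hyd⟩ : ∃ y, y = g⁻¹ * x * g := ⟨_, rfl⟩
  rw [← hyd] at hy
  have exg : x = g * y * g⁻¹ := by rw [hyd]; group
  have hs₀' : (s₀ : G) * s₀ = 1 := congrArg Subtype.val hs₀
  obtain ⟨a, b, ha, hb, hab⟩ := F.cmt s₀ hs₀ hs1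
  have hcm : ∀ c : L, c * s₀ = s₀ * c → (g * (c : G) * g⁻¹) * x = x * (g * (c : G) * g⁻¹) := by
    intro c hc
    have h1 : y * (c : G) = c * y := (hy.fix_iff c).mp (by
      rw [MulAut.conj_apply, ← hc, mul_inv_cancel_right])
    calc g * (c : G) * g⁻¹ * x = g * (c : G) * g⁻¹ * (g * y * g⁻¹) := by rw [← exg]
      _ = g * (c * y) * g⁻¹ := by group
      _ = g * (y * c) * g⁻¹ := by rw [h1]
      _ = (g * y * g⁻¹) * (g * (c : G) * g⁻¹) := by group
      _ = x * (g * (c : G) * g⁻¹) := by rw [← exg]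
  obtain ⟨s₁, hs₁⟩ : ∃ s₁, s₁ = g * (s₀ : G) * g⁻¹ := ⟨_, rfl⟩
  obtain ⟨α, hα⟩ := exists_acts (H.Cx _ (hcm a ha))
  obtain ⟨β, hβ⟩ := exists_acts (H.Cx _ (hcm b hb))
  have hσ : Acts L s₁ (α * β * α⁻¹ * β⁻¹) := by
    have h1 := ((hα.mul hβ).mul hα.inv).mul hβ.inv
    have h2 : s₁ = g * (a : G) * g⁻¹ * (g * (b : G) * g⁻¹) * (g * (a : G) * g⁻¹)⁻¹ *
        (g * (b : G) * g⁻¹)⁻¹ := by
      rw [hs₁, hab]
      change g * ((a : G) * b * (a : G)⁻¹ * (b : G)⁻¹) * g⁻¹ = _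
      group
    rw [h2]; exact h1
  have hchi : ∀ χ : MulAut L →* ℤˣ, χ (α * β * α⁻¹ * β⁻¹) = 1 := by
    intro χ
    rw [map_mul, map_mul, map_mul, map_inv, map_inv, mul_comm (χ α), mul_assoc (χ β), mul_inv_cancel,
      mul_one, mul_inv_cancel]
  have hs₁s : s₁ * s₁ = 1 := by
    rw [hs₁]
    calc g * (s₀ : G) * g⁻¹ * (g * (s₀ : G) * g⁻¹) = g * (s₀ * s₀) * g⁻¹ := by group
      _ = 1 := by rw [hs₀']; group
  have hs₁1 : s₁ ≠ 1 := by
    intro h
    apply hs1
    apply Subtype.ext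
    calc (s₀ : G) = g⁻¹ * s₁ * g := by rw [hs₁]; group
      _ = 1 := by rw [h]; group
  have hs₁x : s₁ * x = x * s₁ := by rw [hs₁]; exact hcm s₀ rfl
  have hw : ¬ Wild X (α * β * α⁻¹ * β⁻¹) := by
    obtain ⟨χ, -, h⟩ := F.chi1
    intro h1
    have h2 := h _ h1
    rw [hchi] at h2
    exact absurd h2 (by decide)
  obtain ⟨χ, hχ⟩ := F.chi0
  have hlx : ∀ l ∈ L, (g * l * g⁻¹) * (x * s₁) = (x * s₁) * (g * l * g⁻¹) := by
    intro l hl
    have h1 : y * s₀ ∈ centralizer (L : Set G) := by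
      have h2 := hy.mul_inv_mem (acts_coe s₀)
      rwa [inv_eq_of_mul_eq_one_left hs₀'] at h2
    have h2 := comm_of_mem hl h1
    have h3 : x * s₁ = g * (y * s₀) * g⁻¹ := by rw [hs₁, exg]; group
    rw [h3]
    calc g * l * g⁻¹ * (g * (y * s₀) * g⁻¹) = g * (l * (y * s₀)) * g⁻¹ := by group
      _ = g * (y * s₀ * l) * g⁻¹ := by rw [h2]
      _ = _ := by group
  have hnx : ∀ {t : G}, IsT1 L x t → s₁ ≠ x * t := by
    intro t ht h
    have h1 := hX.mulK ht.mem
    rw [← h] at h1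
    have h2 := hchi χ
    rw [hσ.uniq h1, hχ] at h2
    exact absurd h2 (by decide)
  rcases H.cls hX F hs₁x hs₁s hs₁1 hσ hw with h1 | ⟨t₁, ht₁, h1⟩ | ⟨s, hs, t₁, ht₁, h1⟩ | ⟨s, hs, t₁, ht₁, h1⟩
  · have hL1 : ∀ l ∈ L, g * l * g⁻¹ ∈ normalizer (L : Set G) := fun l hl =>
      H.Cxt s₁ h1 _ (hlx l hl)
    exact hs1 (Subtype.ext (h0.z1 hL1 s₀.2 (hs₁ ▸ h1.mem)))
  · exact hnx ht₁ h1
  · have e1 : x * s₁ = x * s * t₁ := by rw [h1]; group
    have hL1 : ∀ l ∈ L, g * l * g⁻¹ ∈ normalizer (L : Set G) := fun l hl =>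
      H.Cxst hs ht₁ (by rw [← e1]; exact hlx l hl)
    have h2 : x * s₁ ∈ centralizer (L : Set G) := by
      apply h0.z4 hL1
      · rw [e1]
        exact mul_mem (mul_mem h0.xM (L_le_M hs.mem)) (K_le_M ht₁.mem)
      · have h3 : g⁻¹ * (x * s₁) * g = y * s₀ := by rw [hs₁, hyd]; group
        rw [h3]
        have h2 := hy.mul_inv_mem (acts_coe s₀)
        rwa [inv_eq_of_mul_eq_one_left hs₀'] at h2
    rw [e1] at h2
    exact H.not_xs hs.mem ht₁.mem h2
  · have h2 := (hX.mul (acts_of_mem hs.mem)).mulK ht₁.mem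
    rw [← h1] at h2
    have h3 := hchi χ
    rw [hσ.uniq h2, map_mul, hχ, F.chi_conj] at h3
    exact absurd h3 (by decide)

/-- (E1)(iii), `v = g t g⁻¹` wild on `L` -/
theorem fix_wild [Finite G] {X : MulAut L} (hX : Acts L x X) (F : Facts X) {g : G}
    (hg : g ∉ normalizer (L : Set G)) (hk : g⁻¹ * x * g * x ∈ centralizer (L : Set G)) {t : G} (ht : IsT L x t)
    (hvx : g * t * g⁻¹ * x = x * (g * t * g⁻¹)) {β : MulAut L} (hβ : Acts L (g * t * g⁻¹) β)
    (hw : Wild X β) : False := by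
  have h0 := H.hyp0
  have F2 : Facts2 X := by
    obtain ⟨X', hX', F2⟩ := H.facts2
    rw [← hX'.uniq hX]
    exact F2
  obtain ⟨y, hyd⟩ : ∃ y, y = g⁻¹ * x * g := ⟨_, rfl⟩
  rw [← hyd] at hk
  have exg : x = g * y * g⁻¹ := by rw [hyd]; group
  have hyX : Acts L y X := by
    have h1 := (hX.inv).Kmul hk
    have h2 : y * x * x⁻¹ = y := by group
    rw [h2, F.xinv] at h1
    exact h1
  obtain ⟨v, hv⟩ : ∃ v, v = g * t * g⁻¹ := ⟨_, rfl⟩
  rw [← hv] at hvx hβ
  have hvt : g⁻¹ * v * g = t := by rw [hv]; group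
  -- elements of `C_L(x)`
  have hR : ∀ r : L, X r = r → (g * (r : G) * g⁻¹) * x = x * (g * (r : G) * g⁻¹) := by
    intro r hr
    have h1 : y * (r : G) = r * y := (hyX.fix_iff r).mp hr
    calc g * (r : G) * g⁻¹ * x = g * (r : G) * g⁻¹ * (g * y * g⁻¹) := by rw [← exg]
      _ = g * (r * y) * g⁻¹ := by group
      _ = g * (y * r) * g⁻¹ := by rw [h1]
      _ = (g * y * g⁻¹) * (g * (r : G) * g⁻¹) := by group
      _ = x * (g * (r : G) * g⁻¹) := by rw [← exg]
  have hRM : ∀ r : L, X r = r → g * (r : G) * g⁻¹ ∈ normalizer (L : Set G) := fun r hr => H.Cx _ (hR r hr)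
  have hRv : ∀ r : L, (g * (r : G) * g⁻¹) * v = v * (g * (r : G) * g⁻¹) := by
    intro r
    have h1 := comm_of_mem r.2 ht.mem
    rw [hv]
    calc g * (r : G) * g⁻¹ * (g * t * g⁻¹) = g * (r * t) * g⁻¹ := by group
      _ = g * (t * r) * g⁻¹ := by rw [h1]
      _ = _ := by group
  -- the fixed points of `β`
  have hJ : ∀ j : L, β j = j → g⁻¹ * (j : G) * g ∈ normalizer (L : Set G) := by
    intro j hj
    apply H.Ct t ht
    have h1 : v * (j : G) = j * v := (hβ.fix_iff j).mp hj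
    calc g⁻¹ * (j : G) * g * t = g⁻¹ * (j * v) * g := by rw [← hvt]; group
      _ = g⁻¹ * (v * j) * g := by rw [h1]
      _ = t * (g⁻¹ * (j : G) * g) := by rw [← hvt]; group
  have hJn : ∀ r : L, X r = r → ∀ j : L, β j = j →
      ∃ j' : L, β j' = j' ∧ (j' : G) = (g * (r : G) * g⁻¹) * j * (g * (r : G) * g⁻¹)⁻¹ := by
    intro r hr j hj
    refine ⟨⟨_, L_conj (hRM r hr) j.2⟩, ?_, rfl⟩
    rw [hβ.fix_iff]
    have h1 : v * (j : G) = j * v := (hβ.fix_iff j).mp hj
    have h2 := hRv r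
    obtain ⟨ρ, hρ⟩ : ∃ ρ, ρ = g * (r : G) * g⁻¹ := ⟨_, rfl⟩
    change v * (g * (r : G) * g⁻¹ * j * (g * (r : G) * g⁻¹)⁻¹) =
      (g * (r : G) * g⁻¹ * j * (g * (r : G) * g⁻¹)⁻¹) * v
    rw [← hρ] at h2 ⊢
    have h3 : ρ⁻¹ * v = v * ρ⁻¹ := by
      calc ρ⁻¹ * v = ρ⁻¹ * (v * ρ) * ρ⁻¹ := by group
        _ = ρ⁻¹ * (ρ * v) * ρ⁻¹ := by rw [h2]
        _ = v * ρ⁻¹ := by group
    calc v * (ρ * j * ρ⁻¹) = (v * ρ) * j * ρ⁻¹ := by group
      _ = ρ * (v * j) * ρ⁻¹ := by rw [← h2]; group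
      _ = ρ * j * (v * ρ⁻¹) := by rw [h1]; group
      _ = ρ * j * ρ⁻¹ * v := by rw [← h3]; group
  -- the normal subgroup of the `j` with `g⁻¹ j g ∈ L`
  let N : Subgroup (fx β) :=
    { carrier := {j | g⁻¹ * ((j : L) : G) * g ∈ L}
      mul_mem' := by
        intro a b ha hb
        change g⁻¹ * (((a * b : fx β) : L) : G) * g ∈ L
        have : g⁻¹ * (((a * b : fx β) : L) : G) * g =
            (g⁻¹ * ((a : L) : G) * g) * (g⁻¹ * ((b : L) : G) * g) := by
          change g⁻¹ * (((a : L) : G) * ((b : L) : G)) * g = _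
          group
        rw [this]
        exact mul_mem ha hb
      one_mem' := by
        change g⁻¹ * (1 : G) * g ∈ L
        rw [mul_one, inv_mul_cancel]; exact one_mem _
      inv_mem' := by
        intro a ha
        change g⁻¹ * (((a : L) : G))⁻¹ * g ∈ L
        have : g⁻¹ * (((a : L) : G))⁻¹ * g = (g⁻¹ * ((a : L) : G) * g)⁻¹ := by group
        rw [this]
        exact inv_mem ha }
  have hNn : N.Normal := by
    refine ⟨fun n hn j => ?_⟩
    change g⁻¹ * (((j * n * j⁻¹ : fx β) : L) : G) * g ∈ L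
    have h1 : g⁻¹ * (((j * n * j⁻¹ : fx β) : L) : G) * g =
        (g⁻¹ * ((j : L) : G) * g) * (g⁻¹ * ((n : L) : G) * g) * (g⁻¹ * ((j : L) : G) * g)⁻¹ := by
      change g⁻¹ * (((j : L) : G) * ((n : L) : G) * ((j : L) : G)⁻¹) * g = _
      group
    rw [h1]
    exact L_conj (hJ j j.2) hn
  have hsimp := F.wsimp β hw
  rcases hsimp.eq_bot_or_eq_top_of_normal N hNn with hN | hN
  · -- `C_L(x)` centralizes `g⁻¹ C_L(v) g`
    have hρ : ∀ r : L, X r = r → ∀ j : L, β j = j → (g * (r : G) * g⁻¹) * j = j * (g * (r : G) * g⁻¹) := by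
      intro r hr j hj
      obtain ⟨j', hj', hj'e⟩ := hJn r hr j hj
      have h1 : (⟨j' * j⁻¹, mul_mem (show j' ∈ fx β from hj') (inv_mem (show j ∈ fx β from hj))⟩ : fx β) ∈ N := by
        change g⁻¹ * ((j' : G) * (j : G)⁻¹) * g ∈ L
        have h2 : g⁻¹ * ((j' : G) * (j : G)⁻¹) * g =
            r * ((g⁻¹ * (j : G) * g) * (r : G)⁻¹ * (g⁻¹ * (j : G) * g)⁻¹) := by
          rw [hj'e]; group
        rw [h2]
        exact mul_mem r.2 (L_conj (hJ j hj) (inv_mem r.2))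
      rw [hN, mem_bot] at h1
      have h2 : (j' : G) * (j : G)⁻¹ = 1 := congrArg (fun z : fx β => ((z : L) : G)) h1
      have h3 : (j' : G) = j := mul_inv_eq_one.mp h2
      rw [hj'e] at h3
      calc (g * (r : G) * g⁻¹) * j = (g * (r : G) * g⁻¹) * j * (g * (r : G) * g⁻¹)⁻¹ * (g * (r : G) * g⁻¹) := by
            group
        _ = j * (g * (r : G) * g⁻¹) := by rw [h3]
    obtain ⟨ψ, hψ⟩ := exists_hom (L := L) (J := fx X) (g := g) (fun r hr => hRM r hr)
    have hin : ∀ (r : fx X) (l : L), ψ r = MulAut.conj l → ψ r = 1 := by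
      intro r l hl
      have h1 : l = 1 := F.wcl β hw l (fun j hj => by
        have h2 := ((hψ r).fix_iff j).mpr (hρ r r.2 j hj)
        rw [hl, MulAut.conj_apply] at h2
        calc l * j = l * j * l⁻¹ * l := by group
          _ = j * l := by rw [h2])
      rw [hl, h1, map_one]
    have hexy : ∃ y : fx X, (y : L) ^ 3 = 1 ∧ (y : L) ≠ 1 ∧ ψ y = 1 := by
      obtain ⟨a, b, ha3, hXa, hb3, hXb, ha1, hb1, hab, hab'⟩ := F.indep
      obtain ⟨a', ha'⟩ : ∃ a' : fx X, (a' : L) = a := ⟨⟨a, hXa⟩, rfl⟩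
      obtain ⟨b', hb'⟩ : ∃ b' : fx X, (b' : L) = b := ⟨⟨b, hXb⟩, rfl⟩
      have ha3' : a' ^ 3 = 1 := Subtype.ext (by rw [← ha'] at ha3; exact ha3)
      have hb3' : b' ^ 3 = 1 := Subtype.ext (by rw [← hb'] at hb3; exact hb3)
      rcases F.out3 (ψ a') (ψ b') (by rw [← map_pow, ha3', map_one]) (by rw [← map_pow, hb3', map_one]) with
        ⟨l, hl⟩ | ⟨l, hl⟩ | ⟨l, hl⟩ | ⟨l, hl⟩
      · exact ⟨b', by rw [hb']; exact hb3, by rw [hb']; exact hb1, hin b' l hl⟩
      · exact ⟨a', by rw [ha']; exact ha3, by rw [ha']; exact ha1, hin a' l hl⟩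
      · refine ⟨b'⁻¹ * a', ?_, ?_, hin _ l ?_⟩
        · change ((b' : L)⁻¹ * (a' : L)) ^ 3 = 1
          rw [ha', hb']
          exact F.three b⁻¹ a (by rw [inv_pow, hb3, inv_one]) (by rw [map_inv, hXb]) ha3 hXa
        · change (b' : L)⁻¹ * (a' : L) ≠ 1
          rw [ha', hb']
          intro h
          exact hab (inv_mul_eq_one.mp h).symm
        · rw [map_mul, map_inv, hl]; group
      · refine ⟨b' * a', ?_, ?_, hin _ l ?_⟩
        · change ((b' : L) * (a' : L)) ^ 3 = 1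
          rw [ha', hb']
          exact F.three b a hb3 hXb ha3 hXa
        · change (b' : L) * (a' : L) ≠ 1
          rw [ha', hb']
          intro h
          exact hab' (eq_inv_of_mul_eq_one_right h)
        · rw [map_mul, hl]; group
    obtain ⟨y₁, hy₁3, hy₁1, hy₁⟩ := hexy
    have hYK : ∀ r : L, X r = r → r ^ 3 = 1 → g * (r : G) * g⁻¹ ∈ centralizer (L : Set G) := by
      intro r hr hr3
      have h1 := F.irr y₁ r hy₁3 hy₁1 y₁.2 hr3 hr
      have h2 : g * ((y₁ : L) : G) * g⁻¹ ∈ centralizer (L : Set G) := by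
        have := hψ y₁
        rw [hy₁] at this
        exact acts_one_iff.mp this
      have key : ∀ w ∈ closure {w | ∃ r, X r = r ∧ w = r * (y₁ : L) * r⁻¹},
          g * (w : G) * g⁻¹ ∈ centralizer (L : Set G) := by
        intro w hw
        induction hw using closure_induction with
        | mem w hw =>
          obtain ⟨r, hr, rfl⟩ := hw
          have e1 : g * ((r * (y₁ : L) * r⁻¹ : L) : G) * g⁻¹ =
              (g * (r : G) * g⁻¹) * (g * ((y₁ : L) : G) * g⁻¹) * (g * (r : G) * g⁻¹)⁻¹ := by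
            change g * ((r : G) * ((y₁ : L) : G) * (r : G)⁻¹) * g⁻¹ = _
            group
          rw [e1]
          exact K_conj (hRM r hr) h2
        | one => simp
        | mul a b _ _ ha hb =>
          have e1 : g * ((a * b : L) : G) * g⁻¹ = (g * (a : G) * g⁻¹) * (g * (b : G) * g⁻¹) := by
            change g * ((a : G) * (b : G)) * g⁻¹ = _
            group
          rw [e1]
          exact mul_mem ha hb
        | inv a _ ha =>
          have e1 : g * ((a⁻¹ : L) : G) * g⁻¹ = (g * (a : G) * g⁻¹)⁻¹ := by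
            change g * (a : G)⁻¹ * g⁻¹ = _
            group
          rw [e1]
          exact inv_mem ha
      exact key r h1
    -- the involutions of `C_L(x)`
    obtain ⟨s, -, hss, hs1, hXs⟩ := exists_fixed_inv X F.xx (⊤ : Subgroup L) (fun d _ => mem_top _) (by
      rw [card_top]
      exact (F.weven β hw).trans (card_subgroup_dvd_card _))
    obtain ⟨r, hr, hrr⟩ := F2.sq4 s hss hs1 hXs
    obtain ⟨r', hr'⟩ : ∃ r' : fx X, (r' : L) = r := ⟨⟨r, hr⟩, rfl⟩
    have hr4 : r' ^ 4 = 1 := by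
      apply Subtype.ext
      change (r' : L) ^ 4 = 1
      rw [hr']
      calc r ^ 4 = (r * r) * (r * r) := by rw [show (4 : ℕ) = 2 + 2 from rfl, pow_add, pow_two]
        _ = 1 := by rw [hrr, hss]
    obtain ⟨l, hl⟩ := F2.out4 (ψ r') (by rw [← map_pow, hr4, map_one])
    have hψs : ψ (r' * r') = 1 := hin _ l (by rw [map_mul]; exact hl)
    have hsK : g * (s : G) * g⁻¹ ∈ centralizer (L : Set G) := by
      have h1 := hψ (r' * r')
      rw [hψs] at h1
      have h2 : (((r' * r' : fx X) : L) : G) = (s : G) := by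
        rw [← hrr, ← hr']; rfl
      rw [h2] at h1
      exact acts_one_iff.mp h1
    have hss' : (s : G) * s = 1 := congrArg Subtype.val hss
    have hsT : IsT L x (g * (s : G) * g⁻¹) := by
      refine ⟨hsK, hR s hXs, ?_, ?_⟩
      · calc g * (s : G) * g⁻¹ * (g * (s : G) * g⁻¹) = g * (s * s) * g⁻¹ := by group
          _ = 1 := by rw [hss']; group
      · intro h
        apply hs1
        apply Subtype.ext
        calc (s : G) = g⁻¹ * (g * (s : G) * g⁻¹) * g := by group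
          _ = 1 := by rw [h]; group
    -- `g L g⁻¹ ≤ M`
    obtain ⟨S, hS⟩ : ∃ S : Subgroup L, ∀ l : L, l ∈ S ↔ g * (l : G) * g⁻¹ ∈ normalizer (L : Set G) :=
      ⟨(normalizer (L : Set G)).comap ((MulAut.conj g).toMonoidHom.comp L.subtype), fun l => Iff.rfl⟩
    have h3 : (⊤ : Subgroup L) ≤ S := by
      rw [← F2.yp s hss hs1 hXs]
      refine sup_le ?_ ?_
      · rw [closure_le]
        rintro y ⟨hy3, hXy⟩
        exact (hS y).mpr (K_le_M (hYK y hXy hy3))
      · intro l hl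
        have hl' : (l : G) * s = s * l := congrArg Subtype.val (mem_centralizer_singleton_iff.mp hl)
        apply (hS l).mpr
        apply H.Ct _ hsT
        calc g * (l : G) * g⁻¹ * (g * (s : G) * g⁻¹) = g * (l * s) * g⁻¹ := by group
          _ = g * (s * l) * g⁻¹ := by rw [hl']
          _ = _ := by group
    have hL1 : ∀ l ∈ L, g * l * g⁻¹ ∈ normalizer (L : Set G) := fun l hl =>
      (hS ⟨l, hl⟩).mp (h3 (mem_top _))
    exact hs1 (Subtype.ext (h0.z1 hL1 s.2 hsK))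
  · -- `g⁻¹ C_L(v) g ≤ L`
    obtain ⟨y₀, hy3, hy1, hβy, hXy⟩ := F.wthree β hw (hβ.comm hX hvx)
    have h1 : g⁻¹ * (y₀ : G) * g ∈ L := by
      have h2 : (⟨y₀, hβy⟩ : fx β) ∈ N := hN ▸ mem_top _
      exact h2
    have hy3' : (y₀ : G) ^ 3 = 1 := congrArg Subtype.val hy3
    have hxy : x * (y₀ : G) = y₀ * x := (hX.fix_iff y₀).mp hXy
    obtain ⟨y₂, hy₂⟩ : ∃ y₂ : L, (y₂ : G) = g⁻¹ * (y₀ : G) * g := ⟨⟨_, h1⟩, rfl⟩
    have hy₂3 : y₂ ^ 3 = 1 := by
      apply Subtype.ext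
      change (y₂ : G) ^ 3 = 1
      rw [hy₂]
      calc (g⁻¹ * (y₀ : G) * g) ^ 3 = g⁻¹ * ((y₀ : G) ^ 3) * g := by
            rw [pow_three, pow_three]; group
        _ = 1 := by rw [hy3']; group
    have hy₂1 : y₂ ≠ 1 := by
      intro h
      apply hy1
      apply Subtype.ext
      calc (y₀ : G) = g * (y₂ : G) * g⁻¹ := by rw [hy₂]; group
        _ = 1 := by rw [h]; simp
    have hXy₂ : X y₂ = y₂ := by
      rw [hyX.fix_iff, hy₂, hyd]
      calc g⁻¹ * x * g * (g⁻¹ * (y₀ : G) * g) = g⁻¹ * (x * y₀) * g := by group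
        _ = g⁻¹ * (y₀ * x) * g := by rw [hxy]
        _ = _ := by group
    have key : ∀ w ∈ closure {w | ∃ r, X r = r ∧ w = r * y₂ * r⁻¹},
        g * (w : G) * g⁻¹ ∈ L ∧ g * (w : G) * g⁻¹ * x = x * (g * (w : G) * g⁻¹) := by
      intro w hw
      induction hw using closure_induction with
      | mem w hw =>
        obtain ⟨r, hr, rfl⟩ := hw
        have e1 : g * ((r * y₂ * r⁻¹ : L) : G) * g⁻¹ =
            (g * (r : G) * g⁻¹) * y₀ * (g * (r : G) * g⁻¹)⁻¹ := by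
          change g * ((r : G) * (y₂ : G) * (r : G)⁻¹) * g⁻¹ = _
          rw [hy₂]; group
        rw [e1]
        refine ⟨L_conj (hRM r hr) y₀.2, ?_⟩
        have h4 := hR r hr
        obtain ⟨ρ, hρ⟩ : ∃ ρ, ρ = g * (r : G) * g⁻¹ := ⟨_, rfl⟩
        rw [← hρ] at h4 ⊢
        have h5 : ρ⁻¹ * x = x * ρ⁻¹ := by
          calc ρ⁻¹ * x = ρ⁻¹ * (x * ρ) * ρ⁻¹ := by group
            _ = ρ⁻¹ * (ρ * x) * ρ⁻¹ := by rw [h4]
            _ = x * ρ⁻¹ := by group
        calc ρ * y₀ * ρ⁻¹ * x = ρ * y₀ * (ρ⁻¹ * x) := by group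
          _ = ρ * (y₀ * x) * ρ⁻¹ := by rw [h5]; group
          _ = (ρ * x) * y₀ * ρ⁻¹ := by rw [← hxy]; group
          _ = x * (ρ * y₀ * ρ⁻¹) := by rw [h4]; group
      | one => simp
      | mul a b _ _ ha hb =>
        have e1 : g * ((a * b : L) : G) * g⁻¹ = (g * (a : G) * g⁻¹) * (g * (b : G) * g⁻¹) := by
          change g * ((a : G) * (b : G)) * g⁻¹ = _
          group
        rw [e1]
        refine ⟨mul_mem ha.1 hb.1, ?_⟩
        calc g * (a : G) * g⁻¹ * (g * (b : G) * g⁻¹) * x = g * (a : G) * g⁻¹ * ((g * (b : G) * g⁻¹) * x) := by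
              group
          _ = (g * (a : G) * g⁻¹ * x) * (g * (b : G) * g⁻¹) := by rw [hb.2]; group
          _ = _ := by rw [ha.2]; group
      | inv a _ ha =>
        have e1 : g * ((a⁻¹ : L) : G) * g⁻¹ = (g * (a : G) * g⁻¹)⁻¹ := by
          change g * (a : G)⁻¹ * g⁻¹ = _
          group
        rw [e1]
        refine ⟨inv_mem ha.1, ?_⟩
        calc (g * (a : G) * g⁻¹)⁻¹ * x = (g * (a : G) * g⁻¹)⁻¹ * (x * (g * (a : G) * g⁻¹)) *
              (g * (a : G) * g⁻¹)⁻¹ := by group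
          _ = (g * (a : G) * g⁻¹)⁻¹ * (g * (a : G) * g⁻¹ * x) * (g * (a : G) * g⁻¹)⁻¹ := by rw [ha.2]
          _ = _ := by group
    -- `β` fixes `g Y g⁻¹ = Y` pointwise
    have hfix : ∀ z : L, z ^ 3 = 1 → X z = z → ∃ z' : L, (z' : G) = g * (z : G) * g⁻¹ ∧ z' ^ 3 = 1 ∧
        X z' = z' ∧ β z' = z' := by
      intro z hz3 hXz
      obtain ⟨h4, h5⟩ := key z (F.irr y₂ z hy₂3 hy₂1 hXy₂ hz3 hXz)
      have hz3' : (z : G) ^ 3 = 1 := congrArg Subtype.val hz3
      refine ⟨⟨_, h4⟩, rfl, ?_, ?_, ?_⟩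
      · apply Subtype.ext
        change (g * (z : G) * g⁻¹) ^ 3 = 1
        calc (g * (z : G) * g⁻¹) ^ 3 = g * ((z : G) ^ 3) * g⁻¹ := by
              rw [pow_three, pow_three]; group
          _ = 1 := by rw [hz3']; group
      · exact (hX.fix_iff _).mpr h5.symm
      · rw [hβ.fix_iff]
        exact (hRv z).symm
    obtain ⟨a, b, ha3, hXa, hb3, hXb, ha1, hb1, hab, hab'⟩ := F.indep
    obtain ⟨a', ha', ha'3, hXa', hβa'⟩ := hfix a ha3 hXa
    obtain ⟨b', hb', hb'3, hXb', hβb'⟩ := hfix b hb3 hXb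
    have hinj : ∀ c d : L, g * (c : G) * g⁻¹ = g * (d : G) * g⁻¹ → c = d := fun c d h =>
      Subtype.ext (mul_left_cancel (mul_right_cancel h))
    rcases F2.wone β hw (hβ.comm hX hvx) a' b' ha'3 hXa' hβa' hb'3 hXb' hβb' with h | h | h | h
    · apply ha1
      apply hinj
      rw [← ha', h]; simp
    · apply hb1
      apply hinj
      rw [← hb', h]; simp
    · apply hab
      apply hinj
      rw [← ha', ← hb', h]
    · apply hab'
      apply hinj
      have h6 : g * ((b⁻¹ : L) : G) * g⁻¹ = (g * (b : G) * g⁻¹)⁻¹ := by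
        change g * (b : G)⁻¹ * g⁻¹ = _
        group
      rw [← ha', h6, ← hb', h]
      rfl

end Hyp

end Cfsg.Agent.UGT.ThEL34
end

-- part: UGT/ThEL34/FixC
section
/-!
# Theorem E for `L₃(4)`, V: (E1)
-/

set_option autoImplicit false

open Subgroup

namespace Cfsg.Agent.UGT.ThEL34

open Cfsg.Agent.UGT.ThE.Base (comm_of_mem L_conj L_conj' K_le_M L_le_M K_conj K_conj' IsT IsS IsT1 exists_central
  exists_sqrt)

variable {G : Type*} [Group G]

namespace Hyp

variable {L : Subgroup G} {x : G} (H : Hyp L x)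
include H

/-- (E1)(iii), the main step -/
theorem fix3 [Finite G] {g : G} (hg : g ∉ normalizer (L : Set G))
    (hk : g⁻¹ * x * g * x ∈ centralizer (L : Set G)) : False := by
  have h0 := H.hyp0
  obtain ⟨X, hX, F⟩ := H.facts
  obtain ⟨y, hy⟩ : ∃ y, y = g⁻¹ * x * g := ⟨_, rfl⟩
  obtain ⟨k, hkd⟩ : ∃ k, k = y * x := ⟨_, rfl⟩
  have hyy : y * y = 1 := by
    rw [hy]
    calc g⁻¹ * x * g * (g⁻¹ * x * g) = g⁻¹ * (x * x) * g := by group
      _ = 1 := by rw [H.xx]; group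
  have hkK : k ∈ centralizer (L : Set G) := by rw [hkd, hy]; exact hk
  have hykx : y = k * x := by
    rw [hkd, mul_assoc, H.xx, mul_one]
  have hyX : Acts L y X := by rw [hykx]; exact hX.Kmul hkK
  have hxk : x * k * x⁻¹ = k⁻¹ := by
    rw [hkd, mul_inv_rev, inv_eq_of_mul_eq_one_left hyy, H.xi]
    calc x * (y * x) * x = x * y * (x * x) := by group
      _ = x * y := by rw [H.xx, mul_one]
  have hxz : ∀ j ∈ zpowers k, x * j * x⁻¹ = j⁻¹ := by
    intro j hj
    obtain ⟨n, rfl⟩ := mem_zpowers_iff.mp hj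
    rw [← conj_zpow, hxk, inv_zpow]
  have hzK : ∀ j ∈ zpowers k, j ∈ centralizer (L : Set G) := fun j hj =>
    (zpowers_le.mpr hkK) hj
  rcases Nat.even_or_odd (orderOf k) with hev | hodd
  · obtain ⟨n, hn⟩ := hev
    have hnpos : 0 < n := by
      have := orderOf_pos k
      omega
    obtain ⟨t, htd⟩ : ∃ t, t = k ^ n := ⟨_, rfl⟩
    have htz : t ∈ zpowers k := htd ▸ pow_mem (mem_zpowers k) n
    have htt : t * t = 1 := by rw [htd, ← pow_add, ← hn, pow_orderOf_eq_one]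
    have ht1 : t ≠ 1 := by
      rw [htd]
      intro h
      have := orderOf_le_of_pow_eq_one hnpos h
      omega
    have htx : t * x = x * t := by
      have h1 := hxz t htz
      rw [inv_eq_of_mul_eq_one_left htt] at h1
      calc t * x = (x * t * x⁻¹) * x := by rw [h1]
        _ = x * t := by group
    have htT : IsT L x t := ⟨hzK t htz, htx, htt, ht1⟩
    have hty : t * y = y * t := by
      have h1 : t * k = k * t := by
        rw [htd]; exact ((Commute.refl k).pow_left n)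
      rw [hykx]
      calc t * (k * x) = (t * k) * x := by group
        _ = k * (t * x) := by rw [h1]; group
        _ = k * x * t := by rw [htx]; group
    obtain ⟨v, hv⟩ : ∃ v, v = g * t * g⁻¹ := ⟨_, rfl⟩
    have hvt : g⁻¹ * v * g = t := by rw [hv]; group
    have hvx : v * x = x * v := by
      rw [hv]
      have e1 : x = g * y * g⁻¹ := by rw [hy]; group
      calc g * t * g⁻¹ * x = g * t * g⁻¹ * (g * y * g⁻¹) := by rw [← e1]
        _ = g * (t * y) * g⁻¹ := by group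
        _ = g * (y * t) * g⁻¹ := by rw [hty]
        _ = (g * y * g⁻¹) * (g * t * g⁻¹) := by group
        _ = x * (g * t * g⁻¹) := by rw [← e1]
    have hvv : v * v = 1 := by
      rw [hv]
      calc g * t * g⁻¹ * (g * t * g⁻¹) = g * (t * t) * g⁻¹ := by group
        _ = 1 := by rw [htt]; group
    have hv1 : v ≠ 1 := by
      intro h
      apply ht1
      rw [← hvt, h]; group
    have hvM := H.Cx v hvx
    obtain ⟨β, hβ⟩ := exists_acts hvM
    by_cases hw : Wild X β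
    · exact H.fix_wild hX F hg hk htT (by rw [← hv]; exact hvx) (by rw [← hv]; exact hβ) hw
    rcases H.cls hX F hvx hvv hv1 hβ hw with h | ⟨t₁, ht₁, h⟩ | ⟨s, hs, t₁, ht₁, h⟩ | ⟨s, hs, t₁, ht₁, h⟩
    · exact hg (h0.fixT h (by rw [hvt]; exact htT.mem))
    · exact H.badT1 ht₁ g (by rw [← h, hvt]; exact htT)
    · have hβs : β = MulAut.conj ⟨s, hs.mem⟩ := by
        have h1 := (acts_of_mem hs.mem).mulK ht₁.mem
        rw [← h] at h1
        exact hβ.uniq h1
      obtain ⟨f₁, f₂, hf₁, hf₂, hf, hc, hd₁, hd₂⟩ := H.exists_pair hs ht₁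
      rw [← h] at hd₁ hd₂
      have hd : f₁ * f₂ * v = v * (f₁ * f₂) := by
        calc f₁ * f₂ * v = f₁ * (f₂ * v) := by group
          _ = (f₁ * v) * f₂ := by rw [hd₂]; group
          _ = v * (f₁ * f₂) := by rw [hd₁]; group
      have hM : ∀ f, f * v = v * f → g⁻¹ * f * g ∈ normalizer (L : Set G) := by
        intro f hfv
        apply H.Ct t htT
        calc g⁻¹ * f * g * t = g⁻¹ * (f * v) * g := by rw [← hvt]; group
          _ = g⁻¹ * (v * f) * g := by rw [hfv]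
          _ = t * (g⁻¹ * f * g) := by rw [← hvt]; group
      have hnK : ∀ f, IsT L x f → g⁻¹ * f * g ∉ centralizer (L : Set G) :=
        fun f hf h1 => hg (h0.fixT hf h1)
      have hfy : ∀ f, IsT L x f → (g⁻¹ * f * g) * y = y * (g⁻¹ * f * g) := by
        intro f hf
        rw [hy]
        calc g⁻¹ * f * g * (g⁻¹ * x * g) = g⁻¹ * (f * x) * g := by group
          _ = g⁻¹ * (x * f) * g := by rw [hf.comm]
          _ = _ := by group
      have sqc : ∀ f, IsT L x f → g⁻¹ * f * g * (g⁻¹ * f * g) = 1 := by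
        intro f hf
        calc g⁻¹ * f * g * (g⁻¹ * f * g) = g⁻¹ * (f * f) * g := by group
          _ = 1 := by rw [hf.sq]; group
      -- no `f` acts wildly on `g L g⁻¹`
      have hnw : ∀ f, IsT L x f → f * v = v * f → ∀ α, Acts L (g⁻¹ * f * g) α → ¬ Wild X α := by
        intro f hfT hfv α hα hw
        have hcomm : ∀ j : L, α j = j → g * (j : G) * g⁻¹ * f = f * (g * (j : G) * g⁻¹) := by
          intro j hj
          have h1 : g⁻¹ * f * g * (j : G) = j * (g⁻¹ * f * g) := (hα.fix_iff j).mp hj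
          calc g * (j : G) * g⁻¹ * f = g * (j * (g⁻¹ * f * g)) * g⁻¹ := by group
            _ = g * (g⁻¹ * f * g * j) * g⁻¹ := by rw [h1]
            _ = f * (g * (j : G) * g⁻¹) := by group
        refine H.le_of_wild F hw (fun j hj => H.Ct f hfT _ (hcomm j hj)) hβ ?_ ?_ hy hyX
          ((hα.comm hyX (hfy f hfT)).symm)
        · rw [hβs]
          exact F.sols _ (Subtype.ext hs.sq) (fun h1 => hs.ne (congrArg Subtype.val h1))
        · intro j _
          have h1 := comm_of_mem j.2 htT.mem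
          rw [hv]
          calc g * (j : G) * g⁻¹ * (g * t * g⁻¹) = g * (j * t) * g⁻¹ := by group
            _ = g * (t * j) * g⁻¹ := by rw [h1]
            _ = _ := by group
      have m1 := hM f₁ hd₁
      have m2 := hM f₂ hd₂
      obtain ⟨α₁, hα₁⟩ := exists_acts m1
      obtain ⟨α₂, hα₂⟩ := exists_acts m2
      have e12 : g⁻¹ * f₁ * g * (g⁻¹ * f₂ * g) = g⁻¹ * (f₁ * f₂) * g := by group
      have hα₁₂ : Acts L (g⁻¹ * (f₁ * f₂) * g) (α₁ * α₂) := by
        rw [← e12]; exact hα₁.mul hα₂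
      have hw : ∃ w, IsT L x w ∧ Acts L (g⁻¹ * w * g) X := by
        rcases F.four_x (hα₁.sq (sqc f₁ hf₁)) (hα₂.sq (sqc f₂ hf₂))
          (hα₁.comm hα₂ (by rw [e12, hc]; group)) (hα₁.comm hyX (hfy f₁ hf₁))
          (hα₂.comm hyX (hfy f₂ hf₂)) (fun h1 => hnK f₁ hf₁ (hα₁.eq_one_iff.mp h1))
          (fun h1 => hnK f₂ hf₂ (hα₂.eq_one_iff.mp h1)) (fun h1 => hnK _ hf (hα₁₂.eq_one_iff.mp h1))
          (hnw f₁ hf₁ hd₁ α₁ hα₁) (hnw f₂ hf₂ hd₂ α₂ hα₂) with h1 | h1 | h1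
        · exact ⟨f₁, hf₁, h1 ▸ hα₁⟩
        · exact ⟨f₂, hf₂, h1 ▸ hα₂⟩
        · exact ⟨f₁ * f₂, hf, h1 ▸ hα₁₂⟩
      obtain ⟨w, hw, hwX⟩ := hw
      have h5 : y * (g⁻¹ * w * g) ∈ centralizer (L : Set G) := by
        have h6 := hyX.mul hwX
        rw [F.xx] at h6
        exact acts_one_iff.mp h6
      have hL1 : ∀ l ∈ L, g * l * g⁻¹ ∈ normalizer (L : Set G) := by
        intro l hl
        apply H.Cxt w hw
        have h6 := comm_of_mem hl h5
        have h7 : x * w = g * (y * (g⁻¹ * w * g)) * g⁻¹ := by rw [hy]; group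
        rw [h7]
        calc g * l * g⁻¹ * (g * (y * (g⁻¹ * w * g)) * g⁻¹) = g * (l * (y * (g⁻¹ * w * g))) * g⁻¹ := by group
          _ = g * ((y * (g⁻¹ * w * g)) * l) * g⁻¹ := by rw [h6]
          _ = _ := by group
      exact hnK w hw (h0.z3 hL1 hw.mem hwX.mem)
    · obtain ⟨l, hl, h1⟩ := H.conjST hs ht₁
      apply H.badT1 ht₁ (l * g)
      have h2 : (l * g)⁻¹ * (x * t₁) * (l * g) = t := by
        rw [← h1, ← h, ← hvt]; group
      rw [h2]
      exact htT
  · obtain ⟨j, hj, hjz⟩ := exists_sqrt hodd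
    have h1 := hxz j hjz
    have h2 : j * x * j⁻¹ = y := by
      have h3 : x * j⁻¹ * x⁻¹ = j := by
        have := hxz j⁻¹ (inv_mem hjz)
        rwa [inv_inv] at this
      calc j * x * j⁻¹ = j * (x * j⁻¹ * x⁻¹) * x := by group
        _ = j * j * x := by rw [h3]
        _ = y := by rw [hj, ← hykx]
    have h3 : (g * j) * x = x * (g * j) := by
      calc (g * j) * x = g * (j * x * j⁻¹) * j := by group
        _ = g * (g⁻¹ * x * g) * j := by rw [h2, hy]
        _ = x * (g * j) := by group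
    apply hg
    have h4 : g = (g * j) * j⁻¹ := by group
    rw [h4]
    exact mul_mem (H.Cx _ h3) (inv_mem (K_le_M (hzK j hjz)))

/-- **(E1)** `x` normalizes exactly one conjugate of `L`. -/
theorem fix [Finite G] {g : G} (hx : g⁻¹ * x * g ∈ normalizer (L : Set G)) :
    g ∈ normalizer (L : Set G) := by
  by_contra hg
  have h0 := H.hyp0
  obtain ⟨X, hX, F⟩ := H.facts
  obtain ⟨y, hy⟩ : ∃ y, y = g⁻¹ * x * g := ⟨_, rfl⟩
  rw [← hy] at hx
  have hyy : y * y = 1 := by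
    rw [hy]
    calc g⁻¹ * x * g * (g⁻¹ * x * g) = g⁻¹ * (x * x) * g := by group
      _ = 1 := by rw [H.xx]; group
  have hx1 : x ∉ centralizer (L : Set G) := by
    have := h0.xLK 1 (one_mem _)
    rwa [mul_one] at this
  obtain ⟨b, hb⟩ := exists_acts hx
  have hcomm : ∀ l : L, b l = l → g * (l : G) * g⁻¹ * x = x * (g * (l : G) * g⁻¹) := by
    intro l hl
    have h1 := (hb.fix_iff l).mp hl
    have e1 : x = g * y * g⁻¹ := by rw [hy]; group
    calc g * (l : G) * g⁻¹ * x = g * (l : G) * g⁻¹ * (g * y * g⁻¹) := by rw [← e1]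
      _ = g * (l * y) * g⁻¹ := by group
      _ = g * (y * l) * g⁻¹ := by rw [h1]
      _ = (g * y * g⁻¹) * (g * (l : G) * g⁻¹) := by group
      _ = x * (g * (l : G) * g⁻¹) := by rw [← e1]
  rcases tri X (hb.sq hyy) with ⟨s₀, hs₀⟩ | ⟨l, hl⟩ | hw
  · by_cases hs1 : s₀ = 1
    · rw [hs1, map_one] at hs₀
      have hyK := hb.eq_one_iff.mp hs₀
      have hL1 : ∀ l ∈ L, g * l * g⁻¹ ∈ normalizer (L : Set G) := by
        intro l hl
        exact H.Cx _ (hcomm ⟨l, hl⟩ (by rw [hs₀]; rfl))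
      exact hx1 (h0.z4 hL1 h0.xM (hy ▸ hyK))
    · rw [hs₀] at hb
      exact H.fix_inner hX F (F.sq_of_conj (hb.sq hyy)) hs1 (hy ▸ hb)
  · -- `y` is conjugate to `x` modulo `K`
    have h1 := hb.sq hyy
    rw [hl] at h1 hb
    obtain ⟨m, hm⟩ := F.xconj l h1
    refine H.fix3 (g := g * (m : G)⁻¹) (fun h1 => hg ?_) ?_
    · have h2 : g = g * (m : G)⁻¹ * m := by group
      rw [h2]
      exact mul_mem h1 (L_le_M m.2)
    · have h2 := ((acts_coe m).mul hb).mul (acts_coe m).inv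
      rw [hm] at h2
      have h3 := h2.mul hX
      rw [F.xx] at h3
      have h4 : (g * (m : G)⁻¹)⁻¹ * x * (g * (m : G)⁻¹) * x = (m : G) * y * (m : G)⁻¹ * x := by
        rw [hy]; group
      rw [h4]
      exact acts_one_iff.mp h3
  · exact H.le_of_wild F hw (fun j hj => H.Cx _ (hcomm j hj)) hX F.solx (fun j hj => hcomm j hj) hy hb rfl

end Hyp

end Cfsg.Agent.UGT.ThEL34
end

-- part: UGT/ThEL34/Sign
section
/-!
# Theorem E for `L₃(4)`, VI: characters of `M = N(L)` and characters of `G`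

For every character `χ` of `Aut L` there is a character `f` of `G` with `f e = χ (e|L)` for all `e ∈ C(x)` with
`e² = 1`, as `x` normalizes exactly one conjugate of `L` (Theorem (TR+)). The end of Theorem E for `x ∈ X`.
-/

set_option autoImplicit false

open Subgroup MulAction

namespace Cfsg.Agent.UGT.ThEL34

open Cfsg.Agent.UGT
open Cfsg.Agent.UGT.ThE.Base (comm_of_mem L_conj L_conj' K_le_M L_le_M K_conj K_conj' IsT IsS IsT1 exists_central
  exists_sqrt)

variable {G : Type*} [Group G]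

theorem units_mul_eq_one (u v : ℤˣ) : u * v = 1 ↔ (u = 1 ↔ v = 1) := by
  rcases Int.units_eq_one_or u with rfl | rfl <;> rcases Int.units_eq_one_or v with rfl | rfl <;> decide

/-- **(TR+)** -/
theorem Hyp.exists_sign [Finite G] {L : Subgroup G} {x : G} (H : Hyp L x) (χ : MulAut L →* ℤˣ) :
    ∃ f : G →* ℤˣ, ∀ (e : G) (b : MulAut L), e * e = 1 → e * x = x * e → Acts L e b → f e = χ b := by
  have h0 := H.hyp0
  obtain ⟨M, hM⟩ : ∃ M, M = normalizer (L : Set G) := ⟨_, rfl⟩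
  have hMm : ∀ {m : G}, m ∈ M → m ∈ normalizer (L : Set G) := fun h => hM ▸ h
  have hMm' : ∀ {m : G}, m ∈ normalizer (L : Set G) → m ∈ M := fun h => hM ▸ h
  let ev : G ⧸ M → G → Prop := fun ω g => ∃ b, Acts L (ω.out⁻¹ * g * ω.out) b ∧ χ b = 1
  have hst : ∀ (ω : G ⧸ M) (g : G), g • ω = ω ↔ ω.out⁻¹ * g * ω.out ∈ M := by
    intro ω g
    have h1 : (ω.out : G ⧸ M) = ω := Quotient.out_eq' ω
    constructor
    · intro h
      have h2 : ((g * ω.out : G) : G ⧸ M) = (ω.out : G ⧸ M) := by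
        calc ((g * ω.out : G) : G ⧸ M) = g • ((ω.out : G) : G ⧸ M) := rfl
          _ = g • ω := by rw [h1]
          _ = ω := h
          _ = (ω.out : G ⧸ M) := h1.symm
      rw [eq_comm, QuotientGroup.eq] at h2
      rwa [← mul_assoc] at h2
    · intro h
      have h2 : ((ω.out : G) : G ⧸ M) = ((g * ω.out : G) : G ⧸ M) := by
        rw [QuotientGroup.eq, ← mul_assoc]
        exact h
      calc g • ω = g • ((ω.out : G) : G ⧸ M) := by rw [h1]
        _ = ((g * ω.out : G) : G ⧸ M) := rfl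
        _ = ((ω.out : G) : G ⧸ M) := h2.symm
        _ = ω := h1
  have hev : ∀ (ω : G ⧸ M) (g : G) (b : MulAut L), Acts L (ω.out⁻¹ * g * ω.out) b → (ev ω g ↔ χ b = 1) := by
    intro ω g b hb
    constructor
    · rintro ⟨c, hc, h⟩
      rwa [hb.uniq hc]
    · intro h
      exact ⟨b, hb, h⟩
  have hpar : Parity.IsParity (Ω := G ⧸ M) ev := by
    constructor
    · intro ω g h hg hh
      obtain ⟨b, hb⟩ := exists_acts (hMm ((hst ω g).mp hg))
      obtain ⟨c, hc⟩ := exists_acts (hMm ((hst ω h).mp hh))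
      have h1 : ω.out⁻¹ * (g * h) * ω.out = (ω.out⁻¹ * g * ω.out) * (ω.out⁻¹ * h * ω.out) := by
        group
      have h2 : Acts L (ω.out⁻¹ * (g * h) * ω.out) (b * c) := by rw [h1]; exact hb.mul hc
      rw [hev ω g b hb, hev ω h c hc, hev ω (g * h) _ h2, map_mul]
      exact units_mul_eq_one _ _
    · intro ω g h hh
      have h1 : (((g • ω).out : G) : G ⧸ M) = ((g * ω.out : G) : G ⧸ M) := by
        have h2 : ((g • ω).out : G ⧸ M) = g • ω := Quotient.out_eq' _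
        have h3 : (ω.out : G ⧸ M) = ω := Quotient.out_eq' ω
        rw [h2]
        calc g • ω = g • ((ω.out : G) : G ⧸ M) := by rw [h3]
          _ = _ := rfl
      rw [eq_comm, QuotientGroup.eq] at h1
      obtain ⟨m, hm⟩ : ∃ m, m = (g * ω.out)⁻¹ * (g • ω).out := ⟨_, rfl⟩
      rw [← hm] at h1
      have h4 : (g • ω).out = g * ω.out * m := by rw [hm]; group
      have h5 : (g • ω).out⁻¹ * (g * h * g⁻¹) * (g • ω).out = m⁻¹ * (ω.out⁻¹ * h * ω.out) * m := by
        rw [h4]; group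
      obtain ⟨c, hc⟩ := exists_acts (hMm ((hst ω h).mp hh))
      obtain ⟨μ, hμ⟩ := exists_acts (hMm h1)
      have h6 : Acts L ((g • ω).out⁻¹ * (g * h * g⁻¹) * (g • ω).out) (μ⁻¹ * c * μ) := by
        rw [h5]; exact (hμ.inv.mul hc).mul hμ
      rw [hev _ _ _ h6, hev ω h c hc, map_mul, map_mul, map_inv, mul_comm (χ μ)⁻¹, mul_assoc,
        inv_mul_cancel, mul_one]
  have hxM : x ∈ M := hMm' h0.xM
  have huniq : ∀ ω : G ⧸ M, x • ω = ω → ω = ((1 : G) : G ⧸ M) := by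
    intro ω hω
    have h1 := (hst ω x).mp hω
    have h2 : ω.out ∈ normalizer (L : Set G) := H.fix (hMm h1)
    have h3 : (ω.out : G ⧸ M) = ω := Quotient.out_eq' ω
    rw [← h3, eq_comm, QuotientGroup.eq, inv_one, one_mul]
    exact hMm' h2
  obtain ⟨f, hf⟩ := Parity.exists_hom_fixed hpar
  refine ⟨f, fun e b hee hex hb => ?_⟩
  have hT2 : IsPGroup 2 (zpowers x) := by
    rintro ⟨z, hz⟩
    obtain ⟨n, rfl⟩ := mem_zpowers_iff.mp hz
    refine ⟨1, ?_⟩
    apply Subtype.ext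
    change (x ^ n) ^ 2 ^ 1 = 1
    rw [pow_one, pow_two, ← zpow_add, ← two_mul, zpow_mul]
    have : x ^ (2 : ℤ) = 1 := by rw [zpow_two]; exact H.xx
    rw [this, one_zpow]
  have hTe : zpowers x ≤ centralizer ({e} : Set G) := by
    rw [zpowers_le, mem_centralizer_singleton_iff]
    exact hex.symm
  rw [hf e (zpowers x) hee hT2 hTe]
  obtain ⟨ω₀, hω₀⟩ : ∃ ω₀ : G ⧸ M, ω₀ = ((1 : G) : G ⧸ M) := ⟨_, rfl⟩
  have hfix : ∀ m, m ∈ M → m • ω₀ = ω₀ := by
    intro m hm
    rw [hω₀]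
    have : m • ((1 : G) : G ⧸ M) = ((m * 1 : G) : G ⧸ M) := rfl
    rw [this, eq_comm, QuotientGroup.eq, inv_one, one_mul, mul_one]
    exact hm
  have hm0 : ω₀.out ∈ M := by
    have h4 : ((ω₀.out : G) : G ⧸ M) = ((1 : G) : G ⧸ M) := by rw [← hω₀]; exact Quotient.out_eq' _
    rw [eq_comm, QuotientGroup.eq, inv_one, one_mul] at h4
    exact h4
  have hω₀e : ev ω₀ e ↔ χ b = 1 := by
    obtain ⟨μ, hμ⟩ := exists_acts (hMm hm0)
    rw [hev ω₀ e _ ((hμ.inv.mul hb).mul hμ), map_mul, map_mul, map_inv, mul_comm (χ μ)⁻¹, mul_assoc,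
        inv_mul_cancel, mul_one]
  have hall : ∀ t ∈ zpowers x, t • ω₀ = ω₀ := fun t ht => hfix t ((zpowers_le.mpr hxM) ht)
  by_cases hc : χ b = 1
  · have : IsEmpty {ω : G ⧸ M // (e • ω = ω ∧ ¬ ev ω e) ∧ ∀ t ∈ zpowers x, t • ω = ω} := by
      refine ⟨fun ⟨ω, ⟨_, h2⟩, h3⟩ => ?_⟩
      have h4 := huniq ω (h3 x (mem_zpowers x))
      rw [← hω₀] at h4
      rw [h4] at h2
      exact h2 (hω₀e.mpr hc)
    rw [Nat.card_eq_zero.mpr (Or.inl this), pow_zero, hc]
  · have : Nat.card {ω : G ⧸ M // (e • ω = ω ∧ ¬ ev ω e) ∧ ∀ t ∈ zpowers x, t • ω = ω} = 1 := by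
      rw [Nat.card_eq_one_iff_unique]
      have key : ∀ c : {ω : G ⧸ M // (e • ω = ω ∧ ¬ ev ω e) ∧ ∀ t ∈ zpowers x, t • ω = ω},
          c.1 = ω₀ := by
        rintro ⟨ω, ⟨_, _⟩, h3⟩
        rw [hω₀]
        exact huniq ω (h3 x (mem_zpowers x))
      refine ⟨⟨fun c d => Subtype.ext ((key c).trans (key d).symm)⟩,
        ⟨⟨ω₀, ⟨hfix e (hMm' hb.mem), fun h => hc (hω₀e.mp h)⟩, hall⟩⟩⟩
    rw [this, pow_one]
    exact ((Int.units_eq_one_or (χ b)).resolve_left hc).symm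

/-- **Theorem E for `L₃(4)`, `x ∈ X`.** -/
theorem Hyp.false_of_noSign [Finite G] {L : Subgroup G} {x : G} (H : Hyp L x) (hG : Parity.NoSign G) :
    False := by
  obtain ⟨X, hX, F⟩ := H.facts
  obtain ⟨χ, hχ⟩ := F.chi0
  obtain ⟨f, hf⟩ := H.exists_sign χ
  have h1 := hf x X H.xx rfl hX
  rw [hG f, hχ, MonoidHom.one_apply] at h1
  exact absurd h1 (by decide)

end Cfsg.Agent.UGT.ThEL34
end

-- part: UGT/ThEP/Base
section
/-!
# Theorem E for `L = L₃(4)`, commuting conjugates of `L` allowed: hypotheses and basic lemmas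

`L ≤ G`, `K = C(L)`, `M = N(L)`, `x ∈ M` an involution acting on `L` as the unitary polarity; `t` denotes an
involution of `C_K(x)`, `s` an involution of `C_L(x)`.
-/

set_option autoImplicit false

open Subgroup

namespace Cfsg.Agent.UGT.ThEP

open Cfsg.Agent.UGT.ThE.Base (comm_of_mem L_conj L_conj' K_le_M L_le_M K_conj K_conj' IsT IsS IsT1 exists_central
  exists_sqrt)
open Cfsg.Agent.UGT.ThEL34
open Cfsg.Agent.UGT.CE.L34 (Facts3 Facts4 YY mem_YY)

/-- All facts on `L₃(4)`. -/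
structure Facts5 {D : Type*} [Group D] (x : MulAut D) : Prop extends Facts4 x where
  p2 : ∀ i : D, i * i = 1 → i ≠ 1 → IsPGroup 2 (centralizer ({i} : Set D))
  /-- one class of involutions -/
  inv1 : ∀ i j : D, i * i = 1 → i ≠ 1 → j * j = 1 → j ≠ 1 → ∃ m, m * i * m⁻¹ = j
  /-- the classes of involutions of `C_D(i) ∈ Syl₂` outside the centre have at least three elements -/
  p6 : ∀ i s : D, i * i = 1 → i ≠ 1 → s * s = 1 → s ≠ 1 → s * i = i * s →
    (∃ p, p * i = i * p ∧ p * s ≠ s * p) →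
    ∀ p, p * i = i * p → ∃ q, q * i = i * q ∧ q * s * q⁻¹ ≠ s ∧ q * s * q⁻¹ ≠ p * s * p⁻¹

variable {G : Type*} [Group G]

/-- The hypotheses: `x` in `X` or not. -/
structure Base (L : Subgroup G) (x : G) : Prop where
  xx : x * x = 1
  fct : ∃ X : MulAut L, Acts L x X ∧ Facts5 X
  four : ∃ t, IsT L x t
  rk : ∀ t, IsT L x t → ∃ u, IsT L x u ∧ u ≠ t ∧ u * t = t * u
  /-- `L` is a component of `C(t)` -/
  cmp : ∀ t t' g, IsT L x t → IsT L x t' → g * t * g⁻¹ = t' →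
    g ∈ normalizer (L : Set G) ∨ ∀ l ∈ L, g * l * g⁻¹ ∈ centralizer (L : Set G)
  /-- `C(x t) ≤ N(L)` -/
  Ce : ∀ t, IsT1 L x t → ∀ c, c * (x * t) = (x * t) * c → c ∈ normalizer (L : Set G)
  /-- Theorem H -/
  NY : ∀ c, (∀ y ∈ YY L x, c * y * c⁻¹ ∈ YY L x) → c ∈ normalizer (L : Set G)
  /-- `x` normalises no conjugate of `L` commuting with `L` -/
  twin : ∀ g, g⁻¹ * x * g ∈ normalizer (L : Set G) → (∀ l ∈ L, g * l * g⁻¹ ∈ centralizer (L : Set G)) → False

namespace Base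

variable {L : Subgroup G} {x : G} (H : Base L x)
include H

theorem facts : ∃ X : MulAut L, Acts L x X ∧ Facts X := by
  obtain ⟨X, hX, F⟩ := H.fct
  exact ⟨X, hX, F.toFacts⟩

theorem xi : x⁻¹ = x := inv_eq_of_mul_eq_one_left H.xx

theorem xM : x ∈ normalizer (L : Set G) := by
  obtain ⟨X, hX, F⟩ := H.facts
  exact hX.mem

theorem disj {l : G} (hl : l ∈ L) (hk : l ∈ centralizer (L : Set G)) : l = 1 := by
  obtain ⟨X, hX, F⟩ := H.facts
  have h1 := (acts_of_mem hl).uniq (acts_one_iff.mpr hk)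
  exact congrArg Subtype.val (F.cl _ h1)

theorem uniq {a b c d : G} (ha : a ∈ L) (hb : b ∈ centralizer (L : Set G)) (hc : c ∈ L)
    (hd : d ∈ centralizer (L : Set G)) (h : a * b = c * d) : a = c ∧ b = d := by
  have h1 : c⁻¹ * a = d * b⁻¹ := by
    calc c⁻¹ * a = c⁻¹ * (a * b) * b⁻¹ := by group
      _ = d * b⁻¹ := by rw [h]; group
  have h2 : c⁻¹ * a = 1 := H.disj (mul_mem (inv_mem hc) ha) (by rw [h1]; exact mul_mem hd (inv_mem hb))
  have h3 : a = c := (inv_mul_eq_one.mp h2).symm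
  exact ⟨h3, by rw [h3] at h; exact mul_left_cancel h⟩

theorem simp (N : Subgroup G) (hN : N ≤ L) (hNn : ∀ l ∈ L, ∀ n ∈ N, l * n * l⁻¹ ∈ N) : N = ⊥ ∨ N = L := by
  obtain ⟨X, hX, F⟩ := H.facts
  have hn : (N.subgroupOf L).Normal := ⟨fun n hn l => by
    rw [mem_subgroupOf] at hn ⊢
    exact hNn l l.2 n hn⟩
  have := F.simp
  rcases F.simp.eq_bot_or_eq_top_of_normal _ hn with h | h
  · left
    rw [eq_bot_iff]
    intro n hn
    have h1 : (⟨n, hN hn⟩ : L) ∈ N.subgroupOf L := mem_subgroupOf.mpr hn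
    rw [h, mem_bot] at h1
    exact mem_bot.mpr (congrArg Subtype.val h1)
  · right
    apply le_antisymm hN
    exact subgroupOf_eq_top.mp h

theorem ne_bot : L ≠ ⊥ := by
  obtain ⟨X, hX, F⟩ := H.facts
  have := F.simp
  intro h
  obtain ⟨l, hl⟩ := exists_ne (1 : L)
  apply hl
  have h1 : (l : G) ∈ L := l.2
  exact Subtype.ext (mem_bot.mp (h.le h1))

/-- an element of `L` -/
theorem exists_ne' : ∃ l ∈ L, l ≠ 1 := by
  obtain ⟨X, hX, F⟩ := H.facts
  have := F.simp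
  obtain ⟨l, hl⟩ := exists_ne (1 : L)
  exact ⟨l, l.2, fun h => hl (Subtype.ext h)⟩

/-- `L` does not commute with itself -/
theorem self {g : G} (hg : g ∈ normalizer (L : Set G)) : ¬ ∀ l ∈ L, g * l * g⁻¹ ∈ centralizer (L : Set G) := by
  intro h
  obtain ⟨l, hl, h1⟩ := H.exists_ne'
  apply h1
  have h2 := H.disj (L_conj hg hl) (h l hl)
  calc l = g⁻¹ * (g * l * g⁻¹) * g := by group
    _ = 1 := by rw [h2]; group

/-- `L` is normal closure of any of its elements: a version for `l ↦ g l g⁻¹ ∈ M` -/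
theorem le_of_conj {P : G → Prop} (h1 : P 1) (hmul : ∀ a ∈ L, ∀ b ∈ L, P a → P b → P (a * b))
    (hinv : ∀ a ∈ L, P a → P a⁻¹) {S : Set G} (hS : ∀ s ∈ S, s ∈ L) (hne : ∃ s ∈ S, s ≠ 1)
    (h : ∀ l ∈ L, ∀ s ∈ S, P (l * s * l⁻¹)) (l : G) (hl : l ∈ L) : P l := by
  obtain ⟨D, hD⟩ : ∃ D, D = closure {d | ∃ l ∈ L, ∃ s ∈ S, d = l * s * l⁻¹} := ⟨_, rfl⟩
  have hDL : D ≤ L := by
    rw [hD, closure_le]
    rintro d ⟨l, hl, s, hs, rfl⟩
    exact mul_mem (mul_mem hl (hS s hs)) (inv_mem hl)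
  have hDn : ∀ l ∈ L, ∀ n ∈ D, l * n * l⁻¹ ∈ D := by
    intro a ha n hn
    rw [hD] at hn
    induction hn using closure_induction with
    | mem d hd =>
      obtain ⟨l, hl, s, hs, rfl⟩ := hd
      rw [hD]
      refine subset_closure ⟨a * l, mul_mem ha hl, s, hs, ?_⟩
      group
    | one => rw [mul_one, mul_inv_cancel]; exact one_mem _
    | mul y z _ _ h1 h2 =>
      have : a * (y * z) * a⁻¹ = (a * y * a⁻¹) * (a * z * a⁻¹) := by group
      rw [this]
      exact mul_mem h1 h2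
    | inv y _ h1 =>
      have : a * y⁻¹ * a⁻¹ = (a * y * a⁻¹)⁻¹ := by group
      rw [this]
      exact inv_mem h1
  have hDeq : D = L := by
    rcases H.simp D hDL hDn with h1 | h1
    · exfalso
      obtain ⟨s, hs, hs1⟩ := hne
      apply hs1
      have h2 : s ∈ D := by
        rw [hD]; exact subset_closure ⟨1, one_mem _, s, hs, by group⟩
      rwa [h1, mem_bot] at h2
    · exact h1
  have key : ∀ d, d ∈ D → P d ∧ d ∈ L := by
    intro d hd
    rw [hD] at hd
    induction hd using closure_induction with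
    | mem d hd =>
      obtain ⟨l, hl, s, hs, rfl⟩ := hd
      exact ⟨h l hl s hs, mul_mem (mul_mem hl (hS s hs)) (inv_mem hl)⟩
    | one => exact ⟨h1, one_mem _⟩
    | mul y z _ _ h1 h2 => exact ⟨hmul y h1.2 z h2.2 h1.1 h2.1, mul_mem h1.2 h2.2⟩
    | inv y _ h1 => exact ⟨hinv y h1.2 h1.1, inv_mem h1.2⟩
  exact (key l (by rw [hDeq]; exact hl)).1

/-! ### `YY L x` -/

theorem memY {y : G} : y ∈ YY L x ↔ y ∈ L ∧ y ^ 3 = 1 ∧ y * x = x * y := by
  obtain ⟨X, hX, F⟩ := H.facts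
  exact mem_YY hX F

theorem exS : ∃ s, IsS L x s := by
  obtain ⟨X, hX, F⟩ := H.fct
  obtain ⟨s, hss, hs1, hXs⟩ := F.exs
  exact ⟨s, s.2, ((hX.fix_iff s).mp hXs).symm, congrArg Subtype.val hss, fun h => hs1 (Subtype.ext h)⟩

theorem invY {s : G} (hs : IsS L x s) {y : G} (hy : y ∈ YY L x) : s * y * s⁻¹ = y⁻¹ := by
  obtain ⟨X, hX, F⟩ := H.fct
  obtain ⟨hyL, hy3, hye⟩ := H.memY.mp hy
  have h1 := F.inv ⟨s, hs.mem⟩ ⟨y, hyL⟩ (Subtype.ext hs.sq) (fun h => hs.ne (congrArg Subtype.val h))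
    ((hX.fix_iff _).mpr hs.comm.symm) (Subtype.ext hy3) ((hX.fix_iff _).mpr hye.symm)
  exact congrArg Subtype.val h1

theorem commY {y z : G} (hy : y ∈ YY L x) (hz : z ∈ YY L x) : y * z = z * y := by
  obtain ⟨s, hs⟩ := H.exS
  have h1 := H.invY hs (mul_mem hy hz)
  have h2 : s * (y * z) * s⁻¹ = y⁻¹ * z⁻¹ := by
    calc s * (y * z) * s⁻¹ = (s * y * s⁻¹) * (s * z * s⁻¹) := by group
      _ = y⁻¹ * z⁻¹ := by rw [H.invY hs hy, H.invY hs hz]
  have h3 : (y * z)⁻¹ = (z * y)⁻¹ := by rw [← h1, h2, mul_inv_rev]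
  exact inv_injective h3

theorem exY : ∃ y ∈ YY L x, y ≠ 1 := by
  obtain ⟨X, hX, F⟩ := H.fct
  obtain ⟨y, z, hy3, hXy, -, -, hy1, -⟩ := F.indep
  exact ⟨y, H.memY.mpr ⟨y.2, congrArg Subtype.val hy3, ((hX.fix_iff y).mp hXy).symm⟩,
    fun h => hy1 (Subtype.ext h)⟩

/-- `(*)`: `g L g⁻¹ ≤ M` implies `g L g⁻¹ = L` or `[g L g⁻¹, L] = 1` -/
theorem star [Finite G] {g : G} (hg : ∀ l ∈ L, g * l * g⁻¹ ∈ normalizer (L : Set G)) :
    g ∈ normalizer (L : Set G) ∨ ∀ l ∈ L, g * l * g⁻¹ ∈ centralizer (L : Set G) := by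
  obtain ⟨X, hX, F⟩ := H.facts
  obtain ⟨ψ, hψ⟩ := exists_hom (L := L) (J := ⊤) (g := g) (fun j _ => hg j j.2)
  obtain ⟨θ, hθ⟩ : ∃ θ : L →* MulAut L, ∀ l : L, Acts L (g * (l : G) * g⁻¹) (θ l) :=
    ⟨ψ.comp (topEquiv (G := L)).symm.toMonoidHom, fun l => hψ ((topEquiv (G := L)).symm l)⟩
  have hin : ∀ l, ∃ l', θ l = MulAut.conj l' := fun l => F.inn θ l
  choose τ hτ using hin
  have hs := F.simp
  rcases hs.eq_bot_or_eq_top_of_normal θ.ker inferInstance with h | h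
  · left
    have hinj : Function.Injective θ := (MonoidHom.ker_eq_bot_iff θ).mp h
    have hτinj : Function.Injective τ := fun a b hab => hinj (by rw [hτ, hτ, hab])
    have hτmul : ∀ a b, τ (a * b) = τ a * τ b := by
      intro a b
      apply F.conj_inj
      rw [← hτ, map_mul, hτ, hτ, map_mul]
    have hτsurj : Function.Surjective τ := Finite.surjective_of_injective hτinj
    have hτinv : ∀ a, τ a⁻¹ = (τ a)⁻¹ := by
      intro a
      apply F.conj_inj
      rw [← hτ, map_inv, hτ, map_inv]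
    -- `g l g⁻¹ = τ l * k`
    have hk : ∀ l : L, ∃ k ∈ centralizer (L : Set G), g * (l : G) * g⁻¹ = (τ l : G) * k := by
      intro l
      have h1 := hθ l
      rw [hτ] at h1
      exact ⟨(τ l : G)⁻¹ * (g * (l : G) * g⁻¹), (acts_coe (τ l)).inv_mul_mem h1, by group⟩
    -- `L` normalises `g L g⁻¹`
    have hLg : ∀ l : L, g⁻¹ * (l : G) * g ∈ normalizer (L : Set G) := by
      have key : ∀ l ∈ L, ∀ y ∈ (YY L x : Set G), ∀ hl : l * y * l⁻¹ ∈ L,
          g⁻¹ * (τ ⟨l * y * l⁻¹, hl⟩ : G) * g ∈ normalizer (L : Set G) := by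
        intro l hl y hy hly
        have hyL := (H.memY.mp hy).1
        have e1 : (⟨l * y * l⁻¹, hly⟩ : L) = ⟨l, hl⟩ * ⟨y, hyL⟩ * ⟨l, hl⟩⁻¹ := rfl
        rw [e1]
        -- `l⁻¹ (g⁻¹ (τ (l y l⁻¹)) g) l` centralises `YY L x`
        obtain ⟨a, ha⟩ : ∃ a : L, a = ⟨l, hl⟩ := ⟨_, rfl⟩
        obtain ⟨b, hb⟩ : ∃ b : L, b = ⟨y, hyL⟩ := ⟨_, rfl⟩
        rw [← ha, ← hb]
        have h2 : l⁻¹ * (g⁻¹ * (τ (a * b * a⁻¹) : G) * g) * l ∈ normalizer (L : Set G) := by
          apply H.NY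
          intro z hz
          have hzL := (H.memY.mp hz).1
          obtain ⟨c, hc⟩ : ∃ c : L, c = ⟨z, hzL⟩ := ⟨_, rfl⟩
          have hbc : b * c = c * b := by
            rw [hb, hc]
            exact Subtype.ext (H.commY hy hz)
          obtain ⟨k, hkK, hke⟩ := hk (a * c * a⁻¹)
          have h3 : τ (a * b * a⁻¹) * τ (a * c * a⁻¹) = τ (a * c * a⁻¹) * τ (a * b * a⁻¹) := by
            rw [← hτmul, ← hτmul]
            congr 1
            calc a * b * a⁻¹ * (a * c * a⁻¹) = a * (b * c) * a⁻¹ := by group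
              _ = a * (c * b) * a⁻¹ := by rw [hbc]
              _ = _ := by group
          have h4 : (τ (a * b * a⁻¹) : G) * (g * ((a * c * a⁻¹ : L) : G) * g⁻¹) =
              (g * ((a * c * a⁻¹ : L) : G) * g⁻¹) * (τ (a * b * a⁻¹) : G) := by
            rw [hke]
            have h5 := congrArg Subtype.val h3
            change (τ (a * b * a⁻¹) : G) * (τ (a * c * a⁻¹) : G) =
              (τ (a * c * a⁻¹) : G) * (τ (a * b * a⁻¹) : G) at h5
            calc (τ (a * b * a⁻¹) : G) * ((τ (a * c * a⁻¹) : G) * k)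
                = ((τ (a * b * a⁻¹) : G) * (τ (a * c * a⁻¹) : G)) * k := by group
              _ = (τ (a * c * a⁻¹) : G) * ((τ (a * b * a⁻¹) : G) * k) := by rw [h5]; group
              _ = (τ (a * c * a⁻¹) : G) * (k * (τ (a * b * a⁻¹) : G)) := by
                rw [comm_of_mem (τ (a * b * a⁻¹)).2 hkK]
              _ = _ := by group
          have h6 : ((a * c * a⁻¹ : L) : G) = l * z * l⁻¹ := by rw [ha, hc]; rfl
          rw [h6] at h4
          have h7 : l⁻¹ * (g⁻¹ * (τ (a * b * a⁻¹) : G) * g) * l * z *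
              (l⁻¹ * (g⁻¹ * (τ (a * b * a⁻¹) : G) * g) * l)⁻¹ = z := by
            calc l⁻¹ * (g⁻¹ * (τ (a * b * a⁻¹) : G) * g) * l * z *
                (l⁻¹ * (g⁻¹ * (τ (a * b * a⁻¹) : G) * g) * l)⁻¹
                = l⁻¹ * g⁻¹ * ((τ (a * b * a⁻¹) : G) * (g * (l * z * l⁻¹) * g⁻¹)) *
                  (τ (a * b * a⁻¹) : G)⁻¹ * g * l := by group
              _ = l⁻¹ * g⁻¹ * ((g * (l * z * l⁻¹) * g⁻¹) * (τ (a * b * a⁻¹) : G)) *
                  (τ (a * b * a⁻¹) : G)⁻¹ * g * l := by rw [h4]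
              _ = z := by group
          rw [h7]
          exact hz
        have h8 : g⁻¹ * (τ (a * b * a⁻¹) : G) * g =
            l * (l⁻¹ * (g⁻¹ * (τ (a * b * a⁻¹) : G) * g) * l) * l⁻¹ := by group
        rw [h8]
        exact mul_mem (mul_mem (L_le_M hl) h2) (inv_mem (L_le_M hl))
      have key2 : ∀ l, l ∈ L → ∀ hl : l ∈ L, g⁻¹ * (τ ⟨l, hl⟩ : G) * g ∈ normalizer (L : Set G) := by
        intro l hl
        refine H.le_of_conj (P := fun l => ∀ hl : l ∈ L, g⁻¹ * (τ ⟨l, hl⟩ : G) * g ∈ normalizer (L : Set G))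
          ?_ ?_ ?_ (S := (YY L x : Set G)) (fun s hs => (H.memY.mp hs).1) H.exY key l hl
        · intro h1
          have h2 : τ ⟨1, h1⟩ = 1 := by
            apply F.conj_inj
            rw [← hτ, map_one]
            exact map_one θ
          rw [h2]
          have h3 : g⁻¹ * ((1 : L) : G) * g = 1 := by
            rw [OneMemClass.coe_one]; group
          rw [h3]
          exact one_mem _
        · intro a ha b hb h1 h2 hab
          have h3 : τ ⟨a * b, hab⟩ = τ ⟨a, ha⟩ * τ ⟨b, hb⟩ := hτmul ⟨a, ha⟩ ⟨b, hb⟩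
          rw [h3]
          have h4 : g⁻¹ * ((τ ⟨a, ha⟩ * τ ⟨b, hb⟩ : L) : G) * g =
              (g⁻¹ * (τ ⟨a, ha⟩ : G) * g) * (g⁻¹ * (τ ⟨b, hb⟩ : G) * g) := by
            rw [Subgroup.coe_mul]; group
          rw [h4]
          exact mul_mem (h1 ha) (h2 hb)
        · intro a ha h1 hai
          have h3 : τ ⟨a⁻¹, hai⟩ = (τ ⟨a, ha⟩)⁻¹ := hτinv ⟨a, ha⟩
          rw [h3]
          have h4 : g⁻¹ * (((τ ⟨a, ha⟩)⁻¹ : L) : G) * g = (g⁻¹ * (τ ⟨a, ha⟩ : G) * g)⁻¹ := by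
            rw [Subgroup.coe_inv]; group
          rw [h4]
          exact inv_mem (h1 ha)
      intro l
      obtain ⟨a, ha⟩ := hτsurj l
      rw [← ha]
      exact key2 a a.2 a.2
    -- if `g ∉ M` then `[L, g L g⁻¹] = 1`
    by_contra hgM
    -- `L ∩ g L g⁻¹ = 1`
    obtain ⟨D, hD⟩ : ∃ D, D = L ⊓ L.comap (MulAut.conj g).toMonoidHom := ⟨_, rfl⟩
    have hDm : ∀ l, l ∈ D ↔ l ∈ L ∧ g * l * g⁻¹ ∈ L := fun l => by rw [hD]; exact Iff.rfl
    have hD1 := H.simp D (fun l hl => ((hDm l).mp hl).1) (by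
      intro l hl n hn
      obtain ⟨h1, h2⟩ := (hDm n).mp hn
      refine (hDm _).mpr ⟨mul_mem (mul_mem hl h1) (inv_mem hl), ?_⟩
      have h3 : g * (l * n * l⁻¹) * g⁻¹ = (g * l * g⁻¹) * (g * n * g⁻¹) * (g * l * g⁻¹)⁻¹ := by group
      rw [h3]
      exact L_conj (hg l hl) h2)
    rcases hD1 with hD1 | hD1
    · -- commute
      apply hs.toNontrivial.exists_pair_ne.elim
      rintro a ⟨b, hab⟩
      apply hab
      have htriv : ∀ l : L, l = 1 := by
        intro l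
        apply hinj
        rw [map_one]
        rw [(hθ l).eq_one_iff, mem_centralizer_iff]
        intro m hm
        -- the commutator of `m` and `g l g⁻¹`
        have h1 : g⁻¹ * (m * (g * (l : G) * g⁻¹) * m⁻¹ * (g * (l : G) * g⁻¹)⁻¹) * g ∈ D := by
          refine (hDm _).mpr ⟨?_, ?_⟩
          · have h2 : g⁻¹ * (m * (g * (l : G) * g⁻¹) * m⁻¹ * (g * (l : G) * g⁻¹)⁻¹) * g =
                (g⁻¹ * m * g) * l * (g⁻¹ * m * g)⁻¹ * (l : G)⁻¹ := by group
            rw [h2]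
            exact mul_mem (L_conj (hLg ⟨m, hm⟩) l.2) (inv_mem l.2)
          · have h2 : g * (g⁻¹ * (m * (g * (l : G) * g⁻¹) * m⁻¹ * (g * (l : G) * g⁻¹)⁻¹) * g) * g⁻¹ =
                m * ((g * (l : G) * g⁻¹) * m⁻¹ * (g * (l : G) * g⁻¹)⁻¹) := by group
            rw [h2]
            exact mul_mem hm (L_conj (hg l l.2) (inv_mem hm))
        rw [hD1, mem_bot] at h1
        have h3 : m * (g * (l : G) * g⁻¹) * m⁻¹ * (g * (l : G) * g⁻¹)⁻¹ = 1 := by
          calc m * (g * (l : G) * g⁻¹) * m⁻¹ * (g * (l : G) * g⁻¹)⁻¹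
              = g * (g⁻¹ * (m * (g * (l : G) * g⁻¹) * m⁻¹ * (g * (l : G) * g⁻¹)⁻¹) * g) * g⁻¹ := by group
            _ = 1 := by rw [h1]; group
        exact mul_inv_eq_iff_eq_mul.mp (mul_inv_eq_one.mp h3)
      rw [htriv a, htriv b]
    · apply hgM
      have h2 : ∀ l ∈ L, g * l * g⁻¹ ∈ L := by
        intro l hl
        rw [← hD1] at hl
        exact ((hDm l).mp hl).2
      rw [mem_normalizer_iff]
      intro y
      refine ⟨h2 y, fun hy => ?_⟩
      have h3 : Function.Surjective (fun l : L => (⟨g * l * g⁻¹, h2 l l.2⟩ : L)) := by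
        apply Finite.injective_iff_surjective.mp
        intro a b hab
        have h4 : g * (a : G) * g⁻¹ = g * (b : G) * g⁻¹ := congrArg Subtype.val hab
        exact Subtype.ext (mul_left_cancel (mul_right_cancel h4))
      obtain ⟨⟨b, hb⟩, hb2⟩ := h3 ⟨g * y * g⁻¹, hy⟩
      have h5 : g * b * g⁻¹ = g * y * g⁻¹ := congrArg Subtype.val hb2
      rw [← mul_left_cancel (mul_right_cancel h5)]
      exact hb
  · right
    intro l hl
    have h1 := hθ ⟨l, hl⟩
    have h2 : (⟨l, hl⟩ : L) ∈ θ.ker := h ▸ mem_top _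
    rw [MonoidHom.mem_ker] at h2
    rw [h2] at h1
    exact acts_one_iff.mp h1

/-! ### involutions commuting with `x` -/

/-- `x s` is conjugate to `x` under `L` -/
theorem conjS {s : G} (hs : IsS L x s) : ∃ l ∈ L, l * (x * s) * l⁻¹ = x := by
  obtain ⟨X, hX, F⟩ := H.facts
  have h1 := hX.mul (acts_of_mem hs.mem)
  have h2 : x * s * (x * s) = 1 := by
    calc x * s * (x * s) = x * (s * x) * s := by group
      _ = (x * x) * (s * s) := by rw [hs.comm]; group
      _ = 1 := by rw [H.xx, hs.sq, one_mul]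
  obtain ⟨m, hm⟩ := F.xconj _ (h1.sq h2)
  refine ⟨m, m.2, ?_⟩
  have h3 := ((acts_coe m).mul h1).mul (acts_coe m).inv
  rw [hm] at h3
  have h4 := h3.mul_inv_mem hX
  have h5 : (m : G) * (x * s) * (m : G)⁻¹ * x⁻¹ = (m : G) * (x * (s * (m : G)⁻¹) * x⁻¹) := by group
  have h6 := H.disj (l := (m : G) * (x * s) * (m : G)⁻¹ * x⁻¹) (by
    rw [h5]
    exact mul_mem m.2 (L_conj H.xM (mul_mem hs.mem (inv_mem m.2)))) h4
  exact mul_inv_eq_one.mp h6

/-- the involutions commuting with `x` acting not wildly -/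
theorem cls {X : MulAut L} (hX : Acts L x X) (F : Facts X) {e : G} (he : e * x = x * e) (hee : e * e = 1)
    (h1 : e ≠ 1) {b : MulAut L} (hb : Acts L e b) (hw : ¬ Wild X b) :
    IsT L x e ∨ (∃ t, IsT1 L x t ∧ e = x * t) ∨
      (∃ s, IsS L x s ∧ ∃ t, IsT1 L x t ∧ e = s * t) ∨
        ∃ s, IsS L x s ∧ ∃ t, IsT1 L x t ∧ e = x * s * t := by
  obtain ⟨s, hss, hxs, hs⟩ := (F.cls (hb.sq hee) (hb.comm hX he)).resolve_right hw
  have hxs' : x * (s : G) = s * x := (hX.fix_iff s).mp hxs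
  have hsi : (s : G)⁻¹ = s := inv_eq_of_mul_eq_one_left (congrArg Subtype.val hss)
  have hss' : (s : G) * s = 1 := congrArg Subtype.val hss
  by_cases hs1 : s = 1
  · rw [hs1, map_one, mul_one] at hs
    rcases hs with hs | hs
    · exact Or.inl ⟨(hb.eq_one_iff).mp hs, he, hee, h1⟩
    · right; left
      refine ⟨x * e, ⟨?_, ?_, ?_⟩, ?_⟩
      · rw [hs] at hb
        have := hX.inv_mul_mem hb
        rwa [H.xi] at this
      · calc x * e * x = x * (e * x) := by group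
          _ = x * (x * e) := by rw [he]
      · calc x * e * (x * e) = x * (e * x) * e := by group
          _ = (x * x) * (e * e) := by rw [he]; group
          _ = 1 := by rw [H.xx, hee, one_mul]
      · rw [← mul_assoc, H.xx, one_mul]
  · have hS : IsS L x s := ⟨s.2, hxs'.symm, hss', fun h => hs1 (Subtype.ext h)⟩
    rcases hs with hs | hs
    · right; right; left
      rw [hs] at hb
      have h2 : e * (s : G) = s * e := (hb.fix_iff s).mp (by
        rw [MulAut.conj_apply, mul_inv_cancel_right])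
      refine ⟨s, hS, s * e, ⟨?_, ?_, ?_⟩, ?_⟩
      · have := (acts_coe s).inv_mul_mem hb
        rwa [hsi] at this
      · calc (s : G) * e * x = s * (e * x) := by group
          _ = (s * x) * e := by rw [he]; group
          _ = x * (s * e) := by rw [← hxs']; group
      · calc (s : G) * e * (s * e) = s * (e * s) * e := by group
          _ = (s * s) * (e * e) := by rw [h2]; group
          _ = 1 := by rw [hss', hee, one_mul]
      · rw [← mul_assoc, hss', one_mul]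
    · right; right; right
      rw [hs] at hb
      have hXs := (F.comm_conj_iff X s).mpr hxs
      have h2 : e * (s : G) = s * e := (hb.fix_iff s).mp (by
        rw [MulAut.mul_apply, MulAut.conj_apply, mul_inv_cancel_right, hxs])
      refine ⟨s, hS, s * x * e, ⟨?_, ?_, ?_⟩, ?_⟩
      · have h3 := (hX.mul (acts_coe s)).inv_mul_mem hb
        rwa [mul_inv_rev, hsi, H.xi] at h3
      · calc (s : G) * x * e * x = s * x * (e * x) := by group
          _ = s * (x * x) * e := by rw [he]; group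
          _ = (s : G) * e := by rw [H.xx, mul_one]
          _ = (x * x) * (s * e) := by rw [H.xx, one_mul]
          _ = x * (x * s) * e := by group
          _ = x * (s * x * e) := by rw [hxs']; group
      · calc (s : G) * x * e * (s * x * e) = s * x * (e * s) * x * e := by group
          _ = s * (x * s) * (e * x) * e := by rw [h2]; group
          _ = (s * s) * (x * x) * (e * e) := by rw [hxs', he]; group
          _ = 1 := by rw [hss', H.xx, hee]; group
      · calc e = (x * x) * (s * s) * e := by rw [H.xx, hss']; group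
          _ = x * (x * s) * s * e := by group
          _ = x * (s * x) * (s * e) := by rw [hxs']; group
          _ = x * s * (x * s) * e := by group
          _ = x * s * (s * x * e) := by rw [hxs']; group

theorem conjST {s t : G} (hs : IsS L x s) (ht : IsT1 L x t) :
    ∃ l ∈ L, l * (x * s * t) * l⁻¹ = x * t := by
  obtain ⟨l, hl, h⟩ := H.conjS hs
  refine ⟨l, hl, ?_⟩
  have h1 := comm_of_mem (inv_mem hl) ht.mem
  calc l * (x * s * t) * l⁻¹ = l * (x * s) * (t * l⁻¹) := by group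
    _ = l * (x * s) * l⁻¹ * t := by rw [← h1]; group
    _ = x * t := by rw [h]

theorem Cxst {s t : G} (hs : IsS L x s) (ht : IsT1 L x t) {c : G}
    (hc : c * (x * s * t) = (x * s * t) * c) : c ∈ normalizer (L : Set G) := by
  obtain ⟨l, hl, h⟩ := H.conjST hs ht
  have h1 : (l * c * l⁻¹) * (x * t) = (x * t) * (l * c * l⁻¹) := by
    rw [← h]
    calc (l * c * l⁻¹) * (l * (x * s * t) * l⁻¹) = l * (c * (x * s * t)) * l⁻¹ := by group
      _ = l * ((x * s * t) * c) * l⁻¹ := by rw [hc]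
      _ = _ := by group
  have h2 := H.Ce t ht _ h1
  have h3 : c = l⁻¹ * (l * c * l⁻¹) * l := by group
  rw [h3]
  exact mul_mem (mul_mem (inv_mem (L_le_M hl)) h2) (L_le_M hl)

theorem one_isT1 : IsT1 L x 1 := ⟨one_mem _, by rw [one_mul, mul_one], one_mul 1⟩

theorem Cx {c : G} (hc : c * x = x * c) : c ∈ normalizer (L : Set G) :=
  H.Ce 1 H.one_isT1 c (by rw [mul_one]; exact hc)

/-- commuting involutions of `C_L(x)` are equal -/
theorem commS {s s' : G} (hs : IsS L x s) (hs' : IsS L x s') (h : s * s' = s' * s) : s = s' := by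
  obtain ⟨X, hX, F⟩ := H.facts
  have h1 := F.comm ⟨s, hs.mem⟩ ⟨s', hs'.mem⟩ (Subtype.ext hs.sq) (Subtype.ext hs'.sq)
    (fun h => hs.ne (congrArg Subtype.val h)) (fun h => hs'.ne (congrArg Subtype.val h))
    ((hX.fix_iff _).mpr hs.comm.symm) ((hX.fix_iff _).mpr hs'.comm.symm) (Subtype.ext h)
  exact congrArg Subtype.val h1

end Base

end Cfsg.Agent.UGT.ThEP
end
end

-- part: UGT/ThEP/KFacts
section
prune_inst 0x4d01047201500100000180512200020443000000200630001d9610502004613212942270178601e115102aa70200a806001000059421000000a008a0040040120840a52469348a104270087c0f001100000000000000000000000000000041000000000000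
set_option linter.all false
open scoped Cfsg.Agent.FastGrp

-- part: UGT/FL34/Classes
section
/-!
# Classes of involutory automorphisms of `L₃(4)`, generation by two tori
-/

set_option autoImplicit false
set_option linter.constructorNameAsVariable false
set_option linter.unusedVariables false

namespace Cfsg.Agent.UGT.FL34

open Subgroup Matrix
open Cfsg.Agent.SporadicA.FieldFour
open Cfsg.Agent.LThreeFour Cfsg.Agent.LThreeFour.Dat
open Cfsg.Agent.ONType.Psl (PSL3 SL3 T tm t kap)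
open Cfsg.Agent.ClassicalGeometry.AutPSL.Root
open Cfsg.Agent.ClassicalGeometry.AutPSL.Auto
open Cfsg.Agent.UGT.ThEL34
open scoped commutatorElement

/-! ### Generation by `Y` and `Y^p` -/

/-- the matrix of `x₀₂(ω)` -/
def PM : M3 := ⟨.o, .z, .w, .z, .o, .z, .z, .z, .o⟩

/-- the four generators -/
def gm : Fin 4 → M3
  | 0 => R1
  | 1 => R2
  | 2 => M3.mul (M3.mul PM R1) PM
  | 3 => M3.mul (M3.mul PM R2) PM

/-- value of a word -/
def ev (w : List (Fin 4)) : M3 := w.foldl (fun a i => M3.mul a (gm i)) ⟨.o, .z, .z, .z, .o, .z, .z, .z, .o⟩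

/-- the root matrices -/
def tmM (i j : Fin 3) (u : F4) : M3 := M3.ofM (tm i j u)

/-- words for root elements: `y = 0`, `u = 1`, `z = 2`, `v = 3` -/
def wds : List (List (Fin 4) × Fin 3 × Fin 3 × F4) :=
  [([0, 2, 0, 0, 2, 2, 0, 2], 0, 2, .o),
   ([0, 2, 0, 2, 0], 0, 2, .w),
   ([1, 2, 1, 3, 3, 0, 0, 3, 3], 0, 1, .o),
   ([1, 2, 1, 3, 0, 3], 0, 1, .w),
   ([1, 2, 2, 1, 3, 0, 0, 3], 1, 2, .o),
   ([1, 2, 2, 1, 1, 2, 2, 1], 1, 2, .w),
   ([2, 0, 0, 2, 2, 0, 2], 2, 0, .o)]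

theorem wds_chk : ∀ w ∈ wds, sim (ev w.1) (tmM w.2.1 w.2.2.1 w.2.2.2) = true := by decide +kernel

theorem gm_det : ∀ i, (gm i).det = 1 := by decide +kernel

/-- the generators in `PSL(3,4)` -/
noncomputable def gp (i : Fin 4) : PSL3 := pr (sl (gm i) (gm_det i))

theorem ev_mem {H : Subgroup PSL3} (hH : ∀ i, gp i ∈ H) (w : List (Fin 4)) :
    ∀ (A : SL3) (a : M3), A.1 = a.toM → pr A ∈ H →
      ∃ B : SL3, B.1 = (w.foldl (fun a i => M3.mul a (gm i)) a).toM ∧ pr B ∈ H := by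
  induction w with
  | nil => intro A a h h'; exact ⟨A, h, h'⟩
  | cons i w ih =>
    intro A a h h'
    apply ih (A * sl (gm i) (gm_det i)) (M3.mul a (gm i))
    · rw [M3.toM_mul, ← h]; rfl
    · rw [map_mul]; exact mul_mem h' (hH i)

theorem root_mem {H : Subgroup PSL3} (hH : ∀ i, gp i ∈ H) {w : List (Fin 4)} {i j : Fin 3} {u : F4}
    (h : sim (ev w) (tmM i j u) = true) : t i j u ∈ H := by
  obtain ⟨B, hB, hBH⟩ := ev_mem hH w 1 ⟨.o, .z, .z, .z, .o, .z, .z, .z, .o⟩ (by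
    show (1 : Matrix (Fin 3) (Fin 3) F4) = _
    ext i j
    fin_cases i <;> fin_cases j <;> rfl) (by rw [map_one]; exact one_mem H)
  obtain ⟨c, hc⟩ := mem_sim h
  have h1 : pr (T i j u) = pr B := by
    apply pr_eq_of_smul (c := c)
    rw [hB]
    show (ev w).toM = c • tm i j u
    rw [hc, M3.toM_smul]
    unfold tmM
    rw [M3.toM_ofM]
  have h2 : t i j u = pr B := h1
  rw [h2]; exact hBH

theorem gen_four {H : Subgroup PSL3} (hH : ∀ i, gp i ∈ H) : H = ⊤ := by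
  have key : ∀ w ∈ wds, t w.2.1 w.2.2.1 w.2.2.2 ∈ H := fun w hw => root_mem hH (wds_chk w hw)
  unfold wds at key
  simp only [List.mem_cons, List.not_mem_nil, or_false, forall_eq_or_imp, forall_eq] at key
  obtain ⟨k1, k2, k3, k4, k5, k6, k7⟩ := key
  have hadd : ∀ i j, i ≠ j → t i j 1 ∈ H → t i j F4.w ∈ H → ∀ u, t i j u ∈ H := by
    intro i j hij h1 h2 u
    have h3 : t i j F4.v ∈ H := by
      have h4 := datPSL.x_add i j hij 1 F4.w
      have h5 : (1 : F4) + F4.w = F4.v := rfl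
      rw [h5] at h4
      have h6 : t i j 1 * t i j F4.w = t i j F4.v := h4
      rw [← h6]; exact mul_mem h1 h2
    cases u
    · have h4 : t i j F4.z = 1 := datPSL.x_zero i j hij
      rw [h4]; exact one_mem H
    · exact h1
    · exact h2
    · exact h3
  apply gen_T datPSL _ k7
  rintro _ ⟨p, rfl⟩
  rw [datPSL.el_eq]
  exact mul_mem (mul_mem (hadd 0 1 (by decide) k3 k4 _) (hadd 1 2 (by decide) k5 k6 _))
    (hadd 0 2 (by decide) k1 k2 _)

/-- the second element of order 3 of the torus -/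
noncomputable def r2 : PSL3 := pr (sl R2 (unit_det R2_unit))

theorem gp_two : gp 2 = t 0 2 F4.w * r0 * (t 0 2 F4.w)⁻¹ := by
  rw [show (t 0 2 F4.w)⁻¹ = t 0 2 F4.w from datPSL.x_inv 0 2 (by decide) F4.w]
  show pr _ = pr (T 0 2 F4.w) * pr _ * pr (T 0 2 F4.w)
  rw [← map_mul, ← map_mul]
  congr 1
  apply Subtype.ext
  show (M3.mul (M3.mul PM R1) PM).toM = tm 0 2 F4.w * R1.toM * tm 0 2 F4.w
  have h : PM.toM = tm 0 2 F4.w := by
    ext i j
    fin_cases i <;> fin_cases j <;> rfl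
  rw [M3.toM_mul, M3.toM_mul, h]

theorem gp_three : gp 3 = t 0 2 F4.w * r2 * (t 0 2 F4.w)⁻¹ := by
  rw [show (t 0 2 F4.w)⁻¹ = t 0 2 F4.w from datPSL.x_inv 0 2 (by decide) F4.w]
  show pr _ = pr (T 0 2 F4.w) * pr _ * pr (T 0 2 F4.w)
  rw [← map_mul, ← map_mul]
  congr 1
  apply Subtype.ext
  show (M3.mul (M3.mul PM R2) PM).toM = tm 0 2 F4.w * R2.toM * tm 0 2 F4.w
  have h : PM.toM = tm 0 2 F4.w := by
    ext i j
    fin_cases i <;> fin_cases j <;> rfl
  rw [M3.toM_mul, M3.toM_mul, h]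

theorem r0_three : r0 ^ 3 = 1 := (pow_three_iff rfl).2 indep_chk.1

theorem r2_three : r2 ^ 3 = 1 := (pow_three_iff rfl).2 indep_chk.2.1

theorem x0_r0 : x0 r0 = r0 := fix_x0_mem R1_unit

theorem x0_r2 : x0 r2 = r2 := fix_x0_mem R2_unit

/-! ### Facts for `L ≅ L₃(4)` -/

variable {L : Type*} [Group L]

/-- `⟨O(C_L(x)), O(C_L(xs))⟩ = L` for a polarity `x` and an involution `s` of `C_L(x)` -/
theorem gen_two (e : PSL3 ≃* L) {x : MulAut L} (hx : x * x = 1)
    (hb : bits ((D e).tyHom x) = (true, true)) {s : L} (hs : s * s = 1) (hs1 : s ≠ 1)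
    (hxs : x s = s) :
    closure ({y | y ^ 3 = 1 ∧ x y = y} ∪ {y | y ^ 3 = 1 ∧ (x * MulAut.conj s) y = y}) = ⊤ := by
  obtain ⟨e', h1, rfl⟩ := plx' e hx hb hs hs1 hxs
  have e1 := eq_tr e' isTau_x0 h1
  set S : Set L := {y | y ^ 3 = 1 ∧ x y = y} ∪
    {y | y ^ 3 = 1 ∧ (x * MulAut.conj ((D e').x 0 2 1)) y = y} with hS
  have k1 : ∀ r : PSL3, r ^ 3 = 1 → x0 r = r → e' r ∈ closure S := by
    intro r hr hxr
    apply Subgroup.subset_closure
    left
    refine ⟨by rw [← map_pow, hr, map_one], ?_⟩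
    rw [e1, tr_e, hxr]
  have k2 : ∀ r : PSL3, r ^ 3 = 1 → x0 r = r → e' (t 0 2 F4.w * r * (t 0 2 F4.w)⁻¹) ∈ closure S := by
    intro r hr hxr
    apply Subgroup.subset_closure
    right
    refine ⟨by rw [← map_pow, conj_pow, hr, mul_one, mul_inv_cancel, map_one], ?_⟩
    rw [MulAut.mul_apply, MulAut.conj_apply, e1]
    have h2 : (D e').x 0 2 1 = e' (t 0 2 1) := rfl
    rw [h2, ← map_inv, ← map_mul, ← map_mul, tr_e]
    refine congrArg _ ?_
    have h3 : x0 (t 0 2 1 * t 0 2 F4.w) = t 0 2 F4.w := by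
      have h4 : t 0 2 1 * t 0 2 F4.w = t 0 2 F4.v := datPSL.x_add 0 2 (by decide) 1 F4.w
      rw [h4]
      have h5 := isTau_x0.x02 F4.v
      exact h5
    calc x0 (t 0 2 1 * (t 0 2 F4.w * r * (t 0 2 F4.w)⁻¹) * (t 0 2 1)⁻¹)
        = x0 ((t 0 2 1 * t 0 2 F4.w) * r * (t 0 2 1 * t 0 2 F4.w)⁻¹) := by
          refine congrArg _ ?_; group
      _ = t 0 2 F4.w * r * (t 0 2 F4.w)⁻¹ := by
          rw [map_mul, map_mul, map_inv, h3, hxr]
  have h4 : (closure S).comap e'.toMonoidHom = ⊤ := by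
    apply gen_four
    intro i
    rw [mem_comap]
    fin_cases i
    · exact k1 r0 r0_three x0_r0
    · exact k1 r2 r2_three x0_r2
    · show e' (gp 2) ∈ _
      rw [gp_two]
      exact k2 r0 r0_three x0_r0
    · show e' (gp 3) ∈ _
      rw [gp_three]
      exact k2 r2 r2_three x0_r2
  rw [eq_top_iff]
  intro l _
  have h5 : e'.symm l ∈ (closure S).comap e'.toMonoidHom := by rw [h4]; exact mem_top _
  rw [mem_comap] at h5
  have h6 : e'.toMonoidHom (e'.symm l) = l := e'.apply_symm_apply l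
  rwa [h6] at h5

/-! ### Fixed codes of the pure types -/

end Cfsg.Agent.UGT.FL34
end

-- part: UGT/FL34/New5
section
/-!
# Facts on `L₃(4)`: five fields of `LTF.Defs.FT` (`c2`, `cls`, `cent`, `four`, `q8`)
-/

set_option autoImplicit false
set_option linter.constructorNameAsVariable false
set_option linter.unusedVariables false

namespace Cfsg.Agent.UGT.FL34.New5

open Subgroup
open Cfsg.Agent.SporadicA.FieldFour
open Cfsg.Agent.LThreeFour Cfsg.Agent.LThreeFour.Dat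
open Cfsg.Agent.ONType.Psl (PSL3)
open Cfsg.Agent.UGT.FL34
open scoped commutatorElement

variable {L : Type*} [Group L]

theorem c2 (e : PSL3 ≃* L) (s : L) (hs : s * s = 1) (hs1 : s ≠ 1) (l : L) (hl : l * s = s * l) :
    ∃ n : ℕ, l ^ 2 ^ n = 1 := by
  obtain ⟨e', rfl⟩ := exists_x02 e hs hs1
  obtain ⟨p, rfl⟩ := cent_x02.1 hl
  refine ⟨2, ?_⟩
  have h1 : (D e').el p * (D e').el p * ((D e').el p * (D e').el p) = 1 := by
    rw [(D e').el_mul, (D e').el_mul, code_four, (D e').el_one]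
  have h2 : (D e').el p ^ 2 ^ 2 = (D e').el p * (D e').el p * ((D e').el p * (D e').el p) := by
    rw [← pow_two, ← pow_two, ← pow_mul]; rfl
  rw [h2, h1]

theorem cls (e : PSL3 ≃* L) (s t : L) (hs : s * s = 1) (hs1 : s ≠ 1) (ht : t * t = 1) (ht1 : t ≠ 1) :
    ∃ g, g * s * g⁻¹ = t := by
  obtain ⟨g, hg⟩ := (D e).invol_conj s hs1 hs
  obtain ⟨h, hh⟩ := (D e).invol_conj t ht1 ht
  refine ⟨h⁻¹ * g, ?_⟩
  calc h⁻¹ * g * s * (h⁻¹ * g)⁻¹ = h⁻¹ * (g * s * g⁻¹) * h := by group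
    _ = h⁻¹ * (h * t * h⁻¹) * h := by rw [hg, hh]
    _ = t := by group

theorem code_cent : ∀ (τ : Ty) a b c,
    (∀ y ∈ ([⟨1, 0, 0⟩, ⟨F4.w, 0, 0⟩, ⟨0, 1, 0⟩, ⟨0, F4.w, 0⟩] : List Code),
      cact ⟨a, b, c⟩ τ y = y ∨ cact ⟨a, b, c⟩ τ y = cmul ⟨0, 0, 1⟩ y) →
    τ = ty1 ∧ a = 0 ∧ b = 0 := by (set_option synthInstance.maxSize 100000 in exact Cfsg.Agent.Lib.Refl.of (by decide +kernel))

theorem cent (e : PSL3 ≃* L) (s : L) (hs : s * s = 1) (hs1 : s ≠ 1) (α : MulAut L)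
    (h : ∀ p, p * s = s * p → α p * p⁻¹ = 1 ∨ α p * p⁻¹ = s) :
    ∃ z, α = MulAut.conj z ∧ ∀ p, p * s = s * p → z * p = p * z := by
  obtain ⟨e', rfl⟩ := exists_x02 e hs hs1
  have h1 : α ((D e').x 0 2 1) = (D e').x 0 2 1 := by
    rcases h _ rfl with h2 | h2
    · exact mul_inv_eq_one.1 h2
    · rw [mul_inv_eq_iff_eq_mul, (D e').x_sq 0 2 (by decide)] at h2
      exact absurd (α.injective (by rw [h2, map_one])) hs1
  obtain ⟨⟨a, b, c⟩, τ, hp⟩ := (D e').exists_cd h1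
  have h2 : ∀ y : Code, cact ⟨a, b, c⟩ τ y = y ∨ cact ⟨a, b, c⟩ τ y = cmul ⟨0, 0, 1⟩ y := by
    intro y
    rcases h ((D e').el y) (cent_x02.2 ((D e').el_mem y)) with h3 | h3
    · left
      rw [mul_inv_eq_one, hp.apply] at h3
      exact (D e').inj h3
    · right
      rw [mul_inv_eq_iff_eq_mul, hp.apply, ← (D e').el_x02, (D e').el_mul] at h3
      exact (D e').inj h3
  obtain ⟨h3, h4, h5⟩ := code_cent τ a b c (fun y _ => h2 y)
  subst h3 h4 h5
  refine ⟨(D e').el (cinv ⟨0, 0, c⟩), hp.eq_conj, ?_⟩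
  intro p hp'
  have h6 : (D e').el (cinv ⟨0, 0, c⟩) ∈ (D e').Z := by
    rw [(D e').el_mem_Z]; exact ⟨rfl, rfl⟩
  exact Z_comm h6 (cent_x02.1 hp')

theorem code_w : ∀ a b : F4, ¬ (a = 0 ∧ b = 0) → ∃ c d : F4, a * d + b * c = F4.w := by decide

theorem four (e : PSL3 ≃* L) (s : L) (hs : s * s = 1) (hs1 : s ≠ 1) (w : L) (hw : w * s = s * w)
    (h : ∃ p, p * s = s * p ∧ w * p ≠ p * w) :
    ∃ p, p * s = s * p ∧ w * p * w⁻¹ * p⁻¹ ≠ 1 ∧ w * p * w⁻¹ * p⁻¹ ≠ s := by
  obtain ⟨e', rfl⟩ := exists_x02 e hs hs1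
  obtain ⟨q, rfl⟩ := cent_x02.1 hw
  have h1 : ¬ (q.a = 0 ∧ q.b = 0) := by
    intro h2
    obtain ⟨p, hp, hp'⟩ := h
    exact hp' (Z_comm ((D e').el_mem_Z.2 h2) (cent_x02.1 hp))
  obtain ⟨c, d, hcd⟩ := code_w _ _ h1
  have h2 := (D e').el_comm q ⟨c, d, 0⟩
  rw [commutatorElement_def] at h2
  have h3 : q.a * (⟨c, d, 0⟩ : Code).b + q.b * (⟨c, d, 0⟩ : Code).a = F4.w := hcd
  rw [h3] at h2
  refine ⟨(D e').el ⟨c, d, 0⟩, cent_x02.2 ((D e').el_mem _), ?_, ?_⟩
  · rw [h2, ← (D e').el_x02, Ne, (D e').el_eq_one]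
    decide
  · rw [h2, ← (D e').el_x02, ← (D e').el_x02]
    intro h4
    exact absurd ((D e').inj h4) (by decide)

end Cfsg.Agent.UGT.FL34.New5
end

-- part: UGT/ThEP/Syl
section
/-!
# Facts on the Sylow 2-subgroups of `L₃(4)`
-/

set_option autoImplicit false
set_option linter.constructorNameAsVariable false
set_option linter.unusedVariables false

namespace Cfsg.Agent.UGT.ThEP

open Subgroup
open Cfsg.Agent.SporadicA.FieldFour
open Cfsg.Agent.LThreeFour Cfsg.Agent.LThreeFour.Dat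
open Cfsg.Agent.ONType.Psl (PSL3)
open Cfsg.Agent.ClassicalGeometry.AutPSL.Root
open Cfsg.Agent.ClassicalGeometry.AutPSL.Auto
open Cfsg.Agent.UGT.FL34
open Cfsg.Agent.UGT.Iface (IsL34)

/-- Facts on the Sylow 2-subgroups `C_D(s)`, `s` an involution, of `D = L₃(4)`. -/
structure SylFacts (D : Type*) [Group D] : Prop where
  cls : ∀ s t : D, s * s = 1 → s ≠ 1 → t * t = 1 → t ≠ 1 → ∃ g, g * s * g⁻¹ = t
  four : ∀ s p : D, s * s = 1 → s ≠ 1 → p * s = s * p → (p * p) * (p * p) = 1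
  /-- `C_D(s)` is generated by involutions -/
  gen2 : ∀ s : D, s * s = 1 → s ≠ 1 → ∀ H : Subgroup D, (∀ p, p * s = s * p → p * p = 1 → p ∈ H) →
    ∀ p, p * s = s * p → p ∈ H
  /-- `D` is generated by the centralizers of the involutions of `C_D(s)` -/
  cgen : ∀ s : D, s * s = 1 → s ≠ 1 → ∀ H : Subgroup D,
    (∀ p, p * s = s * p → p * p = 1 → p ≠ 1 → ∀ c, c * p = p * c → c ∈ H) → H = ⊤

variable {L : Type*} [Group L]

theorem syl_four (e : PSL3 ≃* L) (s p : L) (hs : s * s = 1) (hs1 : s ≠ 1) (hp : p * s = s * p) :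
    (p * p) * (p * p) = 1 := by
  obtain ⟨e', rfl⟩ := exists_x02 e hs hs1
  obtain ⟨q, rfl⟩ := cent_x02.1 hp
  rw [(D e').el_mul, (D e').el_mul, code_four, (D e').el_one]

theorem syl_gen2 (e : PSL3 ≃* L) (s : L) (hs : s * s = 1) (hs1 : s ≠ 1) (H : Subgroup L)
    (h : ∀ p, p * s = s * p → p * p = 1 → p ∈ H) (p : L) (hp : p * s = s * p) : p ∈ H := by
  obtain ⟨e', rfl⟩ := exists_x02 e hs hs1
  obtain ⟨q, rfl⟩ := cent_x02.1 hp
  rw [(D e').el_eq]
  refine mul_mem (mul_mem (h _ (cent_x02.2 ?_) ((D e').x_sq 0 1 (by decide) _))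
    (h _ (cent_x02.2 ?_) ((D e').x_sq 1 2 (by decide) _))) (h _ (cent_x02.2 ?_) ((D e').x_sq 0 2 (by decide) _))
  · rw [← (D e').el_x01]; exact (D e').el_mem _
  · rw [← (D e').el_x12]; exact (D e').el_mem _
  · rw [← (D e').el_x02]; exact (D e').el_mem _

theorem x01_ne (A : Dat L) : A.x 0 1 1 ≠ 1 := by
  intro h
  rw [← A.el_x01, A.el_eq_one] at h
  exact absurd h (by decide)

theorem x12_ne (A : Dat L) : A.x 1 2 1 ≠ 1 := by
  intro h
  rw [← A.el_x12, A.el_eq_one] at h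
  exact absurd h (by decide)

theorem syl_cgen (e : PSL3 ≃* L) (s : L) (hs : s * s = 1) (hs1 : s ≠ 1) (H : Subgroup L)
    (h : ∀ p, p * s = s * p → p * p = 1 → p ≠ 1 → ∀ c, c * p = p * c → c ∈ H) : H = ⊤ := by
  obtain ⟨e', rfl⟩ := exists_x02 e hs hs1
  have h21 : (D e').x 2 1 1 ∈ H := by
    refine h ((D e').x 0 1 1) (cent_x02.2 ?_) ((D e').x_sq 0 1 (by decide) _) (x01_ne _) _ ?_
    · rw [← (D e').el_x01]; exact (D e').el_mem _
    · exact (D e').x_col 2 1 0 (by decide) (by decide) _ _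
  have h10 : (D e').x 1 0 1 ∈ H := by
    refine h ((D e').x 1 2 1) (cent_x02.2 ?_) ((D e').x_sq 1 2 (by decide) _) (x12_ne _) _ ?_
    · rw [← (D e').el_x12]; exact (D e').el_mem _
    · exact (D e').x_row 1 0 2 (by decide) (by decide) _ _
  apply gen_T (D e')
  · intro c hc
    exact h _ rfl hs hs1 c (cent_x02.2 hc)
  · have h1 := (D e').x_sum 2 0 1 (by decide) (by decide) (by decide) 1 1
    rw [one_mul] at h1
    have h2 : (D e').x 2 0 1 = ((D e').x 1 0 1 * (D e').x 2 1 1)⁻¹ * ((D e').x 2 1 1 * (D e').x 1 0 1) := by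
      rw [h1]; group
    rw [h2]
    exact mul_mem (inv_mem (mul_mem h10 h21)) (mul_mem h21 h10)

theorem sylFacts_of {K : Type*} [Group K] (hK : IsL34 K) : SylFacts K := by
  obtain ⟨F, _, _, hF, ⟨e⟩⟩ := hK
  obtain ⟨e'⟩ := nonempty_psl_equiv (n := Fin 3) F hF
  let e0 : PSL3 ≃* K := e'.trans e.symm
  exact { cls := New5.cls e0, four := syl_four e0, gen2 := syl_gen2 e0, cgen := syl_cgen e0 }

end Cfsg.Agent.UGT.ThEP
end

-- part: UGT/ThEP/KFacts
section
/-!
# The facts on `L₃(4)` used in Theorem E, paired case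
-/

set_option autoImplicit false
set_option linter.constructorNameAsVariable false
set_option linter.unusedVariables false

namespace Cfsg.Agent.UGT.ThEP

open Subgroup
open Cfsg.Agent.SporadicA.FieldFour
open Cfsg.Agent.LThreeFour Cfsg.Agent.LThreeFour.Dat
open Cfsg.Agent.ONType.Psl (PSL3)
open Cfsg.Agent.ClassicalGeometry.AutPSL.Root
open Cfsg.Agent.ClassicalGeometry.AutPSL.Auto
open Cfsg.Agent.UGT.FL34
open Cfsg.Agent.UGT.Iface (IsL34)

variable {L : Type*} [Group L]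

theorem p2 (e : PSL3 ≃* L) (i : L) (hi : i * i = 1) (hi1 : i ≠ 1) : IsPGroup 2 (centralizer ({i} : Set L)) := by
  rintro ⟨l, hl⟩
  refine ⟨2, Subtype.ext ?_⟩
  rw [mem_centralizer_singleton_iff] at hl
  have h1 := syl_four e i l hi hi1 hl
  show l ^ 2 ^ 2 = 1
  rw [show (2 : ℕ) ^ 2 = 2 * 2 by norm_num, pow_mul, pow_two, pow_two]
  exact h1

set_option maxRecDepth 100000 in
theorem code_p6 : ∀ s : Code, cmul s s = cone → (s.a ≠ 0 ∨ s.b ≠ 0) → ∀ p : Code,
    ∃ q : Code, cmul q s ≠ cmul s q ∧ cmul (cmul q s) (cinv q) ≠ cmul (cmul p s) (cinv p) := by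
  have H : ∀ s : Code, cmul s s = cone → (s.a ≠ 0 ∨ s.b ≠ 0) →
      ∃ q ∈ ([(⟨1, 0, 0⟩, ⟨F4.w, 0, 0⟩), (⟨0, 1, 0⟩, ⟨0, F4.w, 0⟩)] : List (Code × Code)), cmul q.1 s ≠ cmul s q.1 ∧
        cmul q.2 s ≠ cmul s q.2 ∧ cmul (cmul q.1 s) (cinv q.1) ≠ cmul (cmul q.2 s) (cinv q.2) := by
    decide +kernel
  intro s h1 h2 p
  obtain ⟨q, -, a, b, c⟩ := H s h1 h2
  by_cases e : cmul (cmul q.1 s) (cinv q.1) = cmul (cmul p s) (cinv p)
  · exact ⟨q.2, b, fun e' => c (e.trans e'.symm)⟩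
  · exact ⟨q.1, a, e⟩

theorem p6 (e : PSL3 ≃* L) (i s : L) (hi : i * i = 1) (hi1 : i ≠ 1) (hs : s * s = 1) (hs1 : s ≠ 1)
    (hsi : s * i = i * s) (h : ∃ p, p * i = i * p ∧ p * s ≠ s * p) (p : L) (hp : p * i = i * p) :
    ∃ q, q * i = i * q ∧ q * s * q⁻¹ ≠ s ∧ q * s * q⁻¹ ≠ p * s * p⁻¹ := by
  obtain ⟨e', rfl⟩ := exists_x02 e hi hi1
  obtain ⟨cs, rfl⟩ := cent_x02.1 hsi
  obtain ⟨cp, rfl⟩ := cent_x02.1 hp
  have h1 : cmul cs cs = cone := el_sq hs
  have h2 : cs.a ≠ 0 ∨ cs.b ≠ 0 := by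
    by_contra h3
    push Not at h3
    obtain ⟨r, hr, hrs⟩ := h
    obtain ⟨cr, rfl⟩ := cent_x02.1 hr
    apply hrs
    have h4 : cs = ⟨0, 0, cs.c⟩ := by
      cases cs
      simp only at h3
      rw [h3.1, h3.2]
    have h5 : ∀ c : F4, ∀ r : Code, cmul r ⟨0, 0, c⟩ = cmul ⟨0, 0, c⟩ r := by decide +kernel
    rw [h4, (D e').el_mul, (D e').el_mul, h5]
  obtain ⟨q, hq1, hq2⟩ := code_p6 cs h1 h2 cp
  refine ⟨(D e').el q, cent_x02.2 ((D e').el_mem q), ?_, ?_⟩
  · intro h3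
    apply hq1
    apply (D e').inj
    rw [← (D e').el_mul, ← (D e').el_mul]
    exact mul_inv_eq_iff_eq_mul.mp h3
  · intro h3
    apply hq2
    apply (D e').inj
    rw [← (D e').el_mul, ← (D e').el_mul, ← (D e').el_mul, ← (D e').el_mul, ← (D e').el_inv, ← (D e').el_inv]
    exact h3

end Cfsg.Agent.UGT.ThEP
end
end

-- part: UGT/N2S/Pump
section
set_option linter.all false
open scoped Cfsg.Agent.FastGrp

/-!
# The pump-up of a triple of type `L₃(4)` is trivial or diagonal, of type `L₃(4)`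
-/

set_option autoImplicit false

open Cfsg Subgroup
open Cfsg.Agent.SignalizersComponents Cfsg.Agent.Lib
open Cfsg.Agent.SignalizersComponents.IntrinsicBasic
open Cfsg.Agent.SignalizersComponents.PLayerAut
open Cfsg.Agent.Intrinsic.Basic Cfsg.Agent.Intrinsic.Cen Cfsg.Agent.Intrinsic.Diag
open Cfsg.Agent.McLLyComp.Act
open Cfsg.Agent.UGT.Triple Cfsg.Agent.UGT.TriBase Cfsg.Agent.UGT.Res.Base
open Cfsg.Agent.UGT.PumpGen (fixes_of_pump)
open Cfsg.Agent.UGT.Iface (Bar IsL2 IsL34 IsAltOdd)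
open Cfsg.Agent.UGT.LTF.Defs
open Cfsg.Agent.UGT.LTF.Basics (img mem_img img_ne)
open scoped commutatorElement

namespace Cfsg.Agent.UGT.N2S

universe u

theorem card_l34 {A B : Type*} [Group A] [Group B] (hA : IsL34 A) (hB : IsL34 B) :
    Nat.card A = Nat.card B := by
  obtain ⟨F, i, j, hF, ⟨e⟩⟩ := hA
  obtain ⟨F', i', j', hF', ⟨e'⟩⟩ := hB
  obtain ⟨f⟩ := Cfsg.Agent.SporadicA.FieldFour.nonempty_psl_equiv (n := Fin 3) F hF
  obtain ⟨f'⟩ := Cfsg.Agent.SporadicA.FieldFour.nonempty_psl_equiv (n := Fin 3) F' hF'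
  exact Nat.card_congr (((e.trans f.symm).trans f').trans e'.symm).toEquiv

variable {G : Type u} [Group G]

theorem isPGroup_of_sq {g : G} (hg : g * g = 1) : IsPGroup 2 ↥(zpowers g) := by
  rintro ⟨y, hy⟩
  obtain ⟨k, rfl⟩ := mem_zpowers_iff.mp hy
  refine ⟨1, Subtype.ext ?_⟩
  change (g ^ k) ^ 2 ^ 1 = 1
  rw [← zpow_natCast, ← zpow_mul, mul_comm, zpow_mul, zpow_natCast, pow_one, pow_two, hg, one_zpow]

variable [Finite G] {x a : G} {L : Subgroup G}

omit [Finite G] in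
theorem eq_or_inv_of_card_three {A : Type*} [Group A] {E : Subgroup A} (hE : Nat.card E = 3) {u v : A}
    (hu : u ∈ E) (hv : v ∈ E) (hu1 : u ≠ 1) (hv1 : v ≠ 1) : u = v ∨ u = v⁻¹ := by
  have hp : Fact (Nat.Prime 3) := ⟨Nat.prime_three⟩
  have h1 : zpowers (⟨v, hv⟩ : E) = ⊤ := by
    apply zpowers_eq_top_of_prime_card (p := 3) hE
    intro h
    exact hv1 (congrArg Subtype.val h)
  have h2 : (⟨u, hu⟩ : E) ∈ zpowers (⟨v, hv⟩ : E) := by rw [h1]; trivial
  obtain ⟨k, hk⟩ := mem_zpowers_iff.mp h2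
  have hk' : v ^ k = u := congrArg Subtype.val hk
  have hv3 : v ^ 3 = 1 := by
    have h3 : (⟨v, hv⟩ : E) ^ 3 = 1 := by rw [← hE]; exact pow_card_eq_one'
    exact congrArg Subtype.val h3
  have hz3 : v ^ (3 : ℤ) = 1 := by exact_mod_cast hv3
  have h4 : v ^ k = v ^ (k % 3) := by
    conv_lhs => rw [← Int.emod_add_mul_ediv k 3, zpow_add, zpow_mul, hz3, one_zpow, mul_one]
  have h5 : k % 3 = 0 ∨ k % 3 = 1 ∨ k % 3 = 2 := by omega
  rcases h5 with h5 | h5 | h5
  · rw [h5, zpow_zero] at h4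
    exact absurd (hk'.symm.trans h4) hu1
  · rw [h5, zpow_one] at h4
    exact Or.inl (hk'.symm.trans h4)
  · right
    rw [h5] at h4
    rw [← hk', h4]
    have : v ^ (2 : ℤ) * v = 1 := by
      rw [← zpow_add_one]; exact hz3
    exact eq_inv_of_mul_eq_one_left this

/-- an elementary abelian group of order 8 in `M` -/
theorem KFs.exists_elem (K : KFs.{u}) {M : Subgroup G} (hM : IsL34 (Bar M)) :
    ∃ S : Subgroup G, S ≤ M ∧ Nat.card S = 8 ∧ ∀ s ∈ S, s * s = 1 := by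
  have hp : Fact (Nat.Prime 2) := ⟨Nat.prime_two⟩
  obtain ⟨A, hA, hA2⟩ := K.kE _ hM
  obtain ⟨P, hP⟩ : ∃ P : Subgroup G, P = (A.comap (QuotientGroup.mk' (oddCore ↥M))).map M.subtype := ⟨_, rfl⟩
  have hPM : P ≤ M := by rw [hP]; exact map_subtype_le _
  have hmem : ∀ m (hm : m ∈ M), m ∈ P ↔ (QuotientGroup.mk ⟨m, hm⟩ : Bar M) ∈ A := by
    intro m hm
    rw [hP]
    constructor
    · rintro ⟨m', hm', rfl⟩
      exact hm'
    · intro h
      exact ⟨⟨m, hm⟩, h, rfl⟩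
  have hcard : 2 ^ 3 ∣ Nat.card P := by
    have h1 : Nat.card P = Nat.card (A.comap (QuotientGroup.mk' (oddCore ↥M))) := by
      rw [hP]; exact card_map_of_injective (subtype_injective _)
    rw [h1]
    have h2 : (A.comap (QuotientGroup.mk' (oddCore ↥M))).map (QuotientGroup.mk' (oddCore ↥M)) = A :=
      map_comap_eq_self_of_surjective (QuotientGroup.mk'_surjective _) A
    have h3 := card_map_dvd (A.comap (QuotientGroup.mk' (oddCore ↥M))) (QuotientGroup.mk' (oddCore ↥M))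
    rw [h2, hA] at h3
    exact h3
  obtain ⟨S, hS, -⟩ := exists_isSyl (R₀ := (⊥ : Subgroup G)) (E := P) (IsPGroup.of_bot) bot_le
  have hS8 := hS.dvd_card hcard
  have hSP := hS.le
  -- squares are trivial
  have hsq : ∀ s ∈ S, s * s = 1 := by
    intro s hs
    have hsM := hPM (hSP hs)
    have h1 := hA2 _ ((hmem s hsM).mp (hSP hs))
    have h2 : (QuotientGroup.mk ⟨s * s, mul_mem hsM hsM⟩ : Bar M) = 1 := h1
    rw [mk_eq_one_iff] at h2
    obtain ⟨n, hn⟩ := hS.two ⟨s * s, mul_mem hs hs⟩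
    exact eq_one_of_mem_core h2 (congrArg Subtype.val hn)
  refine ⟨S, hSP.trans hPM, ?_, hsq⟩
  refine le_antisymm ?_ (Nat.le_of_dvd Nat.card_pos hS8)
  rw [← hA]
  have hfin : Finite A := Nat.finite_of_card_ne_zero (by rw [hA]; norm_num)
  refine Nat.card_le_card_of_injective (fun s : S => (⟨QuotientGroup.mk ⟨s, hPM (hSP s.2)⟩,
    (hmem _ _).mp (hSP s.2)⟩ : A)) ?_
  intro s s' h
  have h1 : (QuotientGroup.mk ⟨(s : G), hPM (hSP s.2)⟩ : Bar M) = QuotientGroup.mk ⟨s', hPM (hSP s'.2)⟩ :=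
    congrArg Subtype.val h
  rw [mk_eq_iff] at h1
  have h2 : (s : G)⁻¹ * s' ∈ S := mul_mem (inv_mem s.2) s'.2
  have h3 := eq_one_of_mem_core_sq h1 (hsq _ h2)
  exact Subtype.ext (inv_mul_eq_one.mp h3)

/-- a 2-group of `N` has the same order modulo the core -/
theorem card_img {N S : Subgroup G} (hSN : S ≤ N) (hsq : ∀ s ∈ S, s * s = 1) :
    Nat.card ((S.subgroupOf N).map (QuotientGroup.mk' (oddCore ↥N))) = Nat.card S := by
  rw [← Nat.card_congr (subgroupOfEquivOfLe hSN).toEquiv]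
  symm
  refine Nat.card_congr (Equiv.ofBijective (fun s : S.subgroupOf N =>
    (⟨QuotientGroup.mk' (oddCore ↥N) s, ⟨s, s.2, rfl⟩⟩ :
      (S.subgroupOf N).map (QuotientGroup.mk' (oddCore ↥N)))) ⟨?_, ?_⟩)
  · intro s s' h
    have h1 : (QuotientGroup.mk (⟨(s : ↥N), (s : ↥N).2⟩ : ↥N) : Bar N) = QuotientGroup.mk ⟨(s' : ↥N), (s' : ↥N).2⟩ :=
      congrArg Subtype.val h
    rw [mk_eq_iff] at h1
    have h2 : ((s : ↥N) : G)⁻¹ * ((s' : ↥N) : G) ∈ S := mul_mem (inv_mem s.2) s'.2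
    have h3 := eq_one_of_mem_core_sq h1 (hsq _ h2)
    exact Subtype.ext (Subtype.ext (inv_mul_eq_one.mp h3))
  · rintro ⟨_, s, hs, rfl⟩
    exact ⟨⟨s, hs⟩, rfl⟩

/-- `O(C(x)) ∩ C(a) ∩ C(c)` acts on `L / O(L)` as `O(C(x))`: two independent elements. -/
theorem KFs.exists_indep (K : KFs.{u}) (T : TT x a L) {c : G} (hc : orderOf c = 2) (hca : c * a = a * c)
    (hcx : c * x = x * c) (hcL : Fixes c L) : ∃ d e : G,
      (d ∈ core (centralizer ({x} : Set G)) ∧ d * a = a * d ∧ d * c = c * d) ∧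
      (e ∈ core (centralizer ({x} : Set G)) ∧ e * a = a * e ∧ e * c = c * e) ∧
      ¬ Fixes d L ∧ ¬ Fixes e L ∧ ¬ Fixes (d * e) L ∧ ¬ Fixes (d * e⁻¹) L := by
  obtain ⟨F, F3⟩ := K.ft T
  obtain ⟨d₀, hd₀, hda₀, hdc₀, hf₀⟩ := T.exists_bad hc hca hcx hcL
  have hc2 := sq_of_order hc
  have hx2 := sq_of_order T.invx
  have ha2 := sq_of_order T.inva
  obtain ⟨ξ, hξ⟩ : ∃ ξ, ξ = act L ⟨x, T.x_mem⟩ := ⟨_, rfl⟩
  rw [← hξ] at F F3
  -- the group `E`
  obtain ⟨N, hN⟩ : ∃ N, N = core (centralizer ({x} : Set G)) ⊓ centralizer ({a} : Set G) ⊓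
    centralizer ({c} : Set G) := ⟨_, rfl⟩
  have hNm : ∀ d, d ∈ N ↔ d ∈ core (centralizer ({x} : Set G)) ∧ d * a = a * d ∧ d * c = c * d := by
    intro d
    rw [hN, mem_inf, mem_inf]
    exact ⟨fun h => ⟨h.1.1, comm_c h.1.2, comm_c h.2⟩, fun h => ⟨⟨h.1, mem_c h.2.1⟩, mem_c h.2.2⟩⟩
  have hNL : N ≤ normalizer (L : Set G) := by
    intro d hd
    have h := (hNm d).mp hd
    exact T.mem_normalizer_of_core h.1 (mem_c h.2.1)
  obtain ⟨y₀, hy₀, hy3, hyx⟩ := F.core _ (hξ ▸ oddC' T.toIsTriple) _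
    (mem_img.mpr ⟨d₀, hNL ((hNm d₀).mpr ⟨hd₀, comm_c hda₀, comm_c hdc₀⟩), hd₀, comm_c hda₀, rfl⟩)
  have hy1 : y₀ ≠ 1 := by
    rintro rfl
    rw [map_one, act_eq_one_iff] at hy₀
    exact hf₀ hy₀
  -- elements of `C_{L/O(L)}(x)` lift to `C_L(x) ∩ C(c)`
  have hlift : ∀ r : Bar L, ξ r = r → ∃ m, ∃ hm : m ∈ L, m * x = x * m ∧ m * c = c * m ∧
      QuotientGroup.mk ⟨m, hm⟩ = r := by
    intro r hr
    obtain ⟨⟨m, hm⟩, rfl⟩ := QuotientGroup.mk_surjective r
    have hP : IsPGroup 2 ↥(zpowers x ⊔ zpowers c) := by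
      refine Tri.isPGroup_sup_zpowers (isPGroup_of_sq hx2) ?_ (n := 1) ?_
      · rw [mem_normalizer_iff_cj, cj, MonoidHom.map_zpowers]
        have : (MulAut.conj c).toMonoidHom x = x := by
          simp only [MulEquiv.coe_toMonoidHom, MulAut.conj_apply]
          rw [hcx, mul_inv_cancel_right]
        rw [this]
      · rw [pow_one, pow_two, hc2]
    have hfix : ∀ g ∈ zpowers x ⊔ zpowers c, g ∈ normalizer (L : Set G) ∧ m⁻¹ * (g * m * g⁻¹) ∈ core L := by
      obtain ⟨Q, hQ⟩ : ∃ Q : Subgroup G, ∀ g, g ∈ Q ↔ g ∈ normalizer (L : Set G) ∧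
          m⁻¹ * (g * m * g⁻¹) ∈ core L := by
        refine ⟨{ carrier := {g | g ∈ normalizer (L : Set G) ∧ m⁻¹ * (g * m * g⁻¹) ∈ core L}
                  mul_mem' := ?_
                  one_mem' := ⟨one_mem _, by simp⟩
                  inv_mem' := ?_ }, fun g => Iff.rfl⟩
        · rintro g h ⟨h1, h2⟩ ⟨h3, h4⟩
          refine ⟨mul_mem h1 h3, ?_⟩
          have h5 := conj_mem_core (x := g) h1 h4
          have h6 := mul_mem h2 h5
          convert h6 using 1
          group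
        · rintro g ⟨h1, h2⟩
          refine ⟨inv_mem h1, ?_⟩
          have h5 := conj_mem_core (x := g⁻¹) (inv_mem h1) (inv_mem h2)
          convert h5 using 1
          group
      have hx : x ∈ Q := by
        refine (hQ x).mpr ⟨T.x_mem, ?_⟩
        rw [hξ, act_mk T.x_mem hm] at hr
        exact (mk_eq_iff hm (conj_mem T.x_mem hm)).mp hr.symm
      have hcQ : c ∈ Q := by
        refine (hQ c).mpr ⟨hcL.1, ?_⟩
        exact (fixes_iff_conj.mp hcL).2 m hm
      have hle : zpowers x ⊔ zpowers c ≤ Q := sup_le (zpowers_le.mpr hx) (zpowers_le.mpr hcQ)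
      exact fun g hg => (hQ g).mp (hle hg)
    obtain ⟨o, ho, hco⟩ := Intrinsic.Lifting.exists_commute_group (odd_card_core L) hP
      (fun g hg => normalizer_le_normalizer_core L (hfix g hg).1) (fun g hg => (hfix g hg).2)
    refine ⟨m * o, mul_mem hm (core_le L ho), (hco x (mem_sup_left (mem_zpowers x))).symm,
      (hco c (mem_sup_right (mem_zpowers c))).symm, ?_⟩
    rw [mk_eq_iff]
    have : (m * o)⁻¹ * m = o⁻¹ := by group
    rw [this]
    exact inv_mem ho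
  -- `E` contains `conj Y`
  obtain ⟨E, hE⟩ : ∃ E : Subgroup (Bar L), ∀ y, y ∈ E ↔ ∃ d, ∃ hd : d ∈ N, act L ⟨d, hNL hd⟩ = MulAut.conj y := by
    refine ⟨((N.subgroupOf (normalizer (L : Set G))).map (act L)).comap MulAut.conj, fun y => ?_⟩
    rw [mem_comap]
    constructor
    · rintro ⟨⟨d, hd'⟩, hd, h⟩
      exact ⟨d, hd, h⟩
    · rintro ⟨d, hd, h⟩
      exact ⟨⟨d, hNL hd⟩, hd, h⟩
  have hE0 : ∀ r, ξ r = r → r * y₀ * r⁻¹ ∈ E := by
    intro r hr
    obtain ⟨m, hm, hmx, hmc, rfl⟩ := hlift r hr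
    have hma : m * a = a * m := comm_c (T.comp.le hm)
    have c1 : Commute m a := hma
    have c2 : Commute m c := hmc
    have hmN : m * d₀ * m⁻¹ ∈ N := by
      refine (hNm _).mpr ⟨conj_core (mem_c hmx) hd₀, ?_, ?_⟩
      · exact ((c1.mul_left (show Commute d₀ a from comm_c hda₀)).mul_left c1.inv_left).eq
      · exact ((c2.mul_left (show Commute d₀ c from comm_c hdc₀)).mul_left c2.inv_left).eq
    refine (hE _).mpr ⟨_, hmN, ?_⟩
    rw [map_mul, map_mul, map_inv, ← hy₀, ← act_of_mem hm, ← act_mul, ← act_inv, ← act_mul]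
  have hEY : ∀ z : Bar L, z ^ 3 = 1 → ξ z = z → z ∈ E := by
    intro z hz3 hzx
    have h1 := F.irr y₀ z hy3 hy1 hyx hz3 hzx
    have h2 : closure {w : Bar L | ∃ r, ξ r = r ∧ w = r * y₀ * r⁻¹} ≤ E := by
      rw [closure_le]
      rintro _ ⟨r, hr, rfl⟩
      exact hE0 r hr
    exact h2 h1
  obtain ⟨y, z, hy, hyx', hz, hzx', hy', hz', hyz, hyz'⟩ := F.indep
  obtain ⟨d, hd, hdy⟩ := (hE y).mp (hEY y hy hyx')
  obtain ⟨e, he, hez⟩ := (hE z).mp (hEY z hz hzx')
  have hinj : ∀ w : Bar L, MulAut.conj w = (1 : MulAut (Bar L)) → w = 1 := F.cl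
  refine ⟨d, e, (hNm d).mp hd, (hNm e).mp he, fun h => hy' ?_, fun h => hz' ?_, fun h => hyz' ?_,
    fun h => hyz ?_⟩
  · exact hinj y (hdy ▸ (act_eq_one_iff _).mpr h)
  · exact hinj z (hez ▸ (act_eq_one_iff _).mpr h)
  · have h1 := (act_eq_one_iff (mul_mem (hNL hd) (hNL he))).mpr h
    rw [act_mul (hNL hd) (hNL he), hdy, hez, ← map_mul] at h1
    exact eq_inv_of_mul_eq_one_left (hinj _ h1)
  · have h1 := (act_eq_one_iff (mul_mem (hNL hd) (inv_mem (hNL he)))).mpr h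
    rw [act_mul (hNL hd) (inv_mem (hNL he)), act_inv (hNL he), hdy, hez, ← map_inv, ← map_mul] at h1
    exact mul_inv_eq_one.mp (hinj _ h1)

/-- **The pump-up of a triple of type `L₃(4)`.** -/
theorem pump34 (K : KFs.{u}) (W : Typ G) (T : IsTriple x a L) (h34 : IsL34 (Bar L)) {c : G}
    (hc : orderOf c = 2) (hca : c * a = a * c) (hcx : c * x = x * c) (hcL : Fixes c L) :
    ∃ N, IsTriple x c N ∧ IsL34 (Bar N) ∧
      ((a ∈ normalizer (N : Set G) ∧ cen L c ≤ N ∧ cen L c ⊔ core N = N) ∨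
        (IntrinsicBasic.cj a N ≠ N ∧ cen L c = diag (centralizer ({c} : Set G)) N a)) := by
  have hc2 := sq_of_order hc
  have ha2 := sq_of_order T.inva
  obtain ⟨N, hN, hor⟩ := T.pump hc hca hcx hcL
  obtain ⟨h1, h3⟩ := isComp_cen T.comp (mem_c hca) hc2 hcL
  obtain ⟨e₁, -⟩ := exists_quotEquiv h3
  have hM34 : IsL34 (Bar (cen L c)) := isL34_congr e₁.symm h34
  have hZ := K.center W hN
  rcases hor with ⟨haN, hle⟩ | ⟨hne, hdiag⟩
  · -- trivial or wrong type
    have hinf : cen L c ⊓ core N ≤ core (cen L c) := by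
      refine le_core inf_le_left ?_ (Odd.of_dvd_nat (odd_card_core N) (card_dvd_of_le inf_le_right))
      intro m hm
      have h5 : m ∈ normalizer (core N : Set G) := le_normalizer_core N (hle hm)
      have h6 : m ∈ normalizer (cen L c : Set G) := le_normalizer hm
      rw [mem_normalizer_iff_cj] at h5 h6 ⊢
      rw [cj_inf, h5, h6]
    rcases W hN with h | h | h
    · -- `L₂(q)`
      exfalso
      obtain ⟨S, hS, hS8, hSq⟩ := K.exists_elem hM34
      have h5 := K.k2.rank _ h ((S.subgroupOf N).map (QuotientGroup.mk' (oddCore ↥N))) (by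
        rintro _ ⟨s, hs, rfl⟩
        rw [← map_mul]
        have : s * s = 1 := Subtype.ext (hSq s hs)
        rw [this, map_one])
      rw [card_img (hS.trans hle) hSq, hS8] at h5
      omega
    · -- `Aₙ`
      exfalso
      obtain ⟨d, e, ⟨hd, hda, hdc⟩, ⟨he, hea, hec⟩, f1, f2, f3, f4⟩ :=
        K.exists_indep ⟨T, h34⟩ hc hca hcx hcL
      have h1' := h1
      rw [inf_comm] at h1'
      have hfix : ∀ g, g * a = a * g → g * c = c * g → g ∈ normalizer (L : Set G) → Fixes g N → Fixes g L := by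
        intro g hga hgc hgL hf
        have h5 := fixes_of_pump ha2 hca h1' hN.comp (mem_c hgc) (mem_c hga) hf (Or.inl hle)
        exact (fixes_iff_of_sup h3 h5.1 hgL).mp h5
      have hdL := T.mem_normalizer_of_core hd (mem_c hda)
      have heL := T.mem_normalizer_of_core he (mem_c hea)
      have hdN := hN.mem_normalizer_of_core hd (mem_c hdc)
      have heN := hN.mem_normalizer_of_core he (mem_c hec)
      obtain ⟨hE3, -⟩ := K.kA _ h _ (Res.KFacts.act_sq hN) _ (oddC' hN) (img_ne hN)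
      have m1 : act N ⟨d, hdN⟩ ∈ img x c N := mem_img.mpr ⟨d, hdN, hd, hdc, rfl⟩
      have m2 : act N ⟨e, heN⟩ ∈ img x c N := mem_img.mpr ⟨e, heN, he, hec, rfl⟩
      have n1 : act N ⟨d, hdN⟩ ≠ 1 := fun h => f1 (hfix d hda hdc hdL ((act_eq_one_iff _).mp h))
      have n2 : act N ⟨e, heN⟩ ≠ 1 := fun h => f2 (hfix e hea hec heL ((act_eq_one_iff _).mp h))
      have hcases := eq_or_inv_of_card_three hE3 m1 m2 n1 n2
      have ca : Commute d a := hda
      have cc : Commute d c := hdc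
      have da : Commute e a := hea
      have dc : Commute e c := hec
      rcases hcases with h5 | h5
      · apply f4
        refine hfix _ (ca.mul_left da.inv_left).eq (cc.mul_left dc.inv_left).eq
          (mul_mem hdL (inv_mem heL)) ?_
        rw [← act_eq_one_iff (mul_mem hdN (inv_mem heN)), act_mul hdN (inv_mem heN), act_inv heN, h5,
          mul_inv_cancel]
      · apply f3
        refine hfix _ (ca.mul_left da).eq (cc.mul_left dc).eq (mul_mem hdL heL) ?_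
        rw [← act_eq_one_iff (mul_mem hdN heN), act_mul hdN heN, h5, inv_mul_cancel]
    · -- `L₃(4)`
      refine ⟨N, hN, h, Or.inl ⟨haN, hle, ?_⟩⟩
      apply sup_of_exists hle
      -- counting
      let f : ↥(cen L c) →* Bar N := (QuotientGroup.mk' (oddCore ↥N)).comp (inclusion hle)
      have hker : f.ker ≤ oddCore ↥(cen L c) := by
        intro m hm
        have h5 : (QuotientGroup.mk ⟨(m : G), hle m.2⟩ : Bar N) = 1 := hm
        have h6 := hinf ⟨m.2, (mk_eq_one_iff _).mp h5⟩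
        obtain ⟨m', hm', h7⟩ := h6
        rwa [← Subtype.ext h7]
      have hidx : Nat.card (Bar (cen L c)) ≤ Nat.card f.range := by
        have h5 : (oddCore ↥(cen L c)).index ≤ f.ker.index :=
          Nat.le_of_dvd (Nat.pos_of_ne_zero Subgroup.index_ne_zero_of_finite) (Subgroup.index_dvd_of_le hker)
        rw [Subgroup.index_ker] at h5
        exact h5
      have htop : f.range = ⊤ := by
        apply Subgroup.eq_top_of_le_card
        rw [card_l34 h hM34]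
        exact hidx
      intro y hy
      have h5 : (QuotientGroup.mk ⟨y, hy⟩ : Bar N) ∈ f.range := by rw [htop]; trivial
      obtain ⟨m, hm⟩ := h5
      have h6 : (QuotientGroup.mk ⟨(m : G), hle m.2⟩ : Bar N) = QuotientGroup.mk ⟨y, hy⟩ := hm
      exact ⟨m, m.2, (mk_eq_iff _ _).mp h6⟩
  · refine ⟨N, hN, ?_, Or.inr ⟨hne, hdiag⟩⟩
    obtain ⟨-, -, -, -, f, hfs, hfk, -⟩ := exists_diag hN.comp (mem_c hca.symm) ha2 hne
    have hinj : Function.Injective f := by
      rw [← MonoidHom.ker_eq_bot_iff, eq_bot_iff]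
      intro z hz
      exact hZ z fun d => (mem_center_iff.mp (hfk hz) d).symm
    rw [hdiag] at hM34
    exact isL34_congr (MulEquiv.ofBijective f ⟨hinj, hfs⟩).symm hM34

end Cfsg.Agent.UGT.N2S

private theorem dce_3ad11bb58901 : _root_.True := by
  try have : _root_.True := by simp only [_root_.Cfsg.Agent.SignalizersComponents.IntrinsicBasic.cj.eq_1]
  exact _root_.True.intro
end

-- part: UGT/N2S/KF2
section
set_option linter.all false
open scoped Cfsg.Agent.FastGrp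

/-!
# The K-facts `K2` on `L₂(q)`
-/

set_option autoImplicit false

open Cfsg Subgroup
open Cfsg.Agent.GH.L2Aut Cfsg.Agent.Lib.SL2Mat
open Cfsg.Agent.UGT.Iface (IsL2)
open Cfsg.Agent.UGT.LTF.KF2
open Cfsg.Agent.UGT.LTF.Defs (OddC)

namespace Cfsg.Agent.UGT.N2S

universe u

section rep

variable {F : Type*} [Field F] [Finite F] {L : Type*} [Group L] (R : Cfsg.Agent.GH.L2Aut.Rep F L)

/-- in characteristic 3, elements of order 3 are not centralized by an involution of `PGL` -/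
theorem eq_one_of_three (h3 : (3 : F) = 0) {g : GL (Fin 2) F} (htr : g.1.trace = 0)
    (hs : ∀ c : F, g.1 ≠ c • (1 : Matrix (Fin 2) (Fin 2) F)) {b : L} (hb : b ^ 3 = 1) (hbT : b ∈ Tor R g) :
    b = 1 := by
  obtain ⟨r, hr⟩ := IsAlgClosed.exists_pow_nat_eq (- algebraMap F (AlgebraicClosure F) g.1.det) (n := 2) (by norm_num)
  rw [sq] at hr
  obtain ⟨t, h1, h2⟩ := hbT
  obtain ⟨ρ, hρ⟩ := wt_exists R htr hs hr h1 h2
  have h4 := wt_mul R htr hr (wt_mul R htr hr hρ hρ) hρ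
  have h5 : b * b * b = 1 := by rw [← hb, pow_succ, pow_two]
  rw [h5] at h4
  have h6 : ρ * ρ * ρ = 1 := wt_unique R hs h4 (wt_one R)
  have h7 : (3 : AlgebraicClosure F) = 0 := by
    rw [← map_ofNat (algebraMap F (AlgebraicClosure F)) 3, h3, map_zero]
  have h8 : (ρ - 1) ^ 3 = 0 := by
    linear_combination h6 + (- ρ * ρ + ρ) * h7
  have h9 : ρ = 1 := sub_eq_zero.1 (pow_eq_zero_iff (by norm_num) |>.1 h8)
  rw [h9] at hρ
  exact eq_one_of_wt R hr hρ

include R in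
theorem cent {ξ : MulAut L} (hF : 3 < Nat.card F) (hξ : ξ * ξ = 1) {E : Subgroup (MulAut L)} (hE : OddC ξ E) {b : L}
    (hb3 : b ^ 3 = 1) (hb1 : b ≠ 1) (hbE : MulAut.conj b ∈ E) {ω : MulAut L} (hω : ω * ω = 1)
    (hc : ω * ξ = ξ * ω) (hωb : ω b = b) : ω = 1 ∨ ω = ξ ∨
      ∃ M : Subgroup L, (∀ m ∈ M, ω m = m) ∧ (∀ l, ω l = l → ∀ m ∈ M, l * m * l⁻¹ ∈ M) ∧
        IsSimpleGroup M ∧ 2 ∣ Nat.card M ∧ (∃ m ∈ M, ∃ m' ∈ M, m * m' ≠ m' * m) ∧ b ∈ M := by
  have hfin : Finite L := R.finite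
  have hbo : Odd (orderOf b) := by
    have h1 := orderOf_dvd_of_pow_eq_one hb3
    exact Odd.of_dvd_nat (by decide) h1
  -- the group `E₀ = {e | conj e ∈ E}`
  obtain ⟨E₀, hE₀⟩ : ∃ E₀, E₀ = E.comap (MulAut.conj : L →* MulAut L) := ⟨_, rfl⟩
  have hE₀odd : Odd (Nat.card E₀) := by
    have h1 : Nat.card ↥(E₀.map (MulAut.conj : L →* MulAut L)) = Nat.card E₀ :=
      Subgroup.card_map_of_injective R.conj_injective
    rw [← h1, hE₀]
    exact Odd.of_dvd_nat hE.odd (Subgroup.card_dvd_of_le (Subgroup.map_comap_le _ _))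
  have hE₀c : ∀ e ∈ E₀, ξ e = e := by
    intro e he
    rw [hE₀] at he
    have h1 := hE.com _ he
    apply R.conj_injective
    have h2 : MulAut.conj (ξ e) = ξ * MulAut.conj e * ξ⁻¹ := by
      ext l
      simp [MulAut.mul_apply]
    rw [h2, ← h1, mul_inv_cancel_right]
  have hE₀n : ∀ l, ξ l = l → ∀ e ∈ E₀, l * e * l⁻¹ ∈ E₀ := by
    intro l hl e he
    rw [hE₀] at he ⊢
    have h1 := hE.nor l hl _ he
    rw [mem_comap, map_mul, map_mul, map_inv]
    exact h1
  have hbE₀ : b ∈ E₀ := by rw [hE₀]; exact hbE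
  have hξ1 : ξ ≠ 1 := by
    rintro rfl
    have hN : E₀.Normal := ⟨fun e he g => hE₀n g rfl e he⟩
    have h1 := Cfsg.Agent.UGT.Res.L2Fact.odd_normal R hF.le hN hE₀odd
    rw [h1, mem_bot] at hbE₀
    exact hb1 hbE₀
  have hξf : R.fld ξ = 1 := by
    by_contra hf
    have h1 := field_bot R hξ hf hE₀odd hE₀c hE₀n
    rw [h1, mem_bot] at hbE₀
    exact hb1 hbE₀
  have hξb : ξ b = b := hE₀c b hbE₀
  by_cases hω1 : ω = 1
  · exact Or.inl hω1
  by_cases hf : R.fld ω = 1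
  · right; left
    exact Cfsg.Agent.UGT.Res.L2Fact.pgl_eq_of_fix R (R.mem_PGL_iff_fld.2 hξf) hξ1 hξ
      (R.mem_PGL_iff_fld.2 hf) hω1 hω hb1 hbo hξb hωb
  right; right
  have hσ2 : R.fld ω * R.fld ω = 1 := by rw [← map_mul, hω, map_one]
  have ho : orderOf (R.fld ω) = 2 := by
    apply orderOf_eq_prime
    · rw [sq, hσ2]
    · exact hf
  obtain ⟨g, hg⟩ := R.mem_PGL.1 (R.mem_PGL_iff_fld.2 hξf)
  have hg1 : R.gl g ≠ 1 := fun h => hξ1 (by rw [hg, h])
  have hT : b ∈ Tor R g := by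
    have h1 : zpowers b ≤ Tor R g := by
      apply le_tor R
      · rwa [Nat.card_zpowers]
      · intro e he
        obtain ⟨k, rfl⟩ := mem_zpowers_iff.1 he
        rw [← hg, map_zpow, hξb]
    exact h1 (mem_zpowers b)
  have h30 : (3 : F) ≠ 0 := by
    intro h3
    apply hb1
    refine eq_one_of_three R h3 (R.tr_of_inv hg1 (by rw [← hg]; exact hξ)) (R.not_scalar_of_ne hg1) hb3 hT
  obtain ⟨R', -, -, hR⟩ := R.exists_rep ω (by rw [ho, sq, hω])
  generalize R.fld ω = σ at hf hσ2 ho hR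
  subst hR
  obtain ⟨K, hK, hcard⟩ := exists_fixed_field σ
  obtain ⟨w, hw, hws, hcov⟩ := R'.exists_outer (ho ▸ even_two) hK hcard
  have hK2 : Odd (Nat.card K) := by
    have h1 := odd_card R'.two
    rw [hcard] at h1
    exact (Nat.odd_pow_iff (by rw [ho]; norm_num)).1 h1
  have hK1 : 1 < Nat.card K := Finite.one_lt_card
  have hK3 : 3 < Nat.card K := by
    obtain ⟨k, hk⟩ := hK2
    rcases Nat.lt_or_ge 3 (Nat.card K) with h | h
    · exact h
    · exfalso
      have h4 : Nat.card K = 3 := by omega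
      rw [h4, ho] at hcard
      apply h30
      have := Fintype.ofFinite F
      have h5 : ((Nat.card F : ℕ) : F) = 0 := by
        rw [Nat.card_eq_fintype_card]
        exact FiniteField.cast_card_eq_zero F
      rw [hcard] at h5
      have h6 : (3 : F) * 3 = 0 := by
        have h7 : (((3 ^ 2 : ℕ)) : F) = 3 * 3 := by push_cast; ring
        rw [← h7]; exact h5
      rcases mul_eq_zero.1 h6 with h | h <;> exact h
  refine ⟨R'.sub K, R'.sub_le_fix hK, ?_, A9.LTwo.simple_rep (R'.subRep K) hK3,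
    A9.LTwo.two_dvd_rep (R'.subRep K), ?_, ?_⟩
  · intro l hl m hm
    exact Cfsg.Agent.UGT.Res.L2Fact.sub_normal R' (ho ▸ even_two) hK hcard hl hm
  · by_contra hcon
    push Not at hcon
    have h1 : center ↥(R'.sub K) = ⊤ := by
      rw [eq_top_iff]
      rintro ⟨m, hm⟩ -
      rw [Subgroup.mem_center_iff]
      rintro ⟨m', hm'⟩
      exact Subtype.ext (hcon m' hm' m hm)
    rw [(R'.subRep K).center_eq_bot] at h1
    have h2 := A9.LTwo.two_dvd_rep (R'.subRep K)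
    have h3 : Nat.card ↥(R'.sub K) = 1 := by
      have h4 : Nat.card ↥(⊤ : Subgroup ↥(R'.sub K)) = 1 := by rw [← h1, Subgroup.card_bot]
      rwa [Subgroup.card_top] at h4
    omega
  · apply mem_of_sq hbo
    by_cases h : b ∈ R'.sub K
    · exact mul_mem h h
    · have h1 := hcov b hωb h
      have h2 := hcov b⁻¹ ((fixSub (R'.fa σ)).inv_mem hωb) (fun h3 => h (inv_mem_iff.1 h3))
      have h3 := mul_mem (inv_mem h2) h1
      have h4 : (w * b⁻¹)⁻¹ * (w * b) = b * b := by group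
      rwa [h4] at h3

include R in
theorem out {α β : MulAut L} (hβ : Odd (orderOf β)) (hab : α * β * α⁻¹ = β⁻¹) :
    ∃ l, β = MulAut.conj l := by
  have h1 : R.fld β = 1 := by
    have h2 : R.fld β * R.fld β = 1 := by
      have h3 := congrArg R.fld hab
      rw [map_mul, map_mul, map_inv, map_inv] at h3
      have h4 : R.fld α * R.fld β = R.fld β * R.fld α := Cfsg.Agent.Lib.AutSL2Out.ringEquiv_comm _ _
      rw [h4, mul_inv_cancel_right] at h3
      exact mul_eq_one_iff_eq_inv.2 h3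
    have h5 : R.fld β ∈ (⊥ : Subgroup (F ≃+* F)) :=
      mem_of_sq (Odd.of_dvd_nat hβ (orderOf_map_dvd _ _)) (by rw [h2]; exact one_mem _)
    exact mem_bot.1 h5
  have h2 : R.o1 β = 1 := by
    have h5 : R.o1 β ∈ (⊥ : Subgroup ℤˣ) :=
      mem_of_sq (Odd.of_dvd_nat hβ (orderOf_map_dvd _ _)) (by
        rw [Int.units_mul_self]; exact one_mem _)
    exact mem_bot.1 h5
  obtain ⟨l, hl⟩ := R.mem_inn_iff.2 ⟨h1, h2⟩
  exact ⟨l, hl.symm⟩

include R in
theorem rank {A : Subgroup L} (hA : ∀ a ∈ A, a * a = 1) : Nat.card A ≤ 4 := by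
  have h1 := A9.LTwo.card_inn_le R (A := A.map (MulAut.conj : L →* MulAut L)) ?_ ?_
  · rwa [Subgroup.card_map_of_injective R.conj_injective] at h1
  · rintro _ ⟨a, -, rfl⟩
    exact ⟨a, rfl⟩
  · rintro _ ⟨a, ha, rfl⟩
    rw [← map_mul, hA a ha, map_one]

end rep

/-- **`K2`** -/
theorem k2 : K2.{u} where
  cen D _ hD := (kf2 D hD).1
  rank := by
    rintro D _ ⟨F, _, _, hodd, -, ⟨e⟩⟩ A hA
    exact rank (Rep.ofEquiv (two_ne_zero_of_odd hodd) e) hA
  out := by
    rintro D _ ⟨F, _, _, hodd, -, ⟨e⟩⟩ α β hβ hab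
    exact out (Rep.ofEquiv (two_ne_zero_of_odd hodd) e)
      (Odd.of_dvd_nat (by decide) (orderOf_dvd_of_pow_eq_one hβ)) hab
  cent := by
    rintro D _ ⟨F, _, _, hodd, h5, ⟨e⟩⟩ ξ hξ E hE b hb3 hb1 hbE ω hω hc hωb
    refine cent (Rep.ofEquiv (two_ne_zero_of_odd hodd) e) ?_ hξ hE hb3 hb1 hbE hω hc hωb
    rw [Nat.card_eq_fintype_card]
    omega

end Cfsg.Agent.UGT.N2S
end

-- part: UGT/N2S/FMov
section
set_option linter.all false
open scoped Cfsg.Agent.FastGrp

/-!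
# `z` any involution, `L` a 2-component of `C(z)` of type `L₃(4)`, `B ≤ L` elementary abelian of order 16

`Hy.le_normalizer`: if `z` and `B` lie in `X`, `J` is a 2-component of `X` with `J / O(J)` centreless and `z`
normalizes `J`, then `B` normalizes `J`.
-/

set_option autoImplicit false

open Cfsg Subgroup
open Cfsg.Agent.SignalizersComponents Cfsg.Agent.Lib
open Cfsg.Agent.SignalizersComponents.IntrinsicBasic
open Cfsg.Agent.SignalizersComponents.PLayerAut
open Cfsg.Agent.Intrinsic.Basic Cfsg.Agent.Intrinsic.Cen Cfsg.Agent.Intrinsic.Diag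
open Cfsg.Agent.McLLyComp.Act
open Cfsg.Agent.UGT.Triple Cfsg.Agent.UGT.TriBase
open Cfsg.Agent.UGT.Iface (Bar)
open scoped commutatorElement

namespace Cfsg.Agent.UGT.N2S.FMov

universe u

variable {G : Type u} [Group G]

/-- `K / O(K)` has trivial centre -/
def CL (K : Subgroup G) : Prop := ∀ ζ : Bar K, (∀ d, ζ * d = d * ζ) → ζ = 1

theorem CL.mem_core {K : Subgroup G} (h : CL K) {k : G} (hk : k ∈ K) (hf : Fixes k K) : k ∈ core K := by
  rw [← mk_eq_one_iff hk]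
  apply h
  intro d
  obtain ⟨⟨y, hy⟩, rfl⟩ := QuotientGroup.mk_surjective d
  have h1 := (act_eq_one_iff hf.1).mpr hf
  have h2 := DFunLike.congr_fun (act_of_mem hk) (QuotientGroup.mk ⟨y, hy⟩)
  have h3 : act K ⟨k, le_normalizer hk⟩ = 1 := h1
  rw [h3, MulAut.one_apply, MulAut.conj_apply] at h2
  exact (eq_mul_inv_iff_mul_eq.mp h2).symm

variable [Finite G]

theorem cl_diag {X K : Subgroup G} {v : G} (hK : IsComp X K) (hvX : v ∈ X) (hv : v * v = 1)
    (hne : cj v K ≠ K) (h : CL K) : CL (diag X K v) := by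
  obtain ⟨-, -, -, -, f, hf, hk, -⟩ := exists_diag hK hvX hv hne
  have hinj : Function.Injective f := by
    rw [← MonoidHom.ker_eq_bot_iff, eq_bot_iff]
    intro y hy
    rw [mem_bot]
    exact h y fun d => ((mem_center_iff.mp (hk hy)) d).symm
  intro ζ hζ
  obtain ⟨y, rfl⟩ := hf ζ
  rw [h y fun d => hinj (by rw [map_mul, map_mul]; exact hζ _), map_one]

/-- an element of `X` commuting with an involution of `K` normalizes `K` -/
theorem mem_normalizer_of_commute {X K : Subgroup G} (hK : IsComp X K) (h : CL K) {w u : G} (hw : w ∈ X)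
    (hu : u ∈ K) (huu : u * u = 1) (hu1 : u ≠ 1) (hc : w * u = u * w) : w ∈ normalizer (K : Set G) := by
  rw [mem_normalizer_iff_cj]
  by_contra hne
  have hK' := isComp_cj_of_mem hK hw
  have h1 : u ∈ cj w K := by
    rw [mem_cj]
    have : w⁻¹ * u * w = u := by rw [mul_assoc, ← hc, inv_mul_cancel_left]
    rwa [this]
  exact hu1 (eq_one_of_mem_core_sq (h.mem_core hu (hK.fixes_of_mem hK' (Ne.symm hne) h1)) huu)

/-- a 2-group acting on a group of even order centralizes an involution -/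
theorem exists_inv_comm {Q J : Subgroup G} (hQ : IsPGroup 2 ↥Q) (hQJ : Q ≤ normalizer (J : Set G))
    (h2 : 2 ∣ Nat.card ↥J) : ∃ e ∈ J, orderOf e = 2 ∧ ∀ s ∈ Q, s * e = e * s := by
  have hp : Fact (Nat.Prime 2) := ⟨Nat.prime_two⟩
  obtain ⟨T, hT, hQT⟩ := exists_isSyl (E := Q ⊔ J) hQ le_sup_left
  have hn : Q ⊔ J ≤ normalizer (J : Set G) := sup_le hQJ le_normalizer
  have h3 := hT.inf (L := J) le_sup_right hn
  have hne : T ⊓ J ≠ ⊥ := by
    intro h
    have h4 := h3.dvd_card (k := 1) (by rwa [pow_one])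
    rw [h, card_bot] at h4
    norm_num at h4
  have hTn : T ≤ normalizer ((T ⊓ J : Subgroup G) : Set G) := by
    intro t ht
    have h5 := mem_normalizer_iff.mp (hn (hT.le ht))
    rw [mem_normalizer_iff]
    intro y
    refine ⟨fun hy => ⟨T.mul_mem (T.mul_mem ht hy.1) (T.inv_mem ht), (h5 y).mp hy.2⟩,
      fun hy => ⟨?_, (h5 y).mpr hy.2⟩⟩
    have h6 := T.mul_mem (T.mul_mem (T.inv_mem ht) hy.1) ht
    have h7 : t⁻¹ * (t * y * t⁻¹) * t = y := by group
    rwa [h7] at h6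
  obtain ⟨e, he, he2, hc⟩ := exists_central hT.two inf_le_left hTn hne
  exact ⟨e, he.2, he2, fun s hs => hc s (hQT hs)⟩

/-- The situation. -/
structure Hy (z : G) (L B : Subgroup G) : Prop where
  zz : z * z = 1
  comp : IsComp (centralizer ({z} : Set G)) L
  cl : CL L
  BL : B ≤ L
  card : Nat.card B = 16
  sq : ∀ b ∈ B, b * b = 1
  /-- an automorphism centralizing a hyperplane of `B` is induced by `B` -/
  kh : ∀ H ≤ B, Nat.card H = 8 → ∀ w ∈ normalizer (L : Set G), (∀ h ∈ H, w * h = h * w) →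
    ∃ a ∈ B, Fixes (a⁻¹ * w) L

variable {z : G} {L B : Subgroup G}

theorem Hy.comm (S : Hy z L B) {a b : G} (ha : a ∈ B) (hb : b ∈ B) : a * b = b * a := by
  have h1 := S.sq _ (mul_mem ha hb)
  have h2 : (a * b)⁻¹ = a * b := inv_eq_of_mul_eq_one_left h1
  rw [mul_inv_rev, inv_eq_of_mul_eq_one_left (S.sq a ha), inv_eq_of_mul_eq_one_left (S.sq b hb)] at h2
  exact h2.symm

theorem Hy.zcomm (S : Hy z L B) {b : G} (hb : b ∈ B) : b * z = z * b := comm_c (S.comp.le (S.BL hb))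

/-- `⟨z⟩ H` is a 2-group -/
theorem Hy.isPGroup (S : Hy z L B) {H : Subgroup G} (hH : H ≤ B) : IsPGroup 2 ↥(H ⊔ zpowers z) := by
  obtain ⟨Q, hQ⟩ : ∃ Q : Subgroup G, ∀ g, g ∈ Q ↔ ∃ h ∈ H, g = h ∨ g = h * z := by
    have hz : ∀ h ∈ H, h * z = z * h := fun h hh => S.zcomm (hH hh)
    refine ⟨{ carrier := {g | ∃ h ∈ H, g = h ∨ g = h * z}
              mul_mem' := ?_
              one_mem' := ⟨1, one_mem _, Or.inl rfl⟩
              inv_mem' := ?_ }, fun _ => Iff.rfl⟩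
    · rintro g1 g2 ⟨h, hh, h1⟩ ⟨k, hk, h2⟩
      refine ⟨h * k, mul_mem hh hk, ?_⟩
      rcases h1 with h1 | h1 <;> rcases h2 with h2 | h2 <;> rw [h1, h2]
      · exact Or.inl rfl
      · exact Or.inr (mul_assoc _ _ _).symm
      · right
        rw [mul_assoc, ← hz k hk, mul_assoc]
      · left
        calc h * z * (k * z) = h * (z * k) * z := by group
          _ = h * (k * z) * z := by rw [hz k hk]
          _ = h * k * (z * z) := by group
          _ = h * k := by rw [S.zz, mul_one]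
    · rintro _ ⟨h, hh, h1⟩
      refine ⟨h⁻¹, inv_mem hh, ?_⟩
      rcases h1 with rfl | rfl
      · exact Or.inl rfl
      · right
        rw [mul_inv_rev, inv_eq_of_mul_eq_one_left S.zz]
        exact (hz _ (inv_mem hh)).symm
  have hsq : ∀ g ∈ Q, g * g = 1 := by
    intro g hg
    obtain ⟨h, hh, rfl | rfl⟩ := (hQ g).mp hg
    · exact S.sq _ (hH hh)
    · calc h * z * (h * z) = h * (z * h) * z := by group
        _ = h * (h * z) * z := by rw [S.zcomm (hH hh)]
        _ = (h * h) * (z * z) := by group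
        _ = 1 := by rw [S.sq _ (hH hh), S.zz, one_mul]
  have hle : H ⊔ zpowers z ≤ Q := by
    refine sup_le (fun h hh => (hQ h).mpr ⟨h, hh, Or.inl rfl⟩) ?_
    rw [zpowers_le]
    exact (hQ z).mpr ⟨1, one_mem _, Or.inr (one_mul z).symm⟩
  rintro ⟨g, hg⟩
  refine ⟨1, Subtype.ext ?_⟩
  change g ^ 2 ^ 1 = 1
  rw [pow_one, pow_two]
  exact hsq g (hle hg)

/-- the case of a hyperplane -/
theorem Hy.hyper (S : Hy z L B) {X J : Subgroup G} (hBX : B ≤ X) (hJ : IsComp X J)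
    (hcl : CL J) (hzJ : z ∈ normalizer (J : Set G))
    (h8 : Nat.card ↥(B ⊓ normalizer (J : Set G)) = 8) : False := by
  obtain ⟨H, hH⟩ : ∃ H, H = B ⊓ normalizer (J : Set G) := ⟨_, rfl⟩
  rw [← hH] at h8
  have hHB : H ≤ B := hH ▸ inf_le_left
  have hHJ : H ≤ normalizer (J : Set G) := hH ▸ inf_le_right
  obtain ⟨w, hw, hw2, hwc⟩ := exists_inv_comm (S.isPGroup hHB) (J := J)
    (sup_le hHJ (by rw [zpowers_le]; exact hzJ)) hJ.even
  have hww := sq_of_order hw2
  have hw1 := ne_one_of_order hw2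
  have hwi : w⁻¹ = w := inv_eq_of_mul_eq_one_left hww
  have hwz : w * z = z * w := (hwc z (mem_sup_right (mem_zpowers z))).symm
  have hwH : ∀ h ∈ H, w * h = h * w := fun h hh => (hwc h (mem_sup_left hh)).symm
  -- `w` normalizes `L`
  obtain ⟨u, hu, hu1⟩ : ∃ u ∈ H, u ≠ 1 := by
    by_contra hcon
    push Not at hcon
    have : H = ⊥ := by
      rw [eq_bot_iff]
      intro y hy
      exact mem_bot.mpr (hcon y hy)
    rw [this, card_bot] at h8
    norm_num at h8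
  have hwL := mem_normalizer_of_commute S.comp S.cl (mem_c hwz) (S.BL (hHB hu)) (S.sq u (hHB hu)) hu1 (hwH u hu)
  obtain ⟨a, ha, hf⟩ := S.kh H hHB h8 w hwL hwH
  -- `b ∈ B - H`
  obtain ⟨b, hb, hbH⟩ : ∃ b ∈ B, b ∉ H := by
    by_contra hcon
    push Not at hcon
    have h1 := S.card
    rw [le_antisymm hcon hHB, h8] at h1
    norm_num at h1
  have hbJ : cj b J ≠ J := by
    intro h
    exact hbH (hH ▸ ⟨hb, mem_normalizer_iff_cj.mpr h⟩)
  have hJ' := isComp_cj_of_mem hJ (hBX hb)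
  obtain ⟨w', hw'⟩ : ∃ w', w' = b * w * b⁻¹ := ⟨_, rfl⟩
  have hw'J : w' ∈ cj b J := by rw [hw']; exact conj_mem_cj hw
  have hw'w : w' * w' = 1 := by
    rw [hw']
    calc b * w * b⁻¹ * (b * w * b⁻¹) = b * (w * w) * b⁻¹ := by group
      _ = 1 := by rw [hww]; group
  -- `w w' ∈ O(L)`
  have hg : w * w' ∈ core L := by
    have h1 : ⁅a⁻¹ * w, b⁆ ∈ core L := hf.2 b (S.BL hb)
    have h2 : w * w' = a * ⁅a⁻¹ * w, b⁆ * a⁻¹ := by
      have h3 : a * b⁻¹ * a⁻¹ = b⁻¹ := by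
        rw [S.comm ha (inv_mem hb), mul_inv_cancel_right]
      have h4 : a * ⁅a⁻¹ * w, b⁆ * a⁻¹ = w * b * w⁻¹ * (a * b⁻¹ * a⁻¹) := by
        rw [commutatorElement_def]; group
      rw [h4, h3, hw', hwi]
      group
    rw [h2]
    exact conj_mem_core (le_normalizer (S.BL ha)) h1
  have hsq : w * w' * (w * w') ∈ core X := by
    have h1 := hJ.comm_le_core hJ' (Ne.symm hbJ) (commutator_mem_commutator hw hw'J)
    have h2 : ⁅w, w'⁆ = w * w' * (w * w') := by
      rw [commutatorElement_def, hwi, inv_eq_of_mul_eq_one_left hw'w]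
      group
    rw [h2] at h1
    exact hJ.core_le_core h1.1
  have hgX := mem_of_sq_mem (odd_card_core L) hg hsq
  have hfw : Fixes w J := by
    have h1 : w = (w * w') * w' := by rw [mul_assoc, hw'w, mul_one]
    rw [h1]
    exact fixes_mul (hJ.fixes_of_core hgX) (hJ.fixes_of_mem hJ' (Ne.symm hbJ) hw'J)
  exact hw1 (eq_one_of_mem_core_sq (hcl.mem_core hw hfw) hww)

/-- **Lemma (M).** -/
theorem Hy.le_normalizer (S : Hy z L B) {X J : Subgroup G} (hzX : z ∈ X) (hBX : B ≤ X) (hJ : IsComp X J)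
    (hcl : CL J) (hzJ : z ∈ normalizer (J : Set G)) : B ≤ normalizer (J : Set G) := by
  have hp : Fact (Nat.Prime 2) := ⟨Nat.prime_two⟩
  obtain ⟨n, hn⟩ : ∃ n, n = 16 - Nat.card ↥(B ⊓ normalizer (J : Set G)) := ⟨_, rfl⟩
  induction n using Nat.strong_induction_on generalizing X J with
  | _ n ih =>
    by_contra hcon
    obtain ⟨B1, hB1⟩ : ∃ B1, B1 = B ⊓ normalizer (J : Set G) := ⟨_, rfl⟩
    rw [← hB1] at hn
    have hB1B : B1 ≤ B := hB1 ▸ inf_le_left
    obtain ⟨b, hb, hbJ⟩ := SetLike.not_le_iff_exists.mp hcon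
    have hbb := S.sq b hb
    have hbX := hBX hb
    have hbn : cj b J ≠ J := fun h => hbJ (mem_normalizer_iff_cj.mpr h)
    obtain ⟨h1, -⟩ := exists_diag hJ hbX hbb hbn
    obtain ⟨D, hD⟩ : ∃ D, D = diag X J b := ⟨_, rfl⟩
    have hclD : CL D := hD ▸ cl_diag hJ hbX hbb hbn hcl
    rw [← hD] at h1
    have hcjD : ∀ {c : G}, c ∈ X → c * b = b * c → cj c D = diag X (cj c J) b := by
      intro c hc hcb
      rw [hD, cj_diag, cj_eq_self_of_mem hc]
      congr 1
      rw [hcb, mul_inv_cancel_right]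
    have hzD : z ∈ normalizer (D : Set G) := by
      rw [mem_normalizer_iff_cj, hcjD hzX (S.zcomm hb).symm, mem_normalizer_iff_cj.mp hzJ, ← hD]
    have hbc : ∀ {c : G}, c ∈ B → c * b = b * c := fun hc => S.comm hc hb
    -- index two
    by_cases hBD : B ≤ normalizer (D : Set G)
    · have h2 : ∀ c ∈ B, c ∈ normalizer (J : Set G) ∨ b⁻¹ * c ∈ normalizer (J : Set G) := by
        intro c hc
        by_contra hcon
        push Not at hcon
        obtain ⟨e1, e2⟩ := hcon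
        have hcX := hBX hc
        have hcJ := isComp_cj_of_mem hJ hcX
        have e3 : cj b (cj c J) ≠ cj c J := by
          intro h
          rw [← cj_mul, ← hbc hc, cj_mul] at h
          exact hbn (cj_injective c h)
        have e4 : cj c J ≠ J := fun h => e1 (mem_normalizer_iff_cj.mpr h)
        have e5 : cj c J ≠ cj b J := by
          intro h
          apply e2
          rw [mem_normalizer_iff_cj, cj_mul, h, cj_inv_cj]
        apply diag_ne hJ hbX hbb hbn hcJ e3 e4 e5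
        rw [← hcjD hcX (hbc hc), ← hD]
        exact mem_normalizer_iff_cj.mp (hBD hc)
      have h3 : (B1.subgroupOf B).index = 2 := by
        rw [index_eq_two_iff_exists_notMem_and']
        refine ⟨⟨b⁻¹, inv_mem hb⟩, ?_, ?_⟩
        · rw [mem_subgroupOf, hB1]
          intro h
          have h5 := (normalizer (J : Set G)).inv_mem h.2
          rw [inv_inv] at h5
          exact hbJ h5
        · rintro ⟨c, hc⟩
          rw [mem_subgroupOf, mem_subgroupOf, hB1]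
          rcases h2 c hc with h | h
          · exact Or.inr ⟨hc, h⟩
          · exact Or.inl ⟨B.mul_mem (B.inv_mem hb) hc, h⟩
      have h4 := (B1.subgroupOf B).index_mul_card
      rw [h3, S.card, Nat.card_congr (subgroupOfEquivOfLe hB1B).toEquiv] at h4
      exact S.hyper hBX hJ hcl hzJ (by rw [← hB1]; omega)
    · have h2 : B1 < B ⊓ normalizer (D : Set G) := by
        rw [SetLike.lt_iff_le_and_exists]
        constructor
        · intro c hc
          refine ⟨hB1B hc, ?_⟩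
          rw [hB1] at hc
          change c ∈ normalizer (D : Set G)
          rw [mem_normalizer_iff_cj, hcjD (hBX hc.1) (hbc hc.1), mem_normalizer_iff_cj.mp hc.2, ← hD]
        · refine ⟨b, ⟨hb, ?_⟩, fun h => hbJ ?_⟩
          · refine centralizer_le_normalizer _ (mem_centralizer_iff.mpr fun y hy => ?_)
            exact comm_c (h1.le hy).2
          · rw [hB1] at h
            exact h.2
      have h3 : Nat.card B1 < Nat.card ↥(B ⊓ normalizer (D : Set G)) := by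
        by_contra h
        push Not at h
        exact h2.ne (Subgroup.eq_of_le_of_card_ge h2.le h)
      have h4 : Nat.card ↥(B ⊓ normalizer (D : Set G)) ≤ 16 := by
        rw [← S.card]
        exact Nat.le_of_dvd Nat.card_pos (card_dvd_of_le inf_le_left)
      apply hBD
      refine ih _ ?_ (X := X ⊓ centralizer ({b} : Set G)) ⟨hzX, mem_c (S.zcomm hb).symm⟩
        (fun c hc => ⟨hBX hc, mem_c (hbc hc)⟩) h1 hclD hzD rfl
      omega

end Cfsg.Agent.UGT.N2S.FMov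
end

-- part: UGT/CE/Pair
section
set_option linter.all false
open scoped Cfsg.Agent.FastGrp

/-!
# `C(e) ≤ N(L)` for bad involutions `e`, paired version

Conjugates of `L` may commute, but not conjugates under `C(e)`; instead `N(Y e) ≤ N(L)` (Theorem H) is assumed, and the
involutions `t` of `C_K(e)` only satisfy: `L` is a component of `C(t)`, the only one of its class moved by `O(C(e))`.
-/

set_option autoImplicit false

open Subgroup

namespace Cfsg.Agent.UGT.CE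

open Cfsg.Agent.UGT.ThE.Base (IsT IsS comm_of_mem L_conj L_conj' K_le_M L_le_M K_conj K_conj' exists_central)
open Cfsg.Agent.UGT.CE.Base

universe u

variable {G : Type u} [Group G]

/-- The configuration. -/
structure PConf (O Y J : G → Subgroup G) (L : Subgroup G) (B : G → Prop) : Prop where
  Ocj : ∀ g t a : G, a ∈ O t → g * a * g⁻¹ ∈ O (g * t * g⁻¹)
  Oc : ∀ {e}, B e → ∀ a ∈ O e, a * e = e * a
  perf : L ≤ ⁅L, L⁆
  disj : ∀ l ∈ L, l ∈ centralizer (L : Set G) → l = 1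
  sq : ∀ {e}, B e → e * e = 1
  mem : ∀ {e}, B e → e ∈ normalizer (L : Set G)
  odd : ∀ {e}, B e → Odd (Nat.card (O e))
  Bcj : ∀ {e}, B e → ∀ l ∈ L, B (l * e * l⁻¹)
  Bt : ∀ {e}, B e → ∀ t, IsT L e t → B (e * t)
  four : ∀ {e}, B e → ∃ t u, IsT L e t ∧ IsT L e u ∧ t ≠ u ∧ t * u = u * t
  /-- `L` is the only component of its class of `C(t)` moved by `O(C(e))` -/
  uni : ∀ {e}, B e → ∀ z, IsT L e z → ∀ g, g * e = e * g → IsT L e (g * z * g⁻¹) →
    g ∈ normalizer (L : Set G)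
  /-- `L` is a component of `C(t)` -/
  cmp : ∀ {e}, B e → ∀ t, IsT L e t → ∀ c, c * t = t * c →
    (∀ l ∈ L, c * l * c⁻¹ ∈ L) ∨ ∀ l ∈ L, c * l * c⁻¹ ∈ centralizer (L : Set G)
  fin : ∀ {e}, B e → ∀ t, IsT L e t → O t ≤ centralizer (L : Set G)
  nc : ∀ {e}, B e → ∀ g, g * e = e * g → ¬ ∀ l ∈ L, g * l * g⁻¹ ∈ centralizer (L : Set G)
  /-- Theorem H -/
  NY : ∀ {e}, B e → ∀ c, (∀ y ∈ Y e, c * y * c⁻¹ ∈ Y e) → c ∈ normalizer (L : Set G)
  YL : ∀ {e}, B e → Y e ≤ L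
  YO : ∀ {e}, B e → Y e ≤ O e
  Yt : ∀ {e}, B e → ∀ t, IsT L e t → Y e ≤ Y (e * t)
  Yn : ∀ {e}, B e → ∀ c ∈ normalizer (L : Set G), c * e = e * c → ∀ y ∈ Y e, c * y * c⁻¹ ∈ Y e
  /-- `O(C(e))` acts on `L` as `Y e` -/
  core : ∀ {e}, B e → O e ≤ normalizer (L : Set G) → ∀ a ∈ O e, ∃ y ∈ Y e,
    ∃ k ∈ centralizer (L : Set G), a = y * k
  exS : ∀ {e}, B e → ∃ s, IsS L e s
  inv : ∀ {e}, B e → ∀ s, IsS L e s → ∀ y ∈ Y e, s * y * s⁻¹ = y⁻¹
  cj : ∀ {e}, B e → ∀ s, IsS L e s → ∃ l ∈ L, l * e * l⁻¹ = e * s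
  gen1 : ∀ {e}, B e → ∀ s, IsS L e s → ∀ H : Subgroup G, Y e ≤ H → Y (e * s) ≤ H → L ≤ H
  /-- `C_{Aut L}(Y e)` is solvable -/
  solY : ∀ {e}, B e → ∀ X : Subgroup G, X ≤ normalizer (L : Set G) → (∀ x ∈ X, ∀ y ∈ Y e, x * y = y * x) →
    X ≤ ⁅X, X⁆ → X ≤ centralizer (L : Set G)
  wcomm : ∀ {e}, B e → ∀ v, Wild L e v → ∀ j ∈ J v, j * v = v * j
  wsimp : ∀ {e}, B e → ∀ v, Wild L e v → ∀ N : Subgroup G, N ≤ J v → (∀ l ∈ J v, ∀ n ∈ N, l * n * l⁻¹ ∈ N) →
    N = ⊥ ∨ N = J v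
  wfix : ∀ {e}, B e → ∀ v, Wild L e v → ∃ i ∈ J v, IsS L e i
  wmem : ∀ {e}, B e → ∀ v, Wild L e v → ∀ y ∈ Y e, y * v = v * y → y ∈ J v

namespace PConf

variable {O Y J : G → Subgroup G} {L : Subgroup G} {B : G → Prop} (H : PConf O Y J L B)
include H

theorem uniq {a b c d : G} (ha : a ∈ L) (hb : b ∈ centralizer (L : Set G)) (hc : c ∈ L)
    (hd : d ∈ centralizer (L : Set G)) (h : a * b = c * d) : a = c ∧ b = d := by
  have h1 : c⁻¹ * a = d * b⁻¹ := by
    calc c⁻¹ * a = c⁻¹ * (a * b) * b⁻¹ := by group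
      _ = d * b⁻¹ := by rw [h]; group
  have h2 : c⁻¹ * a = 1 := H.disj _ (mul_mem (inv_mem hc) ha) (by rw [h1]; exact mul_mem hd (inv_mem hb))
  have h3 : a = c := (inv_mul_eq_one.mp h2).symm
  exact ⟨h3, by rw [h3] at h; exact mul_left_cancel h⟩

theorem O_conj {e c : G} (h : c * e = e * c) {a : G} (ha : a ∈ O e) : c * a * c⁻¹ ∈ O e := by
  have h1 := H.Ocj c e a ha
  rwa [cj_eq h] at h1

/-- `C(e, t) ≤ N(L)` -/
theorem cte {e : G} (he : B e) {t : G} (ht : IsT L e t) {c : G} (hct : c * t = t * c) (hce : c * e = e * c) :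
    c ∈ normalizer (L : Set G) :=
  H.uni he t ht c hce (by rw [cj_eq hct]; exact ht)

theorem O_le [Finite G] {e : G} (he : B e) : O e ≤ normalizer (L : Set G) := by
  obtain ⟨t, u, ht, hu, hne, htu⟩ := H.four he
  refine Cfsg.Agent.Lib.KleinGen.le_of_klein (O e) _ (H.odd he) t u ht.sq hu.sq htu
    (fun a ha => H.O_conj ht.comm ha) (fun a ha => H.O_conj hu.comm ha) ?_ ?_ ?_
  · intro c hc
    exact H.cte he ht (mem_centralizer_singleton_iff.mp hc.2) (H.Oc he c hc.1)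
  · intro c hc
    exact H.cte he hu (mem_centralizer_singleton_iff.mp hc.2) (H.Oc he c hc.1)
  · intro c hc
    exact H.cte he (isT_mul ht hu hne htu) (mem_centralizer_singleton_iff.mp hc.2) (H.Oc he c hc.1)

theorem core' [Finite G] {e : G} (he : B e) {a : G} (ha : a ∈ O e) : ∃ y ∈ Y e,
    ∃ k ∈ centralizer (L : Set G), a = y * k := H.core he (H.O_le he) a ha

theorem odd_order [Finite G] {e : G} (he : B e) {y : G} (hy : y ∈ Y e) : Odd (orderOf y) :=
  (H.odd he).of_dvd_nat (Subgroup.orderOf_dvd_natCard _ (H.YO he hy))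

theorem Ysq [Finite G] {e : G} (he : B e) {y : G} (hy : y ∈ Y e) : ∃ y' ∈ Y e, y = y' * y' := by
  obtain ⟨m, hm⟩ := H.odd_order he hy
  refine ⟨y ^ (m + 1), pow_mem hy _, ?_⟩
  have h2 : y ^ (2 * m + 1) = 1 := by rw [← hm]; exact pow_orderOf_eq_one y
  calc y = y ^ (2 * m + 1) * y := by rw [h2, one_mul]
    _ = y ^ (m + 1) * y ^ (m + 1) := by rw [← pow_succ, ← pow_add]; congr 1; omega

theorem eq_one_of_sq [Finite G] {e : G} (he : B e) {y : G} (hy : y ∈ Y e) (h : y * y = 1) : y = 1 := by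
  have h1 := H.odd_order he hy
  have h2 : orderOf y ∣ 2 := orderOf_dvd_of_pow_eq_one (by rw [pow_two, h])
  rcases (Nat.dvd_prime Nat.prime_two).mp h2 with h3 | h3
  · exact orderOf_eq_one_iff.mp h3
  · rw [h3] at h1
    exact absurd h1 (by decide)

/-- the commutator with an involution `s` of `C_L(e)` of an element of `O(C(e))` -/
theorem comm_yk {e : G} (he : B e) {s : G} (hs : IsS L e s) {y k : G} (hy : y ∈ Y e)
    (hk : k ∈ centralizer (L : Set G)) : y * k * s * (y * k)⁻¹ * s⁻¹ = y * y := by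
  have h1 : k * s * k⁻¹ = s := by rw [← comm_of_mem hs.mem hk]; group
  have h2 : s * y⁻¹ * s⁻¹ = y := by
    have h3 := H.inv he s hs y hy
    calc s * y⁻¹ * s⁻¹ = (s * y * s⁻¹)⁻¹ := by group
      _ = y := by rw [h3, inv_inv]
  calc y * k * s * (y * k)⁻¹ * s⁻¹ = y * (k * s * k⁻¹) * y⁻¹ * s⁻¹ := by group
    _ = y * (s * y⁻¹ * s⁻¹) := by rw [h1]; group
    _ = y * y := by rw [h2]

/-- `c ∈ C(e)` maps the involution `s` of `C_L(e)` to the involution `s'` of `C_L(e)`: then it normalises `Y e` -/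
theorem Y_conj [Finite G] {e : G} (he : B e) {s s' : G} (hs : IsS L e s) (hs' : IsS L e s') {c : G}
    (hce : c * e = e * c) (hcs : c * s * c⁻¹ = s') {y : G} (hy : y ∈ Y e) : c * y * c⁻¹ ∈ Y e := by
  obtain ⟨y', hy', rfl⟩ := H.Ysq he hy
  have ha : c * y' * c⁻¹ ∈ O e := H.O_conj hce (H.YO he hy')
  obtain ⟨y1, hy1, k1, hk1, hyk⟩ := H.core' he ha
  have h1 := H.comm_yk he hs' hy1 hk1
  have h2 := H.comm_yk he hs hy' (one_mem (centralizer (L : Set G)))
  rw [mul_one] at h2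
  rw [← hyk, ← hcs] at h1
  have h3 : c * y' * c⁻¹ * (c * s * c⁻¹) * (c * y' * c⁻¹)⁻¹ * (c * s * c⁻¹)⁻¹ =
      c * (y' * s * y'⁻¹ * s⁻¹) * c⁻¹ := by group
  rw [h3, h2] at h1
  rw [h1]
  exact mul_mem hy1 hy1

/-- `C(e, s) ≤ N(L)` -/
theorem ces [Finite G] {e : G} (he : B e) {s : G} (hs : IsS L e s) {c : G} (hce : c * e = e * c)
    (hcs : c * s = s * c) : c ∈ normalizer (L : Set G) := by
  obtain ⟨l, hl, hle⟩ := H.cj he s hs
  have he' : B (e * s) := hle ▸ H.Bcj he l hl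
  have hs' : IsS L (e * s) s := ⟨hs.mem, by
    calc s * (e * s) = (s * e) * s := by group
      _ = e * s * s := by rw [hs.comm], hs.sq, hs.ne⟩
  have hce' : c * (e * s) = (e * s) * c := by
    calc c * (e * s) = (c * e) * s := by group
      _ = e * (c * s) := by rw [hce]; group
      _ = (e * s) * c := by rw [hcs]; group
  have h1 : L ≤ L.comap (MulAut.conj c).toMonoidHom := by
    apply H.gen1 he s hs
    · intro y hy
      exact H.YL he (H.Y_conj he hs hs hce (cj_eq hcs) hy)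
    · intro y hy
      exact H.YL he' (H.Y_conj he' hs' hs' hce' (cj_eq hcs) hy)
  exact mem_normalizer_of fun l hl => h1 hl

/-- `Y(L^g)` acts nontrivially on `L` for `g ∈ C(e)` -/
theorem nK2 [Finite G] {e : G} (he : B e) {g : G} (hge : g * e = e * g) :
    ¬ ∀ y ∈ Y e, g * y * g⁻¹ ∈ centralizer (L : Set G) := by
  intro h
  have h1 : ∀ l ∈ L, ∀ y ∈ Y e, g⁻¹ * l * g * y = y * (g⁻¹ * l * g) := by
    intro l hl y hy
    have h2 := comm_of_mem hl (h y hy)
    calc g⁻¹ * l * g * y = g⁻¹ * (l * (g * y * g⁻¹)) * g := by group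
      _ = g⁻¹ * (g * y * g⁻¹ * l) * g := by rw [h2]
      _ = y * (g⁻¹ * l * g) := by group
  have hmem : ∀ {x : G}, x ∈ L.map (MulAut.conj g⁻¹).toMonoidHom → ∃ l ∈ L, g⁻¹ * l * g = x := by
    intro x hx
    obtain ⟨l, hl, rfl⟩ := mem_map_conj.mp hx
    exact ⟨l, hl, by rw [inv_inv]⟩
  have h3 := H.solY he (L.map (MulAut.conj g⁻¹).toMonoidHom) (by
    intro x hx
    obtain ⟨l, hl, rfl⟩ := hmem hx
    apply H.NY he
    intro y hy
    rw [h1 l hl y hy]
    have h4 : y * (g⁻¹ * l * g) * (g⁻¹ * l * g)⁻¹ = y := by group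
    rw [h4]; exact hy) (by
    intro x hx y hy
    obtain ⟨l, hl, rfl⟩ := hmem hx
    exact h1 l hl y hy) (perf_map H.perf g⁻¹)
  apply H.nc he g⁻¹ (inv_comm hge)
  intro l hl
  exact h3 (mem_map_conj.mpr ⟨l, hl, rfl⟩)

theorem e_ne [Finite G] {e : G} (he : B e) : e ∉ centralizer (L : Set G) := by
  intro h
  obtain ⟨s, hs⟩ := H.exS he
  obtain ⟨l, hl, hle⟩ := H.cj he s hs
  apply hs.ne
  have h1 := comm_of_mem hl h
  have h2 : e * s = e := by
    rw [← hle, h1]; group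
  exact mul_eq_left.mp h2

/-- `v = z^g ∈ N(L)`, `g ∈ C(e) - N(L)`, is wild on `L` -/
theorem wild_of [Finite G] {e z g : G} (he : B e) (hz : IsT L e z) (hge : g * e = e * g)
    (hv : g * z * g⁻¹ ∈ normalizer (L : Set G)) (hg : g ∉ normalizer (L : Set G)) : Wild L e (g * z * g⁻¹) := by
  by_contra hW
  obtain ⟨v, hvd⟩ : ∃ v, v = g * z * g⁻¹ := ⟨_, rfl⟩
  have hve : v * e = e * v := by rw [hvd]; exact cj_comm hge hz.comm
  have hvv : v * v = 1 := by
    rw [hvd]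
    calc g * z * g⁻¹ * (g * z * g⁻¹) = g * (z * z) * g⁻¹ := by group
      _ = 1 := by rw [hz.sq]; group
  have hv1 : v ≠ 1 := by
    intro h
    apply hz.ne
    calc z = g⁻¹ * (g * z * g⁻¹) * g := by group
      _ = 1 := by rw [← hvd, h]; group
  have hvK : v ∉ centralizer (L : Set G) := fun h =>
    hg (H.uni he z hz g hge (hvd ▸ ⟨h, hve, hvv, hv1⟩))
  -- `v` centralises the conjugate of `Y e`
  have hvY : ∀ y ∈ Y e, v * (g * y * g⁻¹) * v⁻¹ = g * y * g⁻¹ := by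
    intro y hy
    have h1 := comm_of_mem (H.YL he hy) hz.mem
    rw [hvd]
    calc g * z * g⁻¹ * (g * y * g⁻¹) * (g * z * g⁻¹)⁻¹ = g * (z * y) * z⁻¹ * g⁻¹ := by group
      _ = g * (y * z) * z⁻¹ * g⁻¹ := by rw [h1]
      _ = g * y * g⁻¹ := by group
  have hYO : ∀ y ∈ Y e, g * y * g⁻¹ ∈ O e := fun y hy => H.O_conj hge (H.YO he hy)
  -- enough: `v` acts on `Y e` by inversion
  have fin : ∀ s ∈ L, ∀ k ∈ centralizer (L : Set G), (v = s * k ∨ v = e * (s * k)) → IsS L e s → False := by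
    intro s hs k hk hvk hsS
    apply H.nK2 he hge
    intro y hy
    obtain ⟨y', hy', k', hk', hyk⟩ := H.core' he (hYO y hy)
    have h1 : s * y' * s⁻¹ = y'⁻¹ := H.inv he s hsS y' hy'
    have h2 : v * y' * v⁻¹ = y'⁻¹ := by
      have h3 : k * y' * k⁻¹ = y' := by
        rw [← comm_of_mem (H.YL he hy') hk]; group
      have h4 : e * y'⁻¹ * e⁻¹ = y'⁻¹ := by
        rw [← H.Oc he _ (inv_mem (H.YO he hy'))]; group
      rcases hvk with hvk | hvk
      · rw [hvk]
        calc s * k * y' * (s * k)⁻¹ = s * (k * y' * k⁻¹) * s⁻¹ := by group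
          _ = y'⁻¹ := by rw [h3, h1]
      · rw [hvk]
        calc e * (s * k) * y' * (e * (s * k))⁻¹ = e * (s * (k * y' * k⁻¹) * s⁻¹) * e⁻¹ := by group
          _ = y'⁻¹ := by rw [h3, h1, h4]
    have h5 := hvY y hy
    rw [hyk] at h5
    have h6 : y'⁻¹ * (v * k' * v⁻¹) = y' * k' := by
      rw [← h2]
      calc v * y' * v⁻¹ * (v * k' * v⁻¹) = v * (y' * k') * v⁻¹ := by group
        _ = y' * k' := h5
    have h7 := (H.uniq (inv_mem (H.YL he hy')) (K_conj (hvd ▸ hv) hk') (H.YL he hy') hk' h6).1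
    have h8 : y' = 1 := H.eq_one_of_sq he hy' (by
      nth_rw 1 [← h7]
      group)
    rw [hyk, h8, one_mul]
    exact hk'
  have hee := H.mem he
  have hsq := H.sq he
  have h0 : (∃ l ∈ L, l * v ∈ centralizer (L : Set G)) ∨ ∃ l ∈ L, l * e * v ∈ centralizer (L : Set G) := by
    by_contra h
    push Not at h
    rw [← hvd] at hW
    exact hW ⟨hvd ▸ hv, hve, hvv, h.1, h.2⟩
  rcases h0 with ⟨l, hl, hk⟩ | ⟨l, hl, hk⟩
  · obtain ⟨k, hkd⟩ : ∃ k, k = l * v := ⟨_, rfl⟩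
    rw [← hkd] at hk
    have hv' : v = l⁻¹ * k := by rw [hkd]; group
    have h1 : e * l⁻¹ * e⁻¹ * (e * k * e⁻¹) = l⁻¹ * k := by
      calc e * l⁻¹ * e⁻¹ * (e * k * e⁻¹) = e * (l⁻¹ * k) * e⁻¹ := by group
        _ = e * v * e⁻¹ := by rw [hv']
        _ = l⁻¹ * k := by rw [← hve, hv']; group
    obtain ⟨h2, h3⟩ := H.uniq (L_conj hee (inv_mem hl)) (K_conj hee hk) (inv_mem hl) hk h1
    have h4 : l⁻¹ * l⁻¹ * (k * k) = 1 * 1 := by
      rw [hv'] at hvv
      calc l⁻¹ * l⁻¹ * (k * k) = l⁻¹ * (l⁻¹ * k) * k := by group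
        _ = l⁻¹ * (k * l⁻¹) * k := by rw [comm_of_mem (inv_mem hl) hk]
        _ = l⁻¹ * k * (l⁻¹ * k) := by group
        _ = 1 * 1 := by rw [hvv, one_mul]
    obtain ⟨h5, -⟩ := H.uniq (mul_mem (inv_mem hl) (inv_mem hl)) (mul_mem hk hk) (one_mem _)
      (one_mem _) h4
    refine fin l⁻¹ (inv_mem hl) k hk (Or.inl hv') ⟨inv_mem hl, ?_, h5, ?_⟩
    · calc l⁻¹ * e = (e * l⁻¹ * e⁻¹) * e := by rw [h2]
        _ = e * l⁻¹ := by group
    · intro h6
      apply hvK
      rw [hv', h6, one_mul]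
      exact hk
  · obtain ⟨k, hkd⟩ : ∃ k, k = l * e * v := ⟨_, rfl⟩
    rw [← hkd] at hk
    have hei : e⁻¹ = e := inv_eq_of_mul_eq_one_left hsq
    have hv' : e * v = l⁻¹ * k := by rw [hkd]; group
    have hv2 : v = e * (l⁻¹ * k) := by rw [← hv', ← mul_assoc, hsq, one_mul]
    have hvve : (e * v) * (e * v) = 1 := by
      calc (e * v) * (e * v) = e * (v * e) * v := by group
        _ = (e * e) * (v * v) := by rw [hve]; group
        _ = 1 := by rw [hsq, hvv, one_mul]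
    have h1 : e * l⁻¹ * e⁻¹ * (e * k * e⁻¹) = l⁻¹ * k := by
      calc e * l⁻¹ * e⁻¹ * (e * k * e⁻¹) = e * (l⁻¹ * k) * e⁻¹ := by group
        _ = e * (e * v) * e⁻¹ := by rw [hv']
        _ = e * (v * e) * e⁻¹ := by rw [hve]
        _ = e * v := by group
        _ = l⁻¹ * k := hv'
    obtain ⟨h2, h3⟩ := H.uniq (L_conj hee (inv_mem hl)) (K_conj hee hk) (inv_mem hl) hk h1
    have h4 : l⁻¹ * l⁻¹ * (k * k) = 1 * 1 := by
      rw [hv'] at hvve
      calc l⁻¹ * l⁻¹ * (k * k) = l⁻¹ * (l⁻¹ * k) * k := by group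
        _ = l⁻¹ * (k * l⁻¹) * k := by rw [comm_of_mem (inv_mem hl) hk]
        _ = l⁻¹ * k * (l⁻¹ * k) := by group
        _ = 1 * 1 := by rw [hvve, one_mul]
    obtain ⟨h5, h5'⟩ := H.uniq (mul_mem (inv_mem hl) (inv_mem hl)) (mul_mem hk hk) (one_mem _)
      (one_mem _) h4
    have hle : l⁻¹ * e = e * l⁻¹ := by
      calc l⁻¹ * e = (e * l⁻¹ * e⁻¹) * e := by rw [h2]
        _ = e * l⁻¹ := by group
    have hke : k * e = e * k := by
      calc k * e = (e * k * e⁻¹) * e := by rw [h3]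
        _ = e * k := by group
    by_cases hl1 : l⁻¹ = 1
    · -- `v = ek`
      rw [hl1, one_mul] at hv' hv2
      have hk1 : k ≠ 1 := by
        intro h
        rw [h, mul_one] at hv2
        have h6 : z = e := by
          calc z = g⁻¹ * (g * z * g⁻¹) * g := by group
            _ = g⁻¹ * (e * g) := by rw [← hvd, hv2]; group
            _ = e := by rw [← hge]; group
        exact H.e_ne he (h6 ▸ hz.mem)
      have hT : IsT L e k := ⟨hk, hke, h5', hk1⟩
      apply H.nK2 he hge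
      intro y hy
      apply H.fin he k hT
      have h7 := H.Ocj g (e * z) y (H.YO (H.Bt he z hz) (H.Yt he z hz hy))
      have h8 : g * (e * z) * g⁻¹ = k := by
        calc g * (e * z) * g⁻¹ = (g * e) * z * g⁻¹ := by group
          _ = e * (g * z * g⁻¹) := by rw [hge]; group
          _ = k := by rw [← hvd, hv']
      rwa [h8] at h7
    · exact fin l⁻¹ (inv_mem hl) k hk (Or.inr hv2) ⟨inv_mem hl, hle, h5, hl1⟩

/-- (B): `z ∈ C_K(e)`, `g ∈ C(e)`, `z^g ∈ N(L)` imply `g ∈ N(L)` -/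
theorem fus [Finite G] {e z g : G} (he : B e) (hz : IsT L e z) (hge : g * e = e * g)
    (hv : g * z * g⁻¹ ∈ normalizer (L : Set G)) : g ∈ normalizer (L : Set G) := by
  by_contra hg
  have hW := H.wild_of he hz hge hv hg
  obtain ⟨v, hvd⟩ : ∃ v, v = g * z * g⁻¹ := ⟨_, rfl⟩
  rw [← hvd] at hW
  have hgi := inv_comm hge
  -- `v` centralises the conjugate of `Y e`
  have hvY : ∀ y ∈ Y e, v * (g * y * g⁻¹) * v⁻¹ = g * y * g⁻¹ := by
    intro y hy
    have h1 := comm_of_mem (H.YL he hy) hz.mem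
    rw [hvd]
    calc g * z * g⁻¹ * (g * y * g⁻¹) * (g * z * g⁻¹)⁻¹ = g * (z * y) * z⁻¹ * g⁻¹ := by group
      _ = g * (y * z) * z⁻¹ * g⁻¹ := by rw [h1]
      _ = g * y * g⁻¹ := by group
  -- the element `y₀`
  obtain ⟨y, hy, hyK⟩ : ∃ y ∈ Y e, g * y * g⁻¹ ∉ centralizer (L : Set G) := by
    by_contra h
    push Not at h
    exact H.nK2 he hge h
  obtain ⟨y0, hy0, d, hd, hyd⟩ := H.core' he (H.O_conj hge (H.YO he hy))
  have hy01 : y0 ≠ 1 := by
    rintro rfl
    rw [one_mul] at hyd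
    exact hyK (hyd ▸ hd)
  have hy0v : y0 * v = v * y0 := by
    have h5 := hvY y hy
    rw [hyd] at h5
    have h6 : v * y0 * v⁻¹ * (v * d * v⁻¹) = y0 * d := by
      calc v * y0 * v⁻¹ * (v * d * v⁻¹) = v * (y0 * d) * v⁻¹ := by group
        _ = y0 * d := h5
    have h7 := (H.uniq (L_conj hW.mem (H.YL he hy0)) (K_conj hW.mem hd) (H.YL he hy0) hd h6).1
    calc y0 * v = (v * y0 * v⁻¹) * v := by rw [h7]
      _ = v * y0 := by group
  obtain ⟨b, hb, hbS⟩ := H.wfix he v hW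
  have hbv := H.wcomm he v hW b hb
  -- `c = b^{g⁻¹}`
  have hcz : ∀ j, j * v = v * j → g⁻¹ * j * g * z = z * (g⁻¹ * j * g) := by
    intro j hj
    calc g⁻¹ * j * g * z = g⁻¹ * (j * (g * z * g⁻¹)) * g := by group
      _ = g⁻¹ * (g * z * g⁻¹ * j) * g := by rw [← hvd, hj]
      _ = z * (g⁻¹ * j * g) := by group
  have hce : g⁻¹ * b * g * e = e * (g⁻¹ * b * g) := by
    have h1 := cj_comm hgi hbS.comm
    rwa [inv_inv] at h1
  have hcM : g⁻¹ * b * g ∈ normalizer (L : Set G) := H.cte he hz (hcz b hbv) hce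
  have hcY := H.Yn he _ hcM hce y hy
  -- `y₀² ∈ L^g`
  have ha : g⁻¹ * (y0 * y0) * g ∈ L := by
    have h1 : b * d * b⁻¹ = d := by rw [comm_of_mem hbS.mem hd]; group
    have h2 : b * y0⁻¹ * b⁻¹ = y0 := by
      have h3 := H.inv he b hbS y0 hy0
      calc b * y0⁻¹ * b⁻¹ = (b * y0 * b⁻¹)⁻¹ := by group
        _ = y0 := by rw [h3, inv_inv]
    have h3 : y0 * y0 = (g * y * g⁻¹) * (b * (g * y * g⁻¹) * b⁻¹)⁻¹ := by
      rw [hyd]
      calc y0 * y0 = y0 * d * (b * d * b⁻¹)⁻¹ * y0 := by rw [h1]; group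
        _ = y0 * d * (b * d * b⁻¹)⁻¹ * (b * y0⁻¹ * b⁻¹) := by rw [h2]
        _ = y0 * d * (b * (y0 * d) * b⁻¹)⁻¹ := by group
    have h4 : g⁻¹ * (y0 * y0) * g = y * (g⁻¹ * b * g * y * (g⁻¹ * b * g)⁻¹)⁻¹ := by
      rw [h3]; group
    rw [h4]
    exact H.YL he (mul_mem hy (inv_mem hcY))
  have haJ : y0 * y0 ∈ J v := mul_mem (H.wmem he v hW y0 hy0 hy0v) (H.wmem he v hW y0 hy0 hy0v)
  have ha1 : y0 * y0 ≠ 1 := fun h => hy01 (H.eq_one_of_sq he hy0 h)
  -- `J v ≤ L^g`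
  obtain ⟨J0, hJ0⟩ : ∃ J0, J0 = J v ⊓ L.comap (MulAut.conj g⁻¹).toMonoidHom := ⟨_, rfl⟩
  have hm0 : ∀ x, x ∈ J0 ↔ x ∈ J v ∧ g⁻¹ * x * g ∈ L := by
    intro x
    rw [hJ0, mem_inf, mem_comap, MulEquiv.coe_toMonoidHom, MulAut.conj_apply, inv_inv]
  have haJ0 : y0 * y0 ∈ J0 := (hm0 _).mpr ⟨haJ, ha⟩
  have hgen : ∀ j ∈ J v, ∀ n ∈ J0, j * n * j⁻¹ ∈ normalizer (J0 : Set G) := by
    intro j hj n hn
    apply mem_normalizer_of
    intro m hm
    obtain ⟨hnJ, hnL⟩ := (hm0 n).mp hn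
    obtain ⟨hmJ, hmL⟩ := (hm0 m).mp hm
    rcases H.cmp he z hz (g⁻¹ * j * g) (hcz j (H.wcomm he v hW j hj)) with h | h
    · have h1 : j * n * j⁻¹ ∈ J0 := by
        rw [hm0]
        refine ⟨mul_mem (mul_mem hj hnJ) (inv_mem hj), ?_⟩
        have h2 := h _ hnL
        have h3 : g⁻¹ * j * g * (g⁻¹ * n * g) * (g⁻¹ * j * g)⁻¹ = g⁻¹ * (j * n * j⁻¹) * g := by group
        rwa [h3] at h2
      exact mul_mem (mul_mem h1 hm) (inv_mem h1)
    · have h2 := h _ hnL
      have h3 : g⁻¹ * j * g * (g⁻¹ * n * g) * (g⁻¹ * j * g)⁻¹ = g⁻¹ * (j * n * j⁻¹) * g := by group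
      rw [h3] at h2
      have h4 := comm_of_mem hmL h2
      have h5 : j * n * j⁻¹ * m * (j * n * j⁻¹)⁻¹ = m := by
        calc j * n * j⁻¹ * m * (j * n * j⁻¹)⁻¹
            = g * ((g⁻¹ * (j * n * j⁻¹) * g) * (g⁻¹ * m * g)) * g⁻¹ * (j * n * j⁻¹)⁻¹ := by group
          _ = g * ((g⁻¹ * m * g) * (g⁻¹ * (j * n * j⁻¹) * g)) * g⁻¹ * (j * n * j⁻¹)⁻¹ := by rw [h4]
          _ = m := by group
      rw [h5]
      exact hm
  obtain ⟨N, hN⟩ : ∃ N, N = closure {x | ∃ j ∈ J v, ∃ n ∈ J0, x = j * n * j⁻¹} := ⟨_, rfl⟩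
  have hNJ : N ≤ J v := by
    rw [hN, closure_le]
    rintro x ⟨j, hj, n, hn, rfl⟩
    exact mul_mem (mul_mem hj ((hm0 n).mp hn).1) (inv_mem hj)
  have hNn : N ≤ normalizer (J0 : Set G) := by
    rw [hN, closure_le]
    rintro x ⟨j, hj, n, hn, rfl⟩
    exact hgen j hj n hn
  have hNc : ∀ l ∈ J v, ∀ n ∈ N, l * n * l⁻¹ ∈ N := by
    intro l hl n hn
    rw [hN] at hn ⊢
    induction hn using closure_induction with
    | mem x hx =>
      obtain ⟨j, hj, n, hn, rfl⟩ := hx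
      apply Subgroup.subset_closure
      exact ⟨l * j, mul_mem hl hj, n, hn, by group⟩
    | one => simp
    | mul a b _ _ ha hb =>
      have : l * (a * b) * l⁻¹ = (l * a * l⁻¹) * (l * b * l⁻¹) := by group
      rw [this]; exact mul_mem ha hb
    | inv a _ ha =>
      have : l * a⁻¹ * l⁻¹ = (l * a * l⁻¹)⁻¹ := by group
      rw [this]; exact inv_mem ha
  have haN : y0 * y0 ∈ N := by
    rw [hN]
    exact Subgroup.subset_closure ⟨1, one_mem _, _, haJ0, by group⟩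
  have hNe : N = J v := by
    rcases H.wsimp he v hW N hNJ hNc with h | h
    · rw [h, mem_bot] at haN
      exact absurd haN ha1
    · exact h
  have hJe : J0 = J v := by
    rcases H.wsimp he v hW J0 (fun x hx => ((hm0 x).mp hx).1) (by
      intro l hl n hn
      have h1 : l ∈ normalizer (J0 : Set G) := hNn (by rw [hNe]; exact hl)
      exact (mem_normalizer_iff.mp h1 n).mp hn) with h | h
    · rw [h, mem_bot] at haJ0
      exact absurd haJ0 ha1
    · exact h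
  have hbL : g⁻¹ * b * g ∈ L := by
    rw [← hJe, hm0] at hb
    exact hb.2
  have hS' : IsS L e (g⁻¹ * b * g) := ⟨hbL, hce, by
    calc g⁻¹ * b * g * (g⁻¹ * b * g) = g⁻¹ * (b * b) * g := by group
      _ = 1 := by rw [hbS.sq]; group, by
    intro h
    apply hbS.ne
    calc b = g * (g⁻¹ * b * g) * g⁻¹ := by group
      _ = 1 := by rw [h]; group⟩
  apply hg
  have h1 := H.NY he g⁻¹ (fun y hy => H.Y_conj he hbS hS' hgi (by rw [inv_inv]) hy)
  have h2 := inv_mem h1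
  rwa [inv_inv] at h2

/-- `C(e) ≤ N(L)` -/
theorem main [Finite G] {e : G} (he : B e) {c : G} (hc : c * e = e * c) : c ∈ normalizer (L : Set G) := by
  obtain ⟨g, hgd⟩ : ∃ g, g = c := ⟨_, rfl⟩
  rw [← hgd] at hc ⊢
  by_contra hg
  have hee := H.mem he
  obtain ⟨t0, u0, hz, hu0, hne0, htu0⟩ := H.four he
  obtain ⟨z, hzd⟩ : ∃ z, z = t0 := ⟨_, rfl⟩
  have hz' : IsT L e z := hzd ▸ hz
  obtain ⟨s, hs⟩ := H.exS he
  have hsM : s ∈ normalizer (L : Set G) := L_le_M hs.mem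
  obtain ⟨v, hvd⟩ : ∃ v, v = g * z * g⁻¹ := ⟨_, rfl⟩
  have hve : v * e = e * v := by rw [hvd]; exact cj_comm hc hz'.comm
  have hvv : v * v = 1 := by
    rw [hvd]
    calc g * z * g⁻¹ * (g * z * g⁻¹) = g * (z * z) * g⁻¹ := by group
      _ = 1 := by rw [hz'.sq]; group
  have hvM : v ∉ normalizer (L : Set G) := fun h => hg (H.fus he hz' hc (hvd ▸ h))
  have hmem : ∀ {x : G}, x * e = e * x → x ∈ centralizer ({e} : Set G) :=
    fun h => mem_centralizer_singleton_iff.mpr h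
  have hmem' : ∀ {x : G}, x ∈ centralizer ({e} : Set G) → x * e = e * x :=
    fun h => mem_centralizer_singleton_iff.mp h
  -- an element of `C_K(e)` conjugate to `z` under `C(e)`
  have hfus : ∀ h : G, h * e = e * h → ∀ z', IsT L e z' → h * z' * h⁻¹ ∈ normalizer (L : Set G) →
      h * z' * h⁻¹ ∈ centralizer (L : Set G) := fun h hh z' hz'' hm =>
    K_conj (H.fus he hz'' hh hm) hz''.mem
  have hei := inv_comm hc
  rcases dih hs.sq hvv (hmem hs.comm) (hmem hve) with ⟨d, hd, hdv⟩ | ⟨u, huH, huu, hu1, hus, huv, d, hdH, hdu, hd⟩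
  · -- `s` is conjugate to `z` in `C(e)`
    have hde := hmem' hd
    have h1 : (d⁻¹ * g) * e = e * (d⁻¹ * g) := by
      calc (d⁻¹ * g) * e = d⁻¹ * (g * e) := by group
        _ = (d⁻¹ * e) * g := by rw [hc]; group
        _ = e * (d⁻¹ * g) := by rw [inv_comm hde]; group
    have h2 : (d⁻¹ * g) * z * (d⁻¹ * g)⁻¹ = s := by
      calc (d⁻¹ * g) * z * (d⁻¹ * g)⁻¹ = d⁻¹ * (g * z * g⁻¹) * d := by group
        _ = d⁻¹ * (d * s * d⁻¹) * d := by rw [← hvd, hdv]
        _ = s := by group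
    have h3 := hfus _ h1 z hz' (by rw [h2]; exact hsM)
    rw [h2] at h3
    exact hs.ne (H.disj _ hs.mem h3)
  have hue := hmem' huH
  have hde := hmem' hdH
  have huM : u ∈ normalizer (L : Set G) := H.ces he hs hue hus
  -- `u` is not in the conjugate of `K`
  have hnF : g⁻¹ * u * g ∉ centralizer (L : Set G) := by
    intro h
    have h1 : IsT L e (g⁻¹ * u * g) := ⟨h, by
      have h2 := cj_comm hei hue
      rwa [inv_inv] at h2, by
      calc g⁻¹ * u * g * (g⁻¹ * u * g) = g⁻¹ * (u * u) * g := by group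
        _ = 1 := by rw [huu]; group, by
      intro h2
      apply hu1
      calc u = g * (g⁻¹ * u * g) * g⁻¹ := by group
        _ = 1 := by rw [h2]; group⟩
    apply hg
    apply H.fus he h1 hc
    have h2 : g * (g⁻¹ * u * g) * g⁻¹ = u := by group
    rw [h2]; exact huM
  rcases hd with hd | hd
  · -- `v^d = uv`
    obtain ⟨h, hhd⟩ : ∃ h, h = g⁻¹ * d * g := ⟨_, rfl⟩
    have h1 : h * e = e * h := by
      rw [hhd]
      have h2 := cj_comm hei hde
      rwa [inv_inv] at h2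
    have h2 : h * z * h⁻¹ = g⁻¹ * (u * v) * g := by
      rw [← hd, hhd, hvd]; group
    have h3 : h * z * h⁻¹ ∈ normalizer (L : Set G) := by
      refine H.cte he hz' ?_ (cj_comm h1 hz'.comm)
      rw [h2]
      have h4 : u * v * v = v * (u * v) := (congrArg (· * v) huv).trans (mul_assoc v u v)
      calc g⁻¹ * (u * v) * g * z = g⁻¹ * (u * v * (g * z * g⁻¹)) * g := by group
        _ = g⁻¹ * (v * (u * v)) * g := by rw [← hvd, h4]
        _ = z * (g⁻¹ * (u * v) * g) := by rw [hvd]; group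
    have h4 := hfus h h1 z hz' h3
    rw [h2] at h4
    apply hnF
    have h5 : g⁻¹ * u * g = g⁻¹ * (u * v) * g * z⁻¹ := by
      rw [hvd]; group
    rw [h5]
    exact mul_mem h4 (inv_mem hz'.mem)
  · -- `v^d = su =: r'`
    obtain ⟨r, hrd⟩ : ∃ r, r = s * u := ⟨_, rfl⟩
    rw [← hrd] at hd
    have h1 : (d * g) * e = e * (d * g) := by
      calc (d * g) * e = d * (g * e) := by group
        _ = (d * e) * g := by rw [hc]; group
        _ = e * (d * g) := by rw [hde]; group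
    have h2 : (d * g) * z * (d * g)⁻¹ = r := by
      calc (d * g) * z * (d * g)⁻¹ = d * (g * z * g⁻¹) * d⁻¹ := by group
        _ = r := by rw [← hvd, hd]
    have hrM : r ∈ normalizer (L : Set G) := by rw [hrd]; exact mul_mem hsM huM
    have hrK : r ∈ centralizer (L : Set G) := by
      have h3 := hfus _ h1 z hz' (by rw [h2]; exact hrM)
      rwa [h2] at h3
    have hre : r * e = e * r := by
      rw [hrd]
      calc s * u * e = s * (u * e) := by group
        _ = (s * e) * u := by rw [hue]; group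
        _ = e * (s * u) := by rw [hs.comm]; group
    have hrr : r * r = 1 := by
      rw [hrd]
      calc s * u * (s * u) = s * (u * s) * u := by group
        _ = (s * s) * (u * u) := by rw [hus]; group
        _ = 1 := by rw [hs.sq, huu, one_mul]
    have hr1 : r ≠ 1 := by
      intro h
      have h3 : v = 1 := by
        calc v = d⁻¹ * (d * v * d⁻¹) * d := by group
          _ = 1 := by rw [hd, h]; group
      exact hvM (h3 ▸ one_mem _)
    have hrT : IsT L e r := ⟨hrK, hre, hrr, hr1⟩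
    have hsr : u = s * r := by rw [hrd, ← mul_assoc, hs.sq, one_mul]
    have hru : r * u = u * r := by
      rw [hrd]
      calc s * u * u = u * s * u := by rw [hus]
        _ = u * (s * u) := by group
    -- `C := C(e, u)`
    have hmC : ∀ {x : G}, x * e = e * x → x * u = u * x →
        x ∈ centralizer ({e} : Set G) ⊓ centralizer ({u} : Set G) := fun h1 h2 =>
      ⟨mem_centralizer_singleton_iff.mpr h1, mem_centralizer_singleton_iff.mpr h2⟩
    rcases Cfsg.Agent.UGT.SL.zstar_sub (X := centralizer ({e} : Set G) ⊓ centralizer ({u} : Set G)) (hmC hre hru)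
      hrr hr1 with ⟨h, hh, hne, hcomm⟩ | ⟨N, hNX, hNodd, hNn, hNc⟩
    · have hhe := mem_centralizer_singleton_iff.mp hh.1
      have hhu := mem_centralizer_singleton_iff.mp hh.2
      have h3 : h * r * h⁻¹ ∈ normalizer (L : Set G) := H.cte he hrT hcomm.symm (cj_comm hhe hre)
      have hhM := H.fus he hrT hhe h3
      have h4 := hfus h hhe r hrT h3
      have h5 : h * s * h⁻¹ * (h * r * h⁻¹) = s * r := by
        calc h * s * h⁻¹ * (h * r * h⁻¹) = h * (s * r) * h⁻¹ := by group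
          _ = u := by rw [← hsr, hhu]; group
          _ = s * r := hsr
      exact hne (H.uniq (L_conj hhM hs.mem) h4 hs.mem hrK h5).2
    · -- `N ≤ M`
      obtain ⟨x, hx, y, hy, hxx, hyy, hxy, hx1, hy1, hxy1, hkx, hky⟩ := exists_four_commute'
        (K := centralizer (L : Set G) ⊓ centralizer ({e} : Set G)) (k := r)
        ⟨hz.mem, hmem hz.comm⟩ ⟨hu0.mem, hmem hu0.comm⟩ hz.sq hu0.sq htu0 hz.ne hu0.ne hne0
        ⟨hrK, hmem hre⟩ hrr
      have hxT : IsT L e x := ⟨hx.1, hmem' hx.2, hxx, hx1⟩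
      have hyT : IsT L e y := ⟨hy.1, hmem' hy.2, hyy, hy1⟩
      have hxyT := isT_mul hxT hyT hxy1 hxy
      have hcu : ∀ f, IsT L e f → r * f = f * r → f ∈ centralizer ({e} : Set G) ⊓ centralizer ({u} : Set G) := by
        intro f hf hrf
        apply hmC hf.comm
        have h3 := comm_of_mem hs.mem hf.mem
        rw [hsr]
        calc f * (s * r) = (s * f) * r := by rw [h3]; group
          _ = s * r * f := by rw [mul_assoc, ← hrf]; group
      have hNM : N ≤ normalizer (L : Set G) := by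
        refine Cfsg.Agent.Lib.KleinGen.le_of_klein N _ hNodd x y hxx hyy hxy
          (fun a ha => hNn x (hcu x hxT hkx) a ha) (fun a ha => hNn y (hcu y hyT hky) a ha) ?_ ?_ ?_
        · intro c hc
          exact H.cte he hxT (mem_centralizer_singleton_iff.mp hc.2) (mem_centralizer_singleton_iff.mp (hNX hc.1).1)
        · intro c hc
          exact H.cte he hyT (mem_centralizer_singleton_iff.mp hc.2) (mem_centralizer_singleton_iff.mp (hNX hc.1).1)
        · intro c hc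
          exact H.cte he hxyT (mem_centralizer_singleton_iff.mp hc.2)
            (mem_centralizer_singleton_iff.mp (hNX hc.1).1)
      have hdC : d⁻¹ ∈ centralizer ({e} : Set G) ⊓ centralizer ({u} : Set G) :=
        inv_mem (hmC hde hdu)
      have h3 := hNM (hNc d⁻¹ hdC)
      have h4 : v = r⁻¹ * (r * d⁻¹ * r⁻¹ * d⁻¹⁻¹) := by
        have hri : r⁻¹ = r := inv_eq_of_mul_eq_one_left hrr
        have h5 : v = d⁻¹ * r * d := by rw [← hd]; group
        rw [h5]
        calc d⁻¹ * r * d = d⁻¹ * r⁻¹ * d := by rw [hri]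
          _ = r⁻¹ * (r * d⁻¹ * r⁻¹ * d⁻¹⁻¹) := by group
      apply hvM
      rw [h4]
      exact mul_mem (inv_mem hrM) h3

end PConf

end Cfsg.Agent.UGT.CE
end

-- part: UGT/CE/PairL34
section
set_option linter.all false
open scoped Cfsg.Agent.FastGrp

/-!
# `C(e) ≤ N(L)` for bad involutions `e`, paired version: `L = L₃(4)`
-/

set_option autoImplicit false

open Subgroup

namespace Cfsg.Agent.UGT.CE.L34

open Cfsg.Agent.UGT.ThE.Base (IsT IsS comm_of_mem L_conj L_conj' K_le_M L_le_M K_conj K_conj' exists_central)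
open Cfsg.Agent.UGT.CE.Base
open Cfsg.Agent.UGT.ThEL34 (Acts Facts Facts2 fx mem_fx exists_acts acts_one_iff acts_coe acts_of_mem acts_one
  acts_norm exists_hom)

universe u

variable {G : Type u} [Group G]

/-- the image in `Aut L` of a perfect subgroup -/
theorem image_perfect' {L : Subgroup G} {Q : Subgroup G} (hQ : Q ≤ normalizer (L : Set G)) (hp : Q ≤ ⁅Q, Q⁆) :
    ∃ R : Subgroup (MulAut L), R ≤ ⁅R, R⁆ ∧ (∀ q ∈ Q, ∀ a, Acts L q a → a ∈ R) ∧
      ∀ a ∈ R, ∃ q ∈ Q, Acts L q a := by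
  obtain ⟨f, hf⟩ : ∃ f : Q →* MulAut L, ∀ q : Q, Acts L (q : G) (f q) :=
    ⟨L.normalizerMonoidHom.comp (inclusion hQ), fun q => acts_norm _⟩
  refine ⟨f.range, ?_, ?_, ?_⟩
  · rw [MonoidHom.range_eq_map, ← map_commutator]
    apply map_mono
    rw [← map_le_map_iff_of_injective Q.subtype_injective, map_commutator, ← MonoidHom.range_eq_map,
      range_subtype]
    exact hp
  · intro q hq a ha
    exact ⟨⟨q, hq⟩, (hf _).uniq ha⟩
  · rintro _ ⟨q, rfl⟩
    exact ⟨q, q.2, hf q⟩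

/-- The hypotheses in `G` (paired case). -/
structure PGrp (O : G → Subgroup G) (L : Subgroup G) (B : G → Prop) : Prop extends Grp0 O L B where
  cY : ∀ {e}, B e → ∀ X : MulAut L, Acts L e X → Facts4 X
  Bcj : ∀ {e}, B e → ∀ l ∈ L, B (l * e * l⁻¹)
  Bt : ∀ {e}, B e → ∀ t, IsT L e t → B (e * t)
  four : ∀ {e}, B e → ∃ t u, IsT L e t ∧ IsT L e u ∧ t ≠ u ∧ t * u = u * t
  /-- `L` is the only component of its class of `C(t)` moved by `O(C(e))` -/
  uni : ∀ {e}, B e → ∀ z, IsT L e z → ∀ g, g * e = e * g → IsT L e (g * z * g⁻¹) →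
    g ∈ normalizer (L : Set G)
  /-- `L` is a component of `C(t)` -/
  cmp : ∀ {e}, B e → ∀ t, IsT L e t → ∀ c, c * t = t * c →
    (∀ l ∈ L, c * l * c⁻¹ ∈ L) ∨ ∀ l ∈ L, c * l * c⁻¹ ∈ centralizer (L : Set G)
  fin : ∀ {e}, B e → ∀ t, IsT L e t → O t ≤ centralizer (L : Set G)
  nc : ∀ {e}, B e → ∀ g, g * e = e * g → ¬ ∀ l ∈ L, g * l * g⁻¹ ∈ centralizer (L : Set G)
  /-- Theorem H -/
  NY : ∀ {e}, B e → ∀ c, (∀ y ∈ YY L e, c * y * c⁻¹ ∈ YY L e) → c ∈ normalizer (L : Set G)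
  /-- `O(C_L(e)) ≤ O(C(e))` -/
  bad : ∀ {e}, B e → ∀ y ∈ L, y ^ 3 = 1 → y * e = e * y → y ∈ O e

namespace PGrp

variable {O : G → Subgroup G} {L : Subgroup G} {B : G → Prop} (H : PGrp O L B)
include H

theorem perf {e : G} (he : B e) : L ≤ ⁅L, L⁆ := by
  obtain ⟨X, hX, F⟩ := H.facts he
  have hs := F.simp
  have h1 : commutator L = ⊤ := by
    rcases hs.eq_bot_or_eq_top_of_normal (commutator L) inferInstance with h | h
    · exfalso
      obtain ⟨s, hss, hs1, -⟩ := F.exs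
      apply hs1
      apply F.cl
      ext m
      rw [MulAut.conj_apply, MulAut.one_apply]
      have h2 : s * m * s⁻¹ * m⁻¹ ∈ commutator L := by
        rw [_root_.commutator_def]
        exact commutator_mem_commutator (mem_top s) (mem_top m)
      rw [h, mem_bot] at h2
      congr 1
      exact mul_inv_eq_one.mp h2
    · exact h
  have h2 : ⁅L, L⁆ = (commutator L).map L.subtype := (map_subtype_commutator L).symm
  rw [h2, h1, ← MonoidHom.range_eq_map, range_subtype]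

theorem solY {e : G} (he : B e) (Q : Subgroup G) (hQ : Q ≤ normalizer (L : Set G))
    (hQY : ∀ x ∈ Q, ∀ y ∈ YY L e, x * y = y * x) (hp : Q ≤ ⁅Q, Q⁆) : Q ≤ centralizer (L : Set G) := by
  obtain ⟨X, hX, F⟩ := H.facts he
  have F4 := H.cY he X hX
  obtain ⟨R, hR, hR1, hR2⟩ := image_perfect' hQ hp
  -- the elements of `R`
  have key : ∀ a ∈ R, ∃ l : L, a = MulAut.conj l ∧ l ^ 3 = 1 ∧ X l = l ∧
      ∀ y : L, y ^ 3 = 1 → X y = y → l * y = y * l := by
    intro a ha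
    obtain ⟨q, hq, hqa⟩ := hR2 a ha
    obtain ⟨l, hl⟩ := F.out R hR a ha
    have h1 : ∀ y : L, y ^ 3 = 1 → X y = y → l * y = y * l := by
      intro y hy hXy
      have h2 : (y : G) ∈ YY L e := subset_closure ⟨y.2, congrArg Subtype.val hy, (fix_iff' hX y).mp hXy⟩
      have h3 := (hqa.comm (acts_coe y) (hQY q hq y h2))
      rw [hl] at h3
      exact (F.conj_comm_iff l y).mp h3
    exact ⟨l, hl, (F4.cY l h1).1, (F4.cY l h1).2, h1⟩
  have hbot : R = ⊥ := by
    rw [eq_bot_iff]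
    refine hR.trans ?_
    rw [commutator_le]
    intro a ha b hb
    obtain ⟨l, rfl, h1, h2, h3⟩ := key a ha
    obtain ⟨m, rfl, h4, h5, h6⟩ := key b hb
    rw [mem_bot, commutatorElement_def, ← map_mul, h3 m h4 h5, map_mul]
    group
  intro q hq
  obtain ⟨a, ha⟩ := exists_acts (hQ hq)
  have h1 : a ∈ R := hR1 q hq a ha
  rw [hbot, mem_bot] at h1
  rw [h1] at ha
  exact acts_one_iff.mp ha

/-- The configuration of `PConf.main`. -/
theorem conf [Finite G] {e₀ : G} (he₀ : B e₀) : PConf O (YY L) (JJ L) L B where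
  Ocj := H.Ocj
  Oc := H.Oc
  perf := H.perf he₀
  disj l hl hk := H.toGrp0.disj he₀ hl hk
  sq := H.sq
  mem he := by
    obtain ⟨X, hX, F⟩ := H.facts he
    exact hX.mem
  odd := H.odd
  Bcj := H.Bcj
  Bt := H.Bt
  four := H.four
  uni := H.uni
  cmp := H.cmp
  fin := H.fin
  nc := H.nc
  NY := H.NY
  YL he y hy := by
    obtain ⟨X, hX, F⟩ := H.facts he
    exact ((mem_YY hX F.toFacts).mp hy).1
  YO he y hy := by
    obtain ⟨X, hX, F⟩ := H.facts he
    obtain ⟨h1, h2, h3⟩ := (mem_YY hX F.toFacts).mp hy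
    exact H.bad he y h1 h2 h3
  Yt {e} he t ht y hy := by
    obtain ⟨X, hX, F⟩ := H.facts he
    obtain ⟨h1, h2, h3⟩ := (mem_YY hX F.toFacts).mp hy
    refine subset_closure ⟨h1, h2, ?_⟩
    calc y * (e * t) = (y * e) * t := by group
      _ = e * (y * t) := by rw [h3]; group
      _ = e * t * y := by rw [comm_of_mem h1 ht.mem]; group
  Yn he c hcM hce y hy := by
    obtain ⟨X, hX, F⟩ := H.facts he
    obtain ⟨h1, h2, h3⟩ := (mem_YY hX F.toFacts).mp hy
    refine subset_closure ⟨L_conj hcM h1, ?_, cj_comm hce h3⟩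
    rw [conj_pow, h2]
    group
  core := H.toGrp0.core
  exS := H.toGrp0.exS
  inv := H.toGrp0.inv
  cj := H.toGrp0.cj
  gen1 := H.toGrp0.gen1
  solY := H.solY
  wcomm _ v _ j hj := (mem_JJ.mp hj).2
  wsimp := H.toGrp0.wsimp
  wfix := H.toGrp0.wfix
  wmem he v hv y hy hyv := by
    obtain ⟨X, hX, F⟩ := H.facts he
    exact mem_JJ.mpr ⟨((mem_YY hX F.toFacts).mp hy).1, hyv⟩

/-- `C(e) ≤ N(L)` for bad `e` -/
theorem main [Finite G] {e : G} (he : B e) {c : G} (hc : c * e = e * c) : c ∈ normalizer (L : Set G) :=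
  (H.conf he).main he hc

end PGrp

end Cfsg.Agent.UGT.CE.L34
end

-- part: UGT/ThEP/Four
section
prune_inst 0xd03007200022100000180502200020441000000000630001d9610400000613202900270140601a115002aa402000006001100050423000000a00000040040000802a52069348a10427008780b007180c00000000000000000000000000041000000000000
set_option linter.all false
open scoped Cfsg.Agent.FastGrp

/-!
# Theorem E for `L = L₃(4)`, paired case: `x` normalises exactly one conjugate of `L`
-/

set_option autoImplicit false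

open Subgroup

namespace Cfsg.Agent.UGT.ThEP

open Cfsg.Agent.UGT.ThE.Base (comm_of_mem L_conj L_conj' K_le_M L_le_M K_conj K_conj' IsT IsS IsT1 exists_central
  exists_sqrt)
open Cfsg.Agent.UGT.ThEL34
open Cfsg.Agent.UGT.CE.L34 (Facts3 Facts4 YY mem_YY)

/-- an involutory automorphism of a 2-group `P` leaving the proper subgroup `D` invariant fixes a coset `p D ≠ D` -/
theorem fixed_coset {Γ : Type*} [Group Γ] (σ : MulAut Γ) (hσ : σ * σ = 1) (P D : Subgroup Γ) [Finite P]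
    (hP : IsPGroup 2 P) (hPσ : ∀ p ∈ P, σ p ∈ P) (hDσ : ∀ d ∈ D, σ d ∈ D) (hDP : D ≤ P) (hne : ¬ P ≤ D) :
    ∃ p ∈ P, p ∉ D ∧ p⁻¹ * σ p ∈ D := by
  have hp : Fact (Nat.Prime 2) := ⟨Nat.prime_two⟩
  have hσσ : ∀ d, σ (σ d) = d := fun d => by
    rw [← MulAut.mul_apply, hσ, MulAut.one_apply]
  obtain ⟨n, hn⟩ := hP.exists_card_eq
  have hcard : 2 ∣ Nat.card (P ⧸ D.subgroupOf P) := by
    have h1 : Nat.card (P ⧸ D.subgroupOf P) ∣ Nat.card P := (D.subgroupOf P).card_quotient_dvd_card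
    rw [hn] at h1
    obtain ⟨k, -, hk⟩ := (Nat.dvd_prime_pow Nat.prime_two).mp h1
    rcases Nat.eq_zero_or_pos k with h0 | h0
    · exfalso
      apply hne
      rw [h0, pow_zero] at hk
      have h2 : D.subgroupOf P = ⊤ := by
        rw [← index_eq_one]
        exact hk
      exact subgroupOf_eq_top.mp h2
    · rw [hk]
      exact dvd_pow_self 2 (by omega)
  have hmap : ∀ a b : P, a⁻¹ * b ∈ D.subgroupOf P →
      (⟨σ a, hPσ _ a.2⟩ : P)⁻¹ * ⟨σ b, hPσ _ b.2⟩ ∈ D.subgroupOf P := by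
    intro a b hab
    rw [mem_subgroupOf] at hab ⊢
    change (σ (a : Γ))⁻¹ * σ (b : Γ) ∈ D
    rw [← map_inv, ← map_mul]
    exact hDσ _ hab
  obtain ⟨f, hf⟩ : ∃ f : (P ⧸ D.subgroupOf P) → (P ⧸ D.subgroupOf P), ∀ p : P,
      f (p : P ⧸ D.subgroupOf P) = ((⟨σ p, hPσ _ p.2⟩ : P) : P ⧸ D.subgroupOf P) :=
    ⟨Quotient.map' (fun p : P => (⟨σ p, hPσ _ p.2⟩ : P)) (fun a b hab => by
      rw [QuotientGroup.leftRel_apply] at hab ⊢
      exact hmap a b hab), fun p => rfl⟩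
  have hff : ∀ q, f (f q) = q := by
    intro q
    induction q using QuotientGroup.induction_on with
    | H p =>
      rw [hf, hf]
      congr 1
      exact Subtype.ext (hσσ p)
  let F : Equiv.Perm (P ⧸ D.subgroupOf P) := ⟨f, f, hff, hff⟩
  obtain ⟨q, hq1, hq⟩ := exists_fixed_ne F hff hcard (a := ((1 : P) : P ⧸ D.subgroupOf P)) (by
    change f _ = _
    rw [hf]
    congr 1
    exact Subtype.ext (map_one σ))
  induction q using QuotientGroup.induction_on with
  | H p =>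
    refine ⟨p, p.2, ?_, ?_⟩
    · intro h
      apply hq1
      rw [QuotientGroup.eq, mul_one]
      exact inv_mem (mem_subgroupOf.mpr h)
    · have h1 : f (p : P ⧸ D.subgroupOf P) = (p : P ⧸ D.subgroupOf P) := hq
      rw [hf, eq_comm, QuotientGroup.eq, mem_subgroupOf] at h1
      exact h1

variable {G : Type*} [Group G]

namespace Base

variable {L : Subgroup G} {x : G} (H : Base L x)
include H

theorem no [Finite G] {g : G} (hg : g ∉ normalizer (L : Set G)) (hx : g⁻¹ * x * g ∈ normalizer (L : Set G))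
    (h : ∀ l ∈ L, g * l * g⁻¹ ∈ normalizer (L : Set G)) : False := by
  rcases H.star h with h1 | h1
  · exact hg h1
  · exact H.twin g hx h1

/-- `x` inner on `g L g⁻¹` -/
theorem fix_inner [Finite G] {X : MulAut L} (hX : Acts L x X) (F : Facts X) {g : G}
    (hg : g ∉ normalizer (L : Set G)) {s₀ : L}
    (hs₀ : s₀ * s₀ = 1) (hs1 : s₀ ≠ 1) (hy : Acts L (g⁻¹ * x * g) (MulAut.conj s₀)) : False := by
  have hxg := hy.mem
  obtain ⟨y, hyd⟩ : ∃ y, y = g⁻¹ * x * g := ⟨_, rfl⟩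
  rw [← hyd] at hy
  have exg : x = g * y * g⁻¹ := by rw [hyd]; group
  have hs₀' : (s₀ : G) * s₀ = 1 := congrArg Subtype.val hs₀
  obtain ⟨a, b, ha, hb, hab⟩ := F.cmt s₀ hs₀ hs1
  have hcm : ∀ c : L, c * s₀ = s₀ * c → (g * (c : G) * g⁻¹) * x = x * (g * (c : G) * g⁻¹) := by
    intro c hc
    have h1 : y * (c : G) = c * y := (hy.fix_iff c).mp (by
      rw [MulAut.conj_apply, ← hc, mul_inv_cancel_right])
    calc g * (c : G) * g⁻¹ * x = g * (c : G) * g⁻¹ * (g * y * g⁻¹) := by rw [← exg]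
      _ = g * (c * y) * g⁻¹ := by group
      _ = g * (y * c) * g⁻¹ := by rw [h1]
      _ = (g * y * g⁻¹) * (g * (c : G) * g⁻¹) := by group
      _ = x * (g * (c : G) * g⁻¹) := by rw [← exg]
  obtain ⟨s₁, hs₁⟩ : ∃ s₁, s₁ = g * (s₀ : G) * g⁻¹ := ⟨_, rfl⟩
  obtain ⟨α, hα⟩ := exists_acts (H.Cx (hcm a ha))
  obtain ⟨β, hβ⟩ := exists_acts (H.Cx (hcm b hb))
  have hσ : Acts L s₁ (α * β * α⁻¹ * β⁻¹) := by
    have h1 := ((hα.mul hβ).mul hα.inv).mul hβ.inv
    have h2 : s₁ = g * (a : G) * g⁻¹ * (g * (b : G) * g⁻¹) * (g * (a : G) * g⁻¹)⁻¹ *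
        (g * (b : G) * g⁻¹)⁻¹ := by
      rw [hs₁, hab]
      change g * ((a : G) * b * (a : G)⁻¹ * (b : G)⁻¹) * g⁻¹ = _
      group
    rw [h2]; exact h1
  have hchi : ∀ χ : MulAut L →* ℤˣ, χ (α * β * α⁻¹ * β⁻¹) = 1 := by
    intro χ
    rw [map_mul, map_mul, map_mul, map_inv, map_inv, mul_comm (χ α), mul_assoc (χ β), mul_inv_cancel,
      mul_one, mul_inv_cancel]
  have hs₁s : s₁ * s₁ = 1 := by
    rw [hs₁]
    calc g * (s₀ : G) * g⁻¹ * (g * (s₀ : G) * g⁻¹) = g * (s₀ * s₀) * g⁻¹ := by group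
      _ = 1 := by rw [hs₀']; group
  have hs₁1 : s₁ ≠ 1 := by
    intro h
    apply hs1
    apply Subtype.ext
    calc (s₀ : G) = g⁻¹ * s₁ * g := by rw [hs₁]; group
      _ = 1 := by rw [h]; group
  have hs₁x : s₁ * x = x * s₁ := by rw [hs₁]; exact hcm s₀ rfl
  have hw : ¬ Wild X (α * β * α⁻¹ * β⁻¹) := by
    obtain ⟨χ, -, h⟩ := F.chi1
    intro h1
    have h2 := h _ h1
    rw [hchi] at h2
    exact absurd h2 (by decide)
  obtain ⟨χ, hχ⟩ := F.chi0
  have hlx : ∀ l ∈ L, (g * l * g⁻¹) * (x * s₁) = (x * s₁) * (g * l * g⁻¹) := by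
    intro l hl
    have h1 : y * s₀ ∈ centralizer (L : Set G) := by
      have h2 := hy.mul_inv_mem (acts_coe s₀)
      rwa [inv_eq_of_mul_eq_one_left hs₀'] at h2
    have h2 := comm_of_mem hl h1
    have h3 : x * s₁ = g * (y * s₀) * g⁻¹ := by rw [hs₁, exg]; group
    rw [h3]
    calc g * l * g⁻¹ * (g * (y * s₀) * g⁻¹) = g * (l * (y * s₀)) * g⁻¹ := by group
      _ = g * (y * s₀ * l) * g⁻¹ := by rw [h2]
      _ = _ := by group
  have hnx : ∀ {t : G}, IsT1 L x t → s₁ ≠ x * t := by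
    intro t ht h
    have h1 := hX.mulK ht.mem
    rw [← h] at h1
    have h2 := hchi χ
    rw [hσ.uniq h1, hχ] at h2
    exact absurd h2 (by decide)
  rcases H.cls hX F hs₁x hs₁s hs₁1 hσ hw with h1 | ⟨t₁, ht₁, h1⟩ | ⟨s, hs, t₁, ht₁, h1⟩ | ⟨s, hs, t₁, ht₁, h1⟩
  · exact H.no hg hxg (fun l hl => H.Ce s₁ ⟨h1.mem, h1.comm, h1.sq⟩ _ (hlx l hl))
  · exact hnx ht₁ h1
  · have e1 : x * s₁ = x * s * t₁ := by rw [h1]; group
    exact H.no hg hxg (fun l hl => H.Cxst hs ht₁ (by rw [← e1]; exact hlx l hl))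
  · have h2 := (hX.mul (acts_of_mem hs.mem)).mulK ht₁.mem
    rw [← h1] at h2
    have h3 := hchi χ
    rw [hσ.uniq h2, map_mul, hχ, F.chi_conj] at h3
    exact absurd h3 (by decide)

/-- `t ∈ C_K(x)` an involution in `g L g⁻¹` fixed by ...: `C_{g L g⁻¹}(t) ≤ M` -/
theorem cent_le [Finite G] {g : G} (hxg : g⁻¹ * x * g ∈ normalizer (L : Set G))
    (hP2 : ∀ j : L, j * j = 1 → j ≠ 1 → IsPGroup 2 (centralizer ({j} : Set L)))
    {j : L} (hj : IsT L x (g * (j : G) * g⁻¹)) {p : L} (hp : p * j = j * p) :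
    g * (p : G) * g⁻¹ ∈ normalizer (L : Set G) := by
  obtain ⟨y, hyd⟩ : ∃ y, y = g⁻¹ * x * g := ⟨_, rfl⟩
  rw [← hyd] at hxg
  have exg : x = g * y * g⁻¹ := by rw [hyd]; group
  have hyy : y * y = 1 := by
    rw [hyd]
    calc g⁻¹ * x * g * (g⁻¹ * x * g) = g⁻¹ * (x * x) * g := by group
      _ = 1 := by rw [H.xx]; group
  obtain ⟨a, ha⟩ := exists_acts hxg
  have haj : a j = j := by
    rw [ha.fix_iff]
    have h1 := hj.comm
    rw [exg] at h1
    calc y * (j : G) = g⁻¹ * (g * y * g⁻¹ * (g * (j : G) * g⁻¹)) * g := by group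
      _ = g⁻¹ * (g * (j : G) * g⁻¹ * (g * y * g⁻¹)) * g := by rw [h1]
      _ = j * y := by group
  have hjj : j * j = 1 := by
    apply Subtype.ext
    have h1 := hj.sq
    calc (j : G) * j = g⁻¹ * (g * (j : G) * g⁻¹ * (g * (j : G) * g⁻¹)) * g := by group
      _ = 1 := by rw [h1]; group
  have hj1 : j ≠ 1 := by
    rintro rfl
    apply hj.ne
    rw [OneMemClass.coe_one]; group
  obtain ⟨P, hP⟩ : ∃ P, P = centralizer ({j} : Set L) := ⟨_, rfl⟩
  obtain ⟨D, hD⟩ : ∃ D, D = P ⊓ (normalizer (L : Set G)).comap ((MulAut.conj g).toMonoidHom.comp L.subtype) :=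
    ⟨_, rfl⟩
  have hPm : ∀ q, q ∈ P ↔ q * j = j * q := fun q => by rw [hP, mem_centralizer_singleton_iff]
  have hDm : ∀ q, q ∈ D ↔ q * j = j * q ∧ g * (q : G) * g⁻¹ ∈ normalizer (L : Set G) := fun q => by
    rw [hD, mem_inf, hPm]; exact Iff.rfl
  have hcon : ∀ q : L, g * (a q : G) * g⁻¹ = x * (g * (q : G) * g⁻¹) * x⁻¹ := by
    intro q
    rw [ha q, exg]; group
  by_contra hpM
  have hPa : ∀ q ∈ P, a q ∈ P := by
    intro q hq
    rw [hPm] at hq ⊢
    rw [← haj, ← map_mul, hq, map_mul, haj]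
  obtain ⟨q, hqP, hqD, hq⟩ := fixed_coset a (ha.sq hyy) P D (hP ▸ hP2 j hjj hj1) hPa
    (by
      intro q hq
      obtain ⟨h1, h2⟩ := (hDm q).mp hq
      refine (hDm _).mpr ⟨(hPm _).mp (hPa q ((hPm q).mpr h1)), ?_⟩
      rw [hcon]
      exact mul_mem (mul_mem H.xM h2) (inv_mem H.xM))
    (fun q hq => (hPm q).mpr ((hDm q).mp hq).1)
    (fun h => hpM ((hDm p).mp (h ((hPm p).mpr hp))).2)
  rw [hPm] at hqP
  obtain ⟨c, hc⟩ : ∃ c, c = g * (q : G) * g⁻¹ := ⟨_, rfl⟩
  have hcM : c ∉ normalizer (L : Set G) := fun h => hqD ((hDm q).mpr ⟨hqP, hc ▸ h⟩)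
  have hct : c * (g * (j : G) * g⁻¹) * c⁻¹ = g * (j : G) * g⁻¹ := by
    have h1 : (q : G) * j = j * q := congrArg Subtype.val hqP
    rw [hc]
    calc g * (q : G) * g⁻¹ * (g * (j : G) * g⁻¹) * (g * (q : G) * g⁻¹)⁻¹
        = g * (q * j) * (q : G)⁻¹ * g⁻¹ := by group
      _ = g * (j * q) * (q : G)⁻¹ * g⁻¹ := by rw [h1]
      _ = g * (j : G) * g⁻¹ := by group
  rcases H.cmp _ _ c hj hj hct with h1 | h1
  · exact hcM h1
  · refine H.twin c ?_ h1
    have h2 : c⁻¹ * x * c = (g * ((q⁻¹ * a q : L) : G) * g⁻¹) * x := by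
      rw [Subgroup.coe_mul, Subgroup.coe_inv]
      calc c⁻¹ * x * c = (g * (q : G)⁻¹ * g⁻¹) * (x * (g * (q : G) * g⁻¹) * x⁻¹) * x := by rw [hc]; group
        _ = (g * (q : G)⁻¹ * g⁻¹) * (g * (a q : G) * g⁻¹) * x := by rw [← hcon]
        _ = _ := by group
    rw [h2]
    exact mul_mem ((hDm _).mp hq).2 H.xM

/-- `x` wild on `g L g⁻¹` -/
theorem fix_wild [Finite G] {X : MulAut L} (hX : Acts L x X) (F : Facts X)
    (hP2 : ∀ j : L, j * j = 1 → j ≠ 1 → IsPGroup 2 (centralizer ({j} : Set L))) {g : G}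
    (hg : g ∉ normalizer (L : Set G)) {a : MulAut L} (hy : Acts L (g⁻¹ * x * g) a) (hw : Wild X a) : False := by
  have hxg := hy.mem
  obtain ⟨y, hyd⟩ : ∃ y, y = g⁻¹ * x * g := ⟨_, rfl⟩
  rw [← hyd] at hy
  have exg : x = g * y * g⁻¹ := by rw [hyd]; group
  have hcm : ∀ c : L, a c = c → (g * (c : G) * g⁻¹) * x = x * (g * (c : G) * g⁻¹) := by
    intro c hc
    have h1 : y * (c : G) = c * y := (hy.fix_iff c).mp hc
    calc g * (c : G) * g⁻¹ * x = g * (c : G) * g⁻¹ * (g * y * g⁻¹) := by rw [← exg]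
      _ = g * (c * y) * g⁻¹ := by group
      _ = g * (y * c) * g⁻¹ := by rw [h1]
      _ = (g * y * g⁻¹) * (g * (c : G) * g⁻¹) := by group
      _ = x * (g * (c : G) * g⁻¹) := by rw [← exg]
  obtain ⟨ψ, hψ⟩ := exists_hom (L := L) (J := fx a) (g := g) (fun j hj => H.Cx (hcm j hj))
  have h4 : ∀ j : L, a j = j → g * (j : G) * g⁻¹ ∈ centralizer (L : Set G) := by
    intro j hj
    have h5 := F.hom_trivial hw F.solx ψ (fun j => by
      rw [mem_centralizer_singleton_iff]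
      exact (hψ j).comm hX (hcm j j.2)) ⟨j, hj⟩
    have h6 := hψ ⟨j, hj⟩
    rw [h5] at h6
    exact acts_one_iff.mp h6
  obtain ⟨i, hi, hii, hi1, -⟩ := exists_fixed_inv (1 : MulAut L) (one_mul 1) (fx a) (fun d hd => hd) (F.weven a hw)
  have hiT : IsT L x (g * (i : G) * g⁻¹) := by
    have hii' : (i : G) * i = 1 := congrArg Subtype.val hii
    refine ⟨h4 i hi, hcm i hi, ?_, ?_⟩
    · calc g * (i : G) * g⁻¹ * (g * (i : G) * g⁻¹) = g * (i * i) * g⁻¹ := by group
        _ = 1 := by rw [hii']; group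
    · intro h
      apply hi1
      apply Subtype.ext
      calc (i : G) = g⁻¹ * (g * (i : G) * g⁻¹) * g := by group
        _ = 1 := by rw [h]; group
  exact H.no hg hxg (Hyp.gen_le F hw hii hi1 hi (fun j hj => H.Cx (hcm j hj))
    (fun j hj => H.cent_le hxg hP2 hiT hj))

/-- `v = g t g⁻¹` commutes with `x` and acts on `L` as a reflection on `YY L x` (or inverting it) -/
theorem fix_one [Finite G] {X : MulAut L} (hX : Acts L x X) (F : Facts X) {g : G}
    (hg : g ∉ normalizer (L : Set G)) (hk : g⁻¹ * x * g * x ∈ centralizer (L : Set G)) {t : G} (ht : IsT L x t)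
    (hvx : g * t * g⁻¹ * x = x * (g * t * g⁻¹)) {β : MulAut L} (hβ : Acts L (g * t * g⁻¹) β)
    (hone : ∀ y z : L, y ^ 3 = 1 → X y = y → β y = y → z ^ 3 = 1 → X z = z → β z = z →
      y = 1 ∨ z = 1 ∨ y = z ∨ y = z⁻¹) : False := by
  obtain ⟨y, hyd⟩ : ∃ y, y = g⁻¹ * x * g := ⟨_, rfl⟩
  rw [← hyd] at hk
  have exg : x = g * y * g⁻¹ := by rw [hyd]; group
  have hyX : Acts L y X := by
    have h1 := (hX.inv).Kmul hk
    have h2 : y * x * x⁻¹ = y := by group
    rw [h2, F.xinv] at h1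
    exact h1
  have hxg : g⁻¹ * x * g ∈ normalizer (L : Set G) := hyd ▸ hyX.mem
  obtain ⟨v, hv⟩ : ∃ v, v = g * t * g⁻¹ := ⟨_, rfl⟩
  rw [← hv] at hvx hβ
  -- elements of `C_L(x)`
  have hR : ∀ r : L, X r = r → (g * (r : G) * g⁻¹) * x = x * (g * (r : G) * g⁻¹) := by
    intro r hr
    have h1 : y * (r : G) = r * y := (hyX.fix_iff r).mp hr
    calc g * (r : G) * g⁻¹ * x = g * (r : G) * g⁻¹ * (g * y * g⁻¹) := by rw [← exg]
      _ = g * (r * y) * g⁻¹ := by group
      _ = g * (y * r) * g⁻¹ := by rw [h1]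
      _ = (g * y * g⁻¹) * (g * (r : G) * g⁻¹) := by group
      _ = x * (g * (r : G) * g⁻¹) := by rw [← exg]
  have hRM : ∀ r : L, X r = r → g * (r : G) * g⁻¹ ∈ normalizer (L : Set G) := fun r hr => H.Cx (hR r hr)
  have hRv : ∀ r : L, (g * (r : G) * g⁻¹) * v = v * (g * (r : G) * g⁻¹) := by
    intro r
    have h1 := comm_of_mem r.2 ht.mem
    rw [hv]
    calc g * (r : G) * g⁻¹ * (g * t * g⁻¹) = g * (r * t) * g⁻¹ := by group
      _ = g * (t * r) * g⁻¹ := by rw [h1]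
      _ = _ := by group
  obtain ⟨ψ, hψ⟩ := exists_hom (L := L) (J := fx X) (g := g) (fun r hr => hRM r hr)
  have hψX : ∀ r, ψ r * X = X * ψ r := fun r => (hψ r).comm hX (hR r r.2)
  have hψβ : ∀ r, ψ r * β = β * ψ r := fun r => (hψ r).comm hβ (hRv r)
  obtain ⟨a, b, ha3, hXa, hb3, hXb, ha1, hb1, hab, hab'⟩ := F.indep
  obtain ⟨a', ha'⟩ : ∃ a' : fx X, (a' : L) = a := ⟨⟨a, hXa⟩, rfl⟩
  obtain ⟨b', hb'⟩ : ∃ b' : fx X, (b' : L) = b := ⟨⟨b, hXb⟩, rfl⟩
  have ha3' : a' ^ 3 = 1 := Subtype.ext (by rw [← ha'] at ha3; exact ha3)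
  have hb3' : b' ^ 3 = 1 := Subtype.ext (by rw [← hb'] at hb3; exact hb3)
  have hthree : ∀ c d : fx X, c ^ 3 = 1 → d ^ 3 = 1 → (c * d) ^ 3 = 1 := by
    intro c d hc hd
    apply Subtype.ext
    exact F.three c d (congrArg Subtype.val hc) c.2 (congrArg Subtype.val hd) d.2
  -- a non-trivial element acting as inner automorphism
  have hex : ∃ y : fx X, y ^ 3 = 1 ∧ y ≠ 1 ∧ ∃ l, ψ y = MulAut.conj l := by
    have hb1' : b' ≠ 1 := fun h => hb1 (by rw [← hb', h]; rfl)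
    have ha1' : a' ≠ 1 := fun h => ha1 (by rw [← ha', h]; rfl)
    rcases F.out3 (ψ a') (ψ b') (by rw [← map_pow, ha3', map_one]) (by rw [← map_pow, hb3', map_one]) with
      h | h | ⟨l, hl⟩ | ⟨l, hl⟩
    · exact ⟨b', hb3', hb1', h⟩
    · exact ⟨a', ha3', ha1', h⟩
    · refine ⟨b'⁻¹ * a', hthree _ _ (by rw [inv_pow, hb3', inv_one]) ha3', ?_, l, ?_⟩
      · intro h
        apply hab
        rw [← ha', ← hb', inv_mul_eq_one.mp h]
      · rw [map_mul, map_inv, hl]; group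
    · refine ⟨b' * a', hthree _ _ hb3' ha3', ?_, l, ?_⟩
      · intro h
        apply hab'
        rw [← ha', ← hb', eq_inv_of_mul_eq_one_right h]
        rfl
      · rw [map_mul, hl]; group
  obtain ⟨y₁, hy₁3, hy₁1, l₁, hl₁⟩ := hex
  -- all elements of order 3 act as inner automorphisms
  have hin : ∀ z : fx X, z ^ 3 = 1 → ∃ l, ψ z = MulAut.conj l := by
    intro z hz3
    have h1 := F.irr y₁ z (congrArg Subtype.val hy₁3) (fun h => hy₁1 (Subtype.ext h)) y₁.2
      (congrArg Subtype.val hz3) z.2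
    have key : ∀ w ∈ closure {w | ∃ r, X r = r ∧ w = r * (y₁ : L) * r⁻¹}, ∃ hw : w ∈ fx X,
        ∃ l, ψ ⟨w, hw⟩ = MulAut.conj l := by
      intro w hw
      induction hw using closure_induction with
      | mem w hw =>
        obtain ⟨r, hr, rfl⟩ := hw
        have hr' : r ∈ fx X := hr
        refine ⟨mul_mem (mul_mem hr' y₁.2) (inv_mem hr'), ψ ⟨r, hr'⟩ l₁, ?_⟩
        have e1 : (⟨r * (y₁ : L) * r⁻¹, mul_mem (mul_mem hr' y₁.2) (inv_mem hr')⟩ : fx X) =
            ⟨r, hr'⟩ * y₁ * ⟨r, hr'⟩⁻¹ := rfl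
        rw [e1, map_mul, map_mul, map_inv, hl₁, conj_conj]
      | one => exact ⟨one_mem _, 1, by rw [map_one]; exact map_one ψ⟩
      | mul c d _ _ hc hd =>
        obtain ⟨h1, l, hl⟩ := hc
        obtain ⟨h2, m, hm⟩ := hd
        refine ⟨mul_mem h1 h2, l * m, ?_⟩
        have e1 : (⟨c * d, mul_mem h1 h2⟩ : fx X) = ⟨c, h1⟩ * ⟨d, h2⟩ := rfl
        rw [e1, map_mul, hl, hm, map_mul]
      | inv c _ hc =>
        obtain ⟨h1, l, hl⟩ := hc
        refine ⟨inv_mem h1, l⁻¹, ?_⟩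
        have e1 : (⟨c⁻¹, inv_mem h1⟩ : fx X) = ⟨c, h1⟩⁻¹ := rfl
        rw [e1, map_inv, hl, map_inv]
    obtain ⟨_, l, hl⟩ := key z h1
    exact ⟨l, hl⟩
  have hfx : ∀ (z : fx X) (l : L), z ^ 3 = 1 → ψ z = MulAut.conj l → l ^ 3 = 1 ∧ X l = l ∧ β l = l := by
    intro z l hz hl
    refine ⟨?_, ?_, ?_⟩
    · apply F.cl
      rw [map_pow, ← hl, ← map_pow, hz, map_one]
    · rw [← F.comm_conj_iff, ← hl]
      exact (hψX z).symm
    · rw [← F.comm_conj_iff, ← hl]
      exact (hψβ z).symm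
  -- a non-trivial element acting trivially
  have hex2 : ∃ y : fx X, y ^ 3 = 1 ∧ y ≠ 1 ∧ ψ y = 1 := by
    have hb1' : b' ≠ 1 := fun h => hb1 (by rw [← hb', h]; rfl)
    have ha1' : a' ≠ 1 := fun h => ha1 (by rw [← ha', h]; rfl)
    obtain ⟨l, hl⟩ := hin a' ha3'
    obtain ⟨m, hm⟩ := hin b' hb3'
    obtain ⟨h1, h2, h3⟩ := hfx a' l ha3' hl
    obtain ⟨h4, h5, h6⟩ := hfx b' m hb3' hm
    rcases hone l m h1 h2 h3 h4 h5 h6 with h | h | h | h
    · exact ⟨a', ha3', ha1', by rw [hl, h, map_one]⟩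
    · exact ⟨b', hb3', hb1', by rw [hm, h, map_one]⟩
    · refine ⟨b'⁻¹ * a', hthree _ _ (by rw [inv_pow, hb3', inv_one]) ha3', ?_, ?_⟩
      · intro h
        apply hab
        rw [← ha', ← hb', inv_mul_eq_one.mp h]
      · rw [map_mul, map_inv, hl, hm, h, inv_mul_cancel]
    · refine ⟨b' * a', hthree _ _ hb3' ha3', ?_, ?_⟩
      · intro h
        apply hab'
        rw [← ha', ← hb', eq_inv_of_mul_eq_one_right h]
        rfl
      · rw [map_mul, hl, hm, h, map_inv, mul_inv_cancel]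
  obtain ⟨y₂, hy₂3, hy₂1, hy₂⟩ := hex2
  have hYK : ∀ r : L, X r = r → r ^ 3 = 1 → g * (r : G) * g⁻¹ ∈ centralizer (L : Set G) := by
    intro r hr hr3
    have h1 := F.irr y₂ r (congrArg Subtype.val hy₂3) (fun h => hy₂1 (Subtype.ext h)) y₂.2 hr3 hr
    have h2 : g * ((y₂ : L) : G) * g⁻¹ ∈ centralizer (L : Set G) := by
      have := hψ y₂
      rw [hy₂] at this
      exact acts_one_iff.mp this
    have key : ∀ w ∈ closure {w | ∃ r, X r = r ∧ w = r * (y₂ : L) * r⁻¹},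
        g * (w : G) * g⁻¹ ∈ centralizer (L : Set G) := by
      intro w hw
      induction hw using closure_induction with
      | mem w hw =>
        obtain ⟨r, hr, rfl⟩ := hw
        have e1 : g * ((r * (y₂ : L) * r⁻¹ : L) : G) * g⁻¹ =
            (g * (r : G) * g⁻¹) * (g * ((y₂ : L) : G) * g⁻¹) * (g * (r : G) * g⁻¹)⁻¹ := by
          change g * ((r : G) * ((y₂ : L) : G) * (r : G)⁻¹) * g⁻¹ = _
          group
        rw [e1]
        exact K_conj (hRM r hr) h2
      | one => simp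
      | mul a b _ _ ha hb =>
        have e1 : g * ((a * b : L) : G) * g⁻¹ = (g * (a : G) * g⁻¹) * (g * (b : G) * g⁻¹) := by
          change g * ((a : G) * (b : G)) * g⁻¹ = _
          group
        rw [e1]
        exact mul_mem ha hb
      | inv a _ ha =>
        have e1 : g * ((a⁻¹ : L) : G) * g⁻¹ = (g * (a : G) * g⁻¹)⁻¹ := by
          change g * (a : G)⁻¹ * g⁻¹ = _
          group
        rw [e1]
        exact inv_mem ha
    exact key r h1
  -- `g⁻¹ L g ≤ C(YY L x)`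
  have hL : ∀ l ∈ L, g⁻¹ * l * g⁻¹⁻¹ ∈ normalizer (L : Set G) := by
    intro l hl
    rw [inv_inv]
    apply H.NY
    intro z hz
    obtain ⟨hzL, hz3, hzx⟩ := H.memY.mp hz
    have h1 := hYK ⟨z, hzL⟩ ((hX.fix_iff _).mpr hzx.symm) (Subtype.ext hz3)
    have h2 : l * (g * z * g⁻¹) = g * z * g⁻¹ * l := comm_of_mem hl h1
    have h3 : g⁻¹ * l * g * z * (g⁻¹ * l * g)⁻¹ = z := by
      calc g⁻¹ * l * g * z * (g⁻¹ * l * g)⁻¹ = g⁻¹ * (l * (g * z * g⁻¹)) * l⁻¹ * g := by group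
        _ = g⁻¹ * (g * z * g⁻¹ * l) * l⁻¹ * g := by rw [h2]
        _ = z := by group
    rw [h3]
    exact hz
  rcases H.star hL with h1 | h1
  · apply hg
    have := inv_mem h1
    rwa [inv_inv] at this
  · refine H.twin g hxg (fun l hl => ?_)
    rw [mem_centralizer_iff]
    intro m hm
    have h2 := h1 m hm
    have h3 : l * (g⁻¹ * m * g⁻¹⁻¹) = g⁻¹ * m * g⁻¹⁻¹ * l := comm_of_mem hl h2
    rw [inv_inv] at h3
    calc m * (g * l * g⁻¹) = g * ((g⁻¹ * m * g) * l) * g⁻¹ := by group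
      _ = g * (l * (g⁻¹ * m * g)) * g⁻¹ := by rw [h3]
      _ = g * l * g⁻¹ * m := by group

/-- the main step -/
theorem fix3 [Finite G] {g : G} (hg : g ∉ normalizer (L : Set G))
    (hk : g⁻¹ * x * g * x ∈ centralizer (L : Set G)) : False := by
  obtain ⟨X, hX, F5⟩ := H.fct
  have F := F5.toFacts
  obtain ⟨y, hy⟩ : ∃ y, y = g⁻¹ * x * g := ⟨_, rfl⟩
  obtain ⟨k, hkd⟩ : ∃ k, k = y * x := ⟨_, rfl⟩
  have hyy : y * y = 1 := by
    rw [hy]
    calc g⁻¹ * x * g * (g⁻¹ * x * g) = g⁻¹ * (x * x) * g := by group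
      _ = 1 := by rw [H.xx]; group
  have hkK : k ∈ centralizer (L : Set G) := by rw [hkd, hy]; exact hk
  have hykx : y = k * x := by
    rw [hkd, mul_assoc, H.xx, mul_one]
  have hyX : Acts L y X := by rw [hykx]; exact hX.Kmul hkK
  have hxg : g⁻¹ * x * g ∈ normalizer (L : Set G) := hy ▸ hyX.mem
  have hxk : x * k * x⁻¹ = k⁻¹ := by
    rw [hkd, mul_inv_rev, inv_eq_of_mul_eq_one_left hyy, H.xi]
    calc x * (y * x) * x = x * y * (x * x) := by group
      _ = x * y := by rw [H.xx, mul_one]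
  have hxz : ∀ j ∈ zpowers k, x * j * x⁻¹ = j⁻¹ := by
    intro j hj
    obtain ⟨n, rfl⟩ := mem_zpowers_iff.mp hj
    rw [← conj_zpow, hxk, inv_zpow]
  have hzK : ∀ j ∈ zpowers k, j ∈ centralizer (L : Set G) := fun j hj =>
    (zpowers_le.mpr hkK) hj
  rcases Nat.even_or_odd (orderOf k) with hev | hodd
  · obtain ⟨n, hn⟩ := hev
    have hnpos : 0 < n := by
      have := orderOf_pos k
      omega
    obtain ⟨t, htd⟩ : ∃ t, t = k ^ n := ⟨_, rfl⟩
    have htz : t ∈ zpowers k := htd ▸ pow_mem (mem_zpowers k) n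
    have htt : t * t = 1 := by rw [htd, ← pow_add, ← hn, pow_orderOf_eq_one]
    have ht1 : t ≠ 1 := by
      rw [htd]
      intro h
      have := orderOf_le_of_pow_eq_one hnpos h
      omega
    have htx : t * x = x * t := by
      have h1 := hxz t htz
      rw [inv_eq_of_mul_eq_one_left htt] at h1
      calc t * x = (x * t * x⁻¹) * x := by rw [h1]
        _ = x * t := by group
    have htT : IsT L x t := ⟨hzK t htz, htx, htt, ht1⟩
    have hty : t * y = y * t := by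
      have h1 : t * k = k * t := by
        rw [htd]; exact ((Commute.refl k).pow_left n)
      rw [hykx]
      calc t * (k * x) = (t * k) * x := by group
        _ = k * (t * x) := by rw [h1]; group
        _ = k * x * t := by rw [htx]; group
    obtain ⟨v, hv⟩ : ∃ v, v = g * t * g⁻¹ := ⟨_, rfl⟩
    have hvt : g⁻¹ * v * g = t := by rw [hv]; group
    have hvx : v * x = x * v := by
      rw [hv]
      have e1 : x = g * y * g⁻¹ := by rw [hy]; group
      calc g * t * g⁻¹ * x = g * t * g⁻¹ * (g * y * g⁻¹) := by rw [← e1]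
        _ = g * (t * y) * g⁻¹ := by group
        _ = g * (y * t) * g⁻¹ := by rw [hty]
        _ = (g * y * g⁻¹) * (g * t * g⁻¹) := by group
        _ = x * (g * t * g⁻¹) := by rw [← e1]
    have hvv : v * v = 1 := by
      rw [hv]
      calc g * t * g⁻¹ * (g * t * g⁻¹) = g * (t * t) * g⁻¹ := by group
        _ = 1 := by rw [htt]; group
    have hv1 : v ≠ 1 := by
      intro h
      apply ht1
      rw [← hvt, h]; group
    have hvM := H.Cx hvx
    have hvL : ∀ l ∈ L, (g * l * g⁻¹) * v = v * (g * l * g⁻¹) := by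
      intro l hl
      have h1 := comm_of_mem hl htT.mem
      rw [hv]
      calc g * l * g⁻¹ * (g * t * g⁻¹) = g * (l * t) * g⁻¹ := by group
        _ = g * (t * l) * g⁻¹ := by rw [h1]
        _ = _ := by group
    obtain ⟨β, hβ⟩ := exists_acts hvM
    by_cases hw : Wild X β
    · exact H.fix_one hX F hg hk htT (by rw [← hv]; exact hvx) (by rw [← hv]; exact hβ)
        (F5.wone β hw (hβ.comm hX hvx))
    rcases H.cls hX F hvx hvv hv1 hβ hw with h | ⟨t₁, ht₁, h⟩ | ⟨s, hs, t₁, ht₁, h⟩ | ⟨s, hs, t₁, ht₁, h⟩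
    · rcases H.cmp t v g htT h hv.symm with h1 | h1
      · exact hg h1
      · exact H.twin g hxg h1
    · exact H.no hg hxg (fun l hl => H.Ce t₁ ht₁ _ (by rw [← h]; exact hvL l hl))
    · have hβs : β = MulAut.conj ⟨s, hs.mem⟩ := by
        have h1 := (acts_of_mem hs.mem).mulK ht₁.mem
        rw [← h] at h1
        exact hβ.uniq h1
      refine H.fix_one hX F hg hk htT (by rw [← hv]; exact hvx) (by rw [← hv]; exact hβ) ?_
      intro z _ hz3 hXz hβz _ _ _
      left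
      have h1 := F5.inv ⟨s, hs.mem⟩ z (Subtype.ext hs.sq) (fun h => hs.ne (congrArg Subtype.val h))
        ((hX.fix_iff _).mpr hs.comm.symm) hz3 hXz
      rw [hβs, MulAut.conj_apply] at hβz
      rw [hβz] at h1
      have h2 : z * z = 1 := by
        nth_rw 1 [h1]
        exact inv_mul_cancel z
      calc z = z ^ 3 * (z * z)⁻¹ := by group
        _ = 1 := by rw [hz3, h2]; group
    · exact H.no hg hxg (fun l hl => H.Cxst hs ht₁ (by rw [← h]; exact hvL l hl))
  · obtain ⟨j, hj, hjz⟩ := exists_sqrt hodd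
    have h1 := hxz j hjz
    have h2 : j * x * j⁻¹ = y := by
      have h3 : x * j⁻¹ * x⁻¹ = j := by
        have := hxz j⁻¹ (inv_mem hjz)
        rwa [inv_inv] at this
      calc j * x * j⁻¹ = j * (x * j⁻¹ * x⁻¹) * x := by group
        _ = j * j * x := by rw [h3]
        _ = y := by rw [hj, ← hykx]
    have h3 : (g * j) * x = x * (g * j) := by
      calc (g * j) * x = g * (j * x * j⁻¹) * j := by group
        _ = g * (g⁻¹ * x * g) * j := by rw [h2, hy]
        _ = x * (g * j) := by group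
    apply hg
    have h4 : g = (g * j) * j⁻¹ := by group
    rw [h4]
    exact mul_mem (H.Cx h3) (inv_mem (K_le_M (hzK j hjz)))

/-- **(4)** `x` normalizes exactly one conjugate of `L`. -/
theorem fix [Finite G] {g : G} (hx : g⁻¹ * x * g ∈ normalizer (L : Set G)) :
    g ∈ normalizer (L : Set G) := by
  by_contra hg
  obtain ⟨X, hX, F5⟩ := H.fct
  have F := F5.toFacts
  have hxg := hx
  obtain ⟨y, hy⟩ : ∃ y, y = g⁻¹ * x * g := ⟨_, rfl⟩
  rw [← hy] at hx
  have hyy : y * y = 1 := by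
    rw [hy]
    calc g⁻¹ * x * g * (g⁻¹ * x * g) = g⁻¹ * (x * x) * g := by group
      _ = 1 := by rw [H.xx]; group
  obtain ⟨b, hb⟩ := exists_acts hx
  have hcomm : ∀ l : L, b l = l → g * (l : G) * g⁻¹ * x = x * (g * (l : G) * g⁻¹) := by
    intro l hl
    have h1 := (hb.fix_iff l).mp hl
    have e1 : x = g * y * g⁻¹ := by rw [hy]; group
    calc g * (l : G) * g⁻¹ * x = g * (l : G) * g⁻¹ * (g * y * g⁻¹) := by rw [← e1]
      _ = g * (l * y) * g⁻¹ := by group
      _ = g * (y * l) * g⁻¹ := by rw [h1]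
      _ = (g * y * g⁻¹) * (g * (l : G) * g⁻¹) := by group
      _ = x * (g * (l : G) * g⁻¹) := by rw [← e1]
  rcases tri X (hb.sq hyy) with ⟨s₀, hs₀⟩ | ⟨l, hl⟩ | hw
  · by_cases hs1 : s₀ = 1
    · rw [hs1, map_one] at hs₀
      exact H.no hg hxg (fun l hl => H.Cx (hcomm ⟨l, hl⟩ (by rw [hs₀]; rfl)))
    · rw [hs₀] at hb
      exact H.fix_inner hX F hg (F.sq_of_conj (hb.sq hyy)) hs1 (hy ▸ hb)
  · -- `y` is conjugate to `x` modulo `K`
    have h1 := hb.sq hyy
    rw [hl] at h1 hb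
    obtain ⟨m, hm⟩ := F.xconj l h1
    refine H.fix3 (g := g * (m : G)⁻¹) (fun h1 => hg ?_) ?_
    · have h2 : g = g * (m : G)⁻¹ * m := by group
      rw [h2]
      exact mul_mem h1 (L_le_M m.2)
    · have h2 := ((acts_coe m).mul hb).mul (acts_coe m).inv
      rw [hm] at h2
      have h3 := h2.mul hX
      rw [F.xx] at h3
      have h4 : (g * (m : G)⁻¹)⁻¹ * x * (g * (m : G)⁻¹) * x = (m : G) * y * (m : G)⁻¹ * x := by
        rw [hy]; group
      rw [h4]
      exact acts_one_iff.mp h3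
  · exact H.fix_wild hX F F5.p2 hg (hy ▸ hb) hw

end Base

end Cfsg.Agent.UGT.ThEP
end

-- part: UGT/ThEP/Five
section
set_option linter.all false
open scoped Cfsg.Agent.FastGrp

/-!
# Theorem E for `L = L₃(4)`, paired case: `t ^ G ∩ C(x) ≤ K`, characters
-/

set_option autoImplicit false

open Subgroup MulAction

namespace Cfsg.Agent.UGT.ThEP

open Cfsg.Agent.UGT
open Cfsg.Agent.UGT.ThE.Base (comm_of_mem L_conj L_conj' K_le_M L_le_M K_conj K_conj' IsT IsS IsT1 exists_central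
  exists_sqrt)
open Cfsg.Agent.UGT.ThEL34
open Cfsg.Agent.UGT.CE.L34 (Facts3 Facts4 YY mem_YY)

variable {G : Type*} [Group G]

/-- if the involution `x` of `C` has exactly one fixed point on `C/(C ∩ M)`, every involution `y` of `C` has a
fixed point -/
theorem exists_fixed_coset [Finite G] {C M : Subgroup G} {x y : G} (hxx : x * x = 1) (hyy : y * y = 1) (hx : x ∈ C)
    (hy : y ∈ C) (hxM : x ∈ M) (h1 : ∀ c ∈ C, c⁻¹ * x * c ∈ M → c ∈ M) : ∃ c ∈ C, c⁻¹ * y * c ∈ M := by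
  have hact : ∀ z : G, z * z = 1 → ∀ hz : z ∈ C, ∃ f : Equiv.Perm (C ⧸ M.subgroupOf C), (∀ q, f (f q) = q) ∧
      ∀ c : C, f (c : C ⧸ M.subgroupOf C) = ((⟨z, hz⟩ * c : C) : C ⧸ M.subgroupOf C) := by
    intro z hzz hz
    refine ⟨MulAction.toPerm (⟨z, hz⟩ : C), ?_, fun c => rfl⟩
    intro q
    change (⟨z, hz⟩ : C) • ((⟨z, hz⟩ : C) • q) = q
    rw [smul_smul, show (⟨z, hz⟩ : C) * ⟨z, hz⟩ = 1 from Subtype.ext hzz, one_smul]
  have hfix : ∀ (z : G) (hz : z ∈ C) (c : C), ((⟨z, hz⟩ * c : C) : C ⧸ M.subgroupOf C) =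
      (c : C ⧸ M.subgroupOf C) ↔ (c : G)⁻¹ * z * c ∈ M := by
    intro z hz c
    rw [eq_comm, QuotientGroup.eq, mem_subgroupOf]
    have h2 : ((c⁻¹ * (⟨z, hz⟩ * c) : C) : G) = (c : G)⁻¹ * z * c := by
      rw [Subgroup.coe_mul, Subgroup.coe_mul, Subgroup.coe_inv]; group
    rw [h2]
  obtain ⟨f, hff, hf⟩ := hact x hxx hx
  obtain ⟨f', hff', hf'⟩ := hact y hyy hy
  have hodd : ¬ 2 ∣ Nat.card (C ⧸ M.subgroupOf C) := by
    intro h2
    obtain ⟨q, hq1, hq⟩ := exists_fixed_ne f hff h2 (a := ((1 : C) : C ⧸ M.subgroupOf C)) (by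
      rw [hf, hfix]
      simpa using hxM)
    induction q using QuotientGroup.induction_on with
    | H c =>
      rw [hf, hfix] at hq
      apply hq1
      rw [QuotientGroup.eq, mul_one, mem_subgroupOf]
      exact inv_mem (h1 c c.2 hq)
  have h3 := card_mod_two f' hff'
  have h4 : Nat.card (Function.fixedPoints f') ≠ 0 := by
    intro h
    rw [h] at h3
    apply hodd
    omega
  have h5 : Nonempty (Function.fixedPoints f') := by
    by_contra hemp
    rw [not_nonempty_iff] at hemp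
    exact h4 (Nat.card_eq_zero.mpr (Or.inl hemp))
  obtain ⟨⟨q, hq⟩⟩ := h5
  induction q using QuotientGroup.induction_on with
  | H c =>
    have h6 : f' (c : C ⧸ M.subgroupOf C) = (c : C ⧸ M.subgroupOf C) := hq
    rw [hf', hfix] at h6
    exact ⟨c, c.2, h6⟩

namespace Base

variable {L : Subgroup G} {x : G} (H : Base L x)
include H

/-- **(5)** `t ^ G ∩ C(x) ≤ K`: the conjugate of `t` is conjugate under `M` -/
theorem tr' [Finite G] {t g : G} (ht : IsT L x t) (h : (g * t * g⁻¹) * x = x * (g * t * g⁻¹)) :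
    ∃ m ∈ normalizer (L : Set G), m * t * m⁻¹ = g * t * g⁻¹ := by
  obtain ⟨y, hy⟩ : ∃ y, y = g⁻¹ * x * g := ⟨_, rfl⟩
  have hyt : y * t = t * y := by
    rw [hy]
    calc g⁻¹ * x * g * t = g⁻¹ * (x * (g * t * g⁻¹)) * g := by group
      _ = g⁻¹ * ((g * t * g⁻¹) * x) * g := by rw [h]
      _ = t * (g⁻¹ * x * g) := by group
  have hyy : y * y = 1 := by
    rw [hy]
    calc g⁻¹ * x * g * (g⁻¹ * x * g) = g⁻¹ * (x * x) * g := by group
      _ = 1 := by rw [H.xx]; group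
  obtain ⟨c, hc, hcy⟩ := exists_fixed_coset (C := centralizer ({t} : Set G)) (M := normalizer (L : Set G)) H.xx hyy
    (mem_centralizer_singleton_iff.mpr ht.comm.symm) (mem_centralizer_singleton_iff.mpr hyt) H.xM
    (fun c _ h1 => H.fix h1)
  rw [mem_centralizer_singleton_iff] at hc
  refine ⟨g * c, H.fix ?_, ?_⟩
  · have h1 : (g * c)⁻¹ * x * (g * c) = c⁻¹ * y * c := by rw [hy]; group
    rw [h1]
    exact hcy
  · calc g * c * t * (g * c)⁻¹ = g * (c * t) * c⁻¹ * g⁻¹ := by group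
      _ = g * (t * c) * c⁻¹ * g⁻¹ := by rw [hc]
      _ = g * t * g⁻¹ := by group

theorem tr [Finite G] {t g : G} (ht : IsT L x t) (h : (g * t * g⁻¹) * x = x * (g * t * g⁻¹)) :
    g * t * g⁻¹ ∈ centralizer (L : Set G) := by
  obtain ⟨m, hm, h1⟩ := H.tr' ht h
  rw [← h1]
  exact K_conj hm ht.mem

/-- **(TR+)** -/
theorem exists_sign [Finite G] (χ : MulAut L →* ℤˣ) :
    ∃ f : G →* ℤˣ, ∀ (e : G) (b : MulAut L), e * e = 1 → e * x = x * e → Acts L e b → f e = χ b := by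
  obtain ⟨M, hM⟩ : ∃ M, M = normalizer (L : Set G) := ⟨_, rfl⟩
  have hMm : ∀ {m : G}, m ∈ M → m ∈ normalizer (L : Set G) := fun h => hM ▸ h
  have hMm' : ∀ {m : G}, m ∈ normalizer (L : Set G) → m ∈ M := fun h => hM ▸ h
  let ev : G ⧸ M → G → Prop := fun ω g => ∃ b, Acts L (ω.out⁻¹ * g * ω.out) b ∧ χ b = 1
  have hst : ∀ (ω : G ⧸ M) (g : G), g • ω = ω ↔ ω.out⁻¹ * g * ω.out ∈ M := by
    intro ω g
    have h1 : (ω.out : G ⧸ M) = ω := Quotient.out_eq' ω
    constructor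
    · intro h
      have h2 : ((g * ω.out : G) : G ⧸ M) = (ω.out : G ⧸ M) := by
        calc ((g * ω.out : G) : G ⧸ M) = g • ((ω.out : G) : G ⧸ M) := rfl
          _ = g • ω := by rw [h1]
          _ = ω := h
          _ = (ω.out : G ⧸ M) := h1.symm
      rw [eq_comm, QuotientGroup.eq] at h2
      rwa [← mul_assoc] at h2
    · intro h
      have h2 : ((ω.out : G) : G ⧸ M) = ((g * ω.out : G) : G ⧸ M) := by
        rw [QuotientGroup.eq, ← mul_assoc]
        exact h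
      calc g • ω = g • ((ω.out : G) : G ⧸ M) := by rw [h1]
        _ = ((g * ω.out : G) : G ⧸ M) := rfl
        _ = ((ω.out : G) : G ⧸ M) := h2.symm
        _ = ω := h1
  have hev : ∀ (ω : G ⧸ M) (g : G) (b : MulAut L), Acts L (ω.out⁻¹ * g * ω.out) b → (ev ω g ↔ χ b = 1) := by
    intro ω g b hb
    constructor
    · rintro ⟨c, hc, h⟩
      rwa [hb.uniq hc]
    · intro h
      exact ⟨b, hb, h⟩
  have hpar : Parity.IsParity (Ω := G ⧸ M) ev := by
    constructor
    · intro ω g h hg hh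
      obtain ⟨b, hb⟩ := exists_acts (hMm ((hst ω g).mp hg))
      obtain ⟨c, hc⟩ := exists_acts (hMm ((hst ω h).mp hh))
      have h1 : ω.out⁻¹ * (g * h) * ω.out = (ω.out⁻¹ * g * ω.out) * (ω.out⁻¹ * h * ω.out) := by
        group
      have h2 : Acts L (ω.out⁻¹ * (g * h) * ω.out) (b * c) := by rw [h1]; exact hb.mul hc
      rw [hev ω g b hb, hev ω h c hc, hev ω (g * h) _ h2, map_mul]
      exact units_mul_eq_one _ _
    · intro ω g h hh
      have h1 : (((g • ω).out : G) : G ⧸ M) = ((g * ω.out : G) : G ⧸ M) := by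
        have h2 : ((g • ω).out : G ⧸ M) = g • ω := Quotient.out_eq' _
        have h3 : (ω.out : G ⧸ M) = ω := Quotient.out_eq' ω
        rw [h2]
        calc g • ω = g • ((ω.out : G) : G ⧸ M) := by rw [h3]
          _ = _ := rfl
      rw [eq_comm, QuotientGroup.eq] at h1
      obtain ⟨m, hm⟩ : ∃ m, m = (g * ω.out)⁻¹ * (g • ω).out := ⟨_, rfl⟩
      rw [← hm] at h1
      have h4 : (g • ω).out = g * ω.out * m := by rw [hm]; group
      have h5 : (g • ω).out⁻¹ * (g * h * g⁻¹) * (g • ω).out = m⁻¹ * (ω.out⁻¹ * h * ω.out) * m := by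
        rw [h4]; group
      obtain ⟨c, hc⟩ := exists_acts (hMm ((hst ω h).mp hh))
      obtain ⟨μ, hμ⟩ := exists_acts (hMm h1)
      have h6 : Acts L ((g • ω).out⁻¹ * (g * h * g⁻¹) * (g • ω).out) (μ⁻¹ * c * μ) := by
        rw [h5]; exact (hμ.inv.mul hc).mul hμ
      rw [hev _ _ _ h6, hev ω h c hc, map_mul, map_mul, map_inv, mul_comm (χ μ)⁻¹, mul_assoc,
        inv_mul_cancel, mul_one]
  have hxM : x ∈ M := hMm' H.xM
  have huniq : ∀ ω : G ⧸ M, x • ω = ω → ω = ((1 : G) : G ⧸ M) := by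
    intro ω hω
    have h1 := (hst ω x).mp hω
    have h2 : ω.out ∈ normalizer (L : Set G) := H.fix (hMm h1)
    have h3 : (ω.out : G ⧸ M) = ω := Quotient.out_eq' ω
    rw [← h3, eq_comm, QuotientGroup.eq, inv_one, one_mul]
    exact hMm' h2
  obtain ⟨f, hf⟩ := Parity.exists_hom_fixed hpar
  refine ⟨f, fun e b hee hex hb => ?_⟩
  have hT2 : IsPGroup 2 (zpowers x) := by
    rintro ⟨z, hz⟩
    obtain ⟨n, rfl⟩ := mem_zpowers_iff.mp hz
    refine ⟨1, ?_⟩
    apply Subtype.ext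
    change (x ^ n) ^ 2 ^ 1 = 1
    rw [pow_one, pow_two, ← zpow_add, ← two_mul, zpow_mul]
    have : x ^ (2 : ℤ) = 1 := by rw [zpow_two]; exact H.xx
    rw [this, one_zpow]
  have hTe : zpowers x ≤ centralizer ({e} : Set G) := by
    rw [zpowers_le, mem_centralizer_singleton_iff]
    exact hex.symm
  rw [hf e (zpowers x) hee hT2 hTe]
  obtain ⟨ω₀, hω₀⟩ : ∃ ω₀ : G ⧸ M, ω₀ = ((1 : G) : G ⧸ M) := ⟨_, rfl⟩
  have hfix : ∀ m, m ∈ M → m • ω₀ = ω₀ := by
    intro m hm
    rw [hω₀]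
    have : m • ((1 : G) : G ⧸ M) = ((m * 1 : G) : G ⧸ M) := rfl
    rw [this, eq_comm, QuotientGroup.eq, inv_one, one_mul, mul_one]
    exact hm
  have hm0 : ω₀.out ∈ M := by
    have h4 : ((ω₀.out : G) : G ⧸ M) = ((1 : G) : G ⧸ M) := by rw [← hω₀]; exact Quotient.out_eq' _
    rw [eq_comm, QuotientGroup.eq, inv_one, one_mul] at h4
    exact h4
  have hω₀e : ev ω₀ e ↔ χ b = 1 := by
    obtain ⟨μ, hμ⟩ := exists_acts (hMm hm0)
    rw [hev ω₀ e _ ((hμ.inv.mul hb).mul hμ), map_mul, map_mul, map_inv, mul_comm (χ μ)⁻¹, mul_assoc,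
        inv_mul_cancel, mul_one]
  have hall : ∀ t ∈ zpowers x, t • ω₀ = ω₀ := fun t ht => hfix t ((zpowers_le.mpr hxM) ht)
  by_cases hc : χ b = 1
  · have : IsEmpty {ω : G ⧸ M // (e • ω = ω ∧ ¬ ev ω e) ∧ ∀ t ∈ zpowers x, t • ω = ω} := by
      refine ⟨fun ⟨ω, ⟨_, h2⟩, h3⟩ => ?_⟩
      have h4 := huniq ω (h3 x (mem_zpowers x))
      rw [← hω₀] at h4
      rw [h4] at h2
      exact h2 (hω₀e.mpr hc)
    rw [Nat.card_eq_zero.mpr (Or.inl this), pow_zero, hc]
  · have : Nat.card {ω : G ⧸ M // (e • ω = ω ∧ ¬ ev ω e) ∧ ∀ t ∈ zpowers x, t • ω = ω} = 1 := by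
      rw [Nat.card_eq_one_iff_unique]
      have key : ∀ c : {ω : G ⧸ M // (e • ω = ω ∧ ¬ ev ω e) ∧ ∀ t ∈ zpowers x, t • ω = ω},
          c.1 = ω₀ := by
        rintro ⟨ω, ⟨_, _⟩, h3⟩
        rw [hω₀]
        exact huniq ω (h3 x (mem_zpowers x))
      refine ⟨⟨fun c d => Subtype.ext ((key c).trans (key d).symm)⟩,
        ⟨⟨ω₀, ⟨hfix e (hMm' hb.mem), fun h => hc (hω₀e.mp h)⟩, hall⟩⟩⟩
    rw [this, pow_one]
    exact ((Int.units_eq_one_or (χ b)).resolve_left hc).symm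

/-- **`x ∈ X`, `W = 1`** -/
theorem false_of_noSign [Finite G] (hG : Parity.NoSign G) : False := by
  obtain ⟨X, hX, F⟩ := H.facts
  obtain ⟨χ, hχ⟩ := F.chi0
  obtain ⟨f, hf⟩ := H.exists_sign χ
  have h1 := hf x X H.xx rfl hX
  rw [hG f, hχ, MonoidHom.one_apply] at h1
  exact absurd h1 (by decide)

end Base

end Cfsg.Agent.UGT.ThEP
end

-- part: UGT/ThEP/Six
section
set_option linter.all false
open scoped Cfsg.Agent.FastGrp

/-!
# Theorem E for `L = L₃(4)`, paired case, `x ∉ X`: links, (E6)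
-/

set_option autoImplicit false

open Subgroup

namespace Cfsg.Agent.UGT.ThEP

open Cfsg.Agent.UGT.ThE
open Cfsg.Agent.UGT.ThE.Base (comm_of_mem L_conj L_conj' K_le_M L_le_M K_conj K_conj' IsT IsS IsT1 exists_central
  exists_sqrt)
open Cfsg.Agent.UGT.ThEL34
open Cfsg.Agent.UGT.CE.L34 (Facts3 Facts4 YY mem_YY)

variable {G : Type*} [Group G]

/-- The hypotheses for `x ∉ S`. -/
structure Ctx (S L : Subgroup G) (x : G) : Prop extends Base L x where
  SN : S.Normal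
  xS : x ∉ S
  LS : L ≤ S
  tS : ∀ t, IsT L x t → t ∈ S
  sgn : ∀ f : G →* ℤˣ, ∀ s ∈ S, f s = 1

namespace Ctx

variable {S L : Subgroup G} {x : G} (H : Ctx S L x)
include H

theorem t1S {t : G} (ht : IsT1 L x t) : t ∈ S := by
  by_cases h : t = 1
  · rw [h]; exact one_mem _
  · exact H.tS t (ht.isT h)

/-- the involutions of `C_S(x)` -/
theorem cls' [Finite G] {e : G} (heS : e ∈ S) (he : e * x = x * e) (hee : e * e = 1) (h1 : e ≠ 1) :
    IsT L x e ∨ ∃ s, IsS L x s ∧ ∃ t, IsT1 L x t ∧ e = s * t := by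
  obtain ⟨X, hX, F⟩ := H.facts
  obtain ⟨b, hb⟩ := exists_acts (H.Cx he)
  have hw : ¬ Wild X b := by
    obtain ⟨χ, -, h⟩ := F.chi1
    intro hw
    obtain ⟨f, hf⟩ := H.exists_sign χ
    have h2 := hf e b hee he hb
    rw [h b hw, H.sgn f e heS] at h2
    exact absurd h2 (by decide)
  rcases H.cls hX F he hee h1 hb hw with h | ⟨t, ht, h⟩ | h | ⟨s, hs, t, ht, h⟩
  · exact Or.inl h
  · exfalso
    apply H.xS
    have : x = e * t⁻¹ := by rw [h]; group
    rw [this]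
    exact mul_mem heS (inv_mem (H.t1S ht))
  · exact Or.inr h
  · exfalso
    apply H.xS
    have : x = e * t⁻¹ * s⁻¹ := by rw [h]; group
    rw [this]
    exact mul_mem (mul_mem heS (inv_mem (H.t1S ht))) (inv_mem (H.LS hs.mem))

/-- the link, for a conjugate `z` of `v` -/
theorem link_cases [Finite G] {v g : G} (hv : IsT L x v) :
    g * v * g⁻¹ ∈ normalizer (L : Set G) ∨ ∃ e ∈ S, e * e = 1 ∧ e ≠ 1 ∧ e * x = x * e ∧
      e * (g * v * g⁻¹) = (g * v * g⁻¹) * e ∧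
      (∀ c, c * x = x * c → c * (g * v * g⁻¹) = (g * v * g⁻¹) * c → c * e = e * c) ∧
      ∃ h, h * (g * v * g⁻¹) * h⁻¹ = (g * v * g⁻¹) * e := by
  have hvX : v ∈ S := H.tS v hv
  obtain ⟨z, hz⟩ : ∃ z, z = g * v * g⁻¹ := ⟨_, rfl⟩
  rw [← hz]
  have hzz : z * z = 1 := by
    rw [hz]
    calc g * v * g⁻¹ * (g * v * g⁻¹) = g * (v * v) * g⁻¹ := by group
      _ = 1 := by rw [hv.sq]; group
  have hzX : z ∈ S := hz ▸ H.SN.conj_mem v hvX g
  obtain ⟨e, hee, he1, hec, hex, hez, h⟩ := Link.link H.SN H.xx H.xS hzz hzX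
  rcases h with ⟨heS, h⟩ | ⟨heS, h, hh⟩
  · exact Or.inr ⟨e, heS, hee, he1, hex, hez, hec, h⟩
  · left
    have h1 : (h * g) * v * (h * g)⁻¹ = x * e := by rw [← hh, hz]; group
    have h2 : (h * g) * v * (h * g)⁻¹ ∈ centralizer (L : Set G) := by
      apply H.tr hv
      rw [h1]
      calc x * e * x = x * (e * x) := by group
        _ = x * (x * e) := by rw [hex]
    have h3 : IsT1 L x (x * e) := by
      refine ⟨?_, ?_, ?_⟩
      · rw [← h1]; exact h2
      · calc x * e * x = x * (e * x) := by group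
          _ = x * (x * e) := by rw [hex]
      · rw [← h1]
        calc h * g * v * (h * g)⁻¹ * (h * g * v * (h * g)⁻¹) = (h * g) * (v * v) * (h * g)⁻¹ := by
              group
          _ = 1 := by rw [hv.sq]; group
    apply H.Ce _ h3
    have h4 : x * (x * e) = e := by rw [← mul_assoc, H.xx, one_mul]
    rw [h4]
    exact hez.symm

/-- **(6)** (E6) -/
theorem e6 [Finite G] {s t₁ v m : G} (hs : IsS L x s) (ht₁ : IsT1 L x t₁) (hv : IsT L x v)
    (hvc : v * (s * t₁) = s * t₁ * v) (hm : m * (s * t₁) = s * t₁ * m) :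
    m * v * m⁻¹ ∈ normalizer (L : Set G) ∨
      ∀ l ∈ L, (m * v * m⁻¹) * l * (m * v * m⁻¹)⁻¹ ∈ centralizer (L : Set G) := by
  obtain ⟨t₀, ht₀⟩ : ∃ t₀, t₀ = s * t₁ := ⟨_, rfl⟩
  rw [← ht₀] at hvc hm
  rcases H.link_cases (g := m) hv with h | ⟨e, heS, hee, he1, hex, hez, hec, h, hh⟩
  · exact Or.inl h
  obtain ⟨z, hz⟩ : ∃ z, z = m * v * m⁻¹ := ⟨_, rfl⟩
  rw [← hz] at hez hec hh ⊢
  have hzt : t₀ * z = z * t₀ := by
    rw [hz]
    calc t₀ * (m * v * m⁻¹) = (t₀ * m) * v * m⁻¹ := by group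
      _ = m * (t₀ * v) * m⁻¹ := by rw [← hm]; group
      _ = m * v * (t₀ * m⁻¹) := by rw [← hvc]; group
      _ = m * v * (m⁻¹ * (m * t₀) * m⁻¹) := by group
      _ = m * v * (m⁻¹ * (t₀ * m) * m⁻¹) := by rw [hm]
      _ = m * v * m⁻¹ * t₀ := by group
  have hst : s * t₁ = t₁ * s := comm_of_mem hs.mem ht₁.mem
  have htx : t₀ * x = x * t₀ := by
    rw [ht₀]
    calc s * t₁ * x = s * (t₁ * x) := by group
      _ = (s * x) * t₁ := by rw [ht₁.comm]; group
      _ = x * (s * t₁) := by rw [hs.comm]; group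
  have het : t₀ * e = e * t₀ := hec t₀ htx hzt
  rcases H.cls' heS hex hee he1 with h1 | ⟨s', hs', t', ht', h1⟩
  · exact H.cmp e e z h1 h1 (by rw [← hez]; group)
  · have c1 : s * s' = s' * s := by
      have h2 : (s' * s)⁻¹ * (s * s') = t' * t₁ * (t₁ * t')⁻¹ := by
        have h3 : (s * s') * (t₁ * t') = (s' * s) * (t' * t₁) := by
          calc (s * s') * (t₁ * t') = s * (s' * t₁) * t' := by group
            _ = s * (t₁ * s') * t' := by rw [comm_of_mem hs'.mem ht₁.mem]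
            _ = t₀ * e := by rw [ht₀, h1]; group
            _ = e * t₀ := het
            _ = s' * (t' * s) * t₁ := by rw [ht₀, h1]; group
            _ = s' * (s * t') * t₁ := by rw [comm_of_mem hs.mem ht'.mem]
            _ = _ := by group
        calc (s' * s)⁻¹ * (s * s') = (s' * s)⁻¹ * ((s * s') * (t₁ * t')) * (t₁ * t')⁻¹ := by group
          _ = (s' * s)⁻¹ * ((s' * s) * (t' * t₁)) * (t₁ * t')⁻¹ := by rw [h3]
          _ = _ := by group
      have h3 : (s' * s)⁻¹ * (s * s') = 1 := H.disj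
        (mul_mem (inv_mem (mul_mem hs'.mem hs.mem)) (mul_mem hs.mem hs'.mem)) (by
          rw [h2]
          exact mul_mem (mul_mem ht'.mem ht₁.mem) (inv_mem (mul_mem ht₁.mem ht'.mem)))
      exact (inv_mul_eq_one.mp h3).symm
    have c2 := H.commS hs hs' c1
    rw [← c2] at h1
    have c3 : t' * t₁ = t₁ * t' := by
      apply mul_left_cancel (a := s * s)
      calc s * s * (t' * t₁) = s * (s * t') * t₁ := by group
        _ = s * (t' * s) * t₁ := by rw [comm_of_mem hs.mem ht'.mem]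
        _ = (s * t') * (s * t₁) := by group
        _ = t₀ * e := by rw [← h1, ← ht₀, het]
        _ = s * (t₁ * s) * t' := by rw [ht₀, h1]; group
        _ = s * s * (t₁ * t') := by rw [← hst]; group
    by_cases hne : t' = t₁
    · exfalso
      have h2 : e = t₀ := by rw [h1, hne, ht₀]
      rw [h2] at hh
      have h3 : (m⁻¹ * h * m) * v * (m⁻¹ * h * m)⁻¹ = v * t₀ := by
        calc (m⁻¹ * h * m) * v * (m⁻¹ * h * m)⁻¹ = m⁻¹ * (h * (m * v * m⁻¹) * h⁻¹) * m := by group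
          _ = m⁻¹ * (z * t₀) * m := by rw [← hz, hh]
          _ = m⁻¹ * (m * v * m⁻¹) * (t₀ * m) := by rw [hz]; group
          _ = m⁻¹ * (m * v * m⁻¹) * (m * t₀) := by rw [hm]
          _ = v * t₀ := by group
      have h5 : v * t₀ ∈ centralizer (L : Set G) := by
        rw [← h3]
        apply H.tr hv
        rw [h3]
        calc v * t₀ * x = v * (t₀ * x) := by group
          _ = (v * x) * t₀ := by rw [htx]; group
          _ = x * (v * t₀) := by rw [hv.comm]; group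
      have h6 : s ∈ centralizer (L : Set G) := by
        have : s = v⁻¹ * (v * t₀) * t₁⁻¹ := by rw [ht₀]; group
        rw [this]
        exact mul_mem (mul_mem (inv_mem hv.mem) h5) (inv_mem ht₁.mem)
      exact hs.ne (H.disj hs.mem h6)
    · have h2 : IsT L x (t' * t₁) := by
        refine (ht'.mul ht₁ c3).isT ?_
        intro h3
        apply hne
        rw [eq_inv_of_mul_eq_one_left h3, inv_eq_of_mul_eq_one_left ht₁.sq]
      have h3 : e * t₀ = t' * t₁ := by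
        rw [h1, ht₀]
        calc s * t' * (s * t₁) = s * (t' * s) * t₁ := by group
          _ = (s * s) * (t' * t₁) := by rw [← comm_of_mem hs.mem ht'.mem]; group
          _ = t' * t₁ := by rw [hs.sq, one_mul]
      refine H.cmp _ _ z h2 h2 ?_
      rw [← h3]
      have h4 : z * (e * t₀) = e * t₀ * z := by
        calc z * (e * t₀) = (z * e) * t₀ := by group
          _ = e * (z * t₀) := by rw [← hez]; group
          _ = e * t₀ * z := by rw [← hzt]; group
      rw [h4]; group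

end Ctx

end Cfsg.Agent.UGT.ThEP
end

-- part: UGT/N2W/Nine
section
set_option linter.all false
open scoped Cfsg.Agent.FastGrp

/-!
# UGT N2, cores: `O(C(x)) ∩ J` covers a `3²` of `J / O(J)`

`H ≤ G`, `x ∈ H` an involution, `J` a 2-component of `H` of type `L₃(4)`, some `d ∈ O(C(x)) ∩ H` does not centralize
`J / O(J)`.

* `inf_le_core_of`: `O(C(x)) ∩ H ≤ O(H ∩ C(x))`.
* `exists_lift_of`: `C_J(x)` covers `C_{J/O(J)}(x)`.
* `oddC_of`: the image of `O(C(x)) ∩ H` in `Aut(J / O(J))` is an `OddC`.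
* `mem_yim`: every `y ∈ J / O(J)` with `y³ = 1`, `y^x = y` is in the image of `J ∩ O(C(x))`.
* `nine_of`: `9 ≤ |image of J ∩ O(C(x))|`.
* `nine`: the same for a triple.
* `nine_up`: the image in `N / O(N)`, `J ≤ N`; `conj_mem_im`: it is contained in the `OddC` of `N`.
-/

set_option autoImplicit false
set_option linter.unusedSectionVars false

open Cfsg Subgroup
open Cfsg.Agent.SignalizersComponents Cfsg.Agent.Lib
open Cfsg.Agent.SignalizersComponents.IntrinsicBasic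
open Cfsg.Agent.SignalizersComponents.PLayerAut
open Cfsg.Agent.Intrinsic.Basic Cfsg.Agent.Intrinsic.Cen Cfsg.Agent.Intrinsic.Diag
open Cfsg.Agent.McLLyComp.Act
open Cfsg.Agent.UGT.Triple Cfsg.Agent.UGT.TriBase
open Cfsg.Agent.UGT.Iface (Bar IsL34)
open Cfsg.Agent.UGT.LTF.Defs
open scoped commutatorElement

namespace Cfsg.Agent.UGT.N2W.Nine

universe u

variable {G : Type u} [Group G] [Finite G]

/-- `O(C(x)) ∩ H ≤ O(H ∩ C(x))` -/
theorem inf_le_core_of {x d : G} {H : Subgroup G} (hd : d ∈ core (centralizer ({x} : Set G))) (hdH : d ∈ H) :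
    d ∈ core (H ⊓ centralizer ({x} : Set G)) := by
  have h1 : H ⊓ core (centralizer ({x} : Set G)) ≤ core (H ⊓ centralizer ({x} : Set G)) := by
    refine le_core (inf_le_inf_left H (core_le _)) ?_
      (Odd.of_dvd_nat (odd_card_core (centralizer ({x} : Set G))) (card_dvd_of_le inf_le_right))
    intro g hg
    have e1 : g ∈ normalizer (H : Set G) := le_normalizer hg.1
    have e2 : g ∈ normalizer (core (centralizer ({x} : Set G)) : Set G) := le_normalizer_core _ hg.2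
    rw [mem_normalizer_iff_cj] at e1 e2 ⊢
    rw [cj_inf, e1, e2]
  exact h1 ⟨hdH, hd⟩

/-- `O(C(x)) ∩ H` normalizes the 2-components of `H ∋ x` -/
theorem norm_of {x d : G} {H J : Subgroup G} (hJ : IsComp H J) (hx : orderOf x = 2) (hxH : x ∈ H)
    (hd : d ∈ core (centralizer ({x} : Set G))) (hdH : d ∈ H) : d ∈ normalizer (J : Set G) :=
  mem_normalizer hJ hxH hx (inf_le_core_of hd hdH)

/-- `x` normalizes `J` if `O(C(x)) ∩ H` moves it -/
theorem x_norm_of {x d : G} {H J : Subgroup G} (hJ : IsComp H J) (hx : orderOf x = 2) (hxH : x ∈ H)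
    (hd : d ∈ core (centralizer ({x} : Set G))) (hdH : d ∈ H) (hf : ¬ Fixes d J) :
    x ∈ normalizer (J : Set G) := (of_not_fixes hJ hxH hx (inf_le_core_of hd hdH) hf).1

/-- `C_J(x)` covers `C_{J/O(J)}(x)` -/
theorem exists_lift_of {x : G} {J : Subgroup G} (hx : orderOf x = 2) (hxJ : x ∈ normalizer (J : Set G)) {k : Bar J}
    (hk : act J ⟨x, hxJ⟩ k = k) : ∃ (c : G) (hc : c ∈ J), c * x = x * c ∧ QuotientGroup.mk ⟨c, hc⟩ = k := by
  obtain ⟨⟨c, hc⟩, rfl⟩ := QuotientGroup.mk_surjective k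
  rw [act_mk hxJ hc] at hk
  have h1 := (mk_eq_iff hc (conj_mem hxJ hc)).mp hk.symm
  obtain ⟨o, ho, hco⟩ := Intrinsic.Lifting.exists_commute (n := 1) (odd_card_core J)
    (by rw [pow_one, pow_two]; exact sq_of_order hx) (normalizer_le_normalizer_core J hxJ) h1
  have hoJ := core_le J ho
  refine ⟨c * o, mul_mem hc hoJ, hco.symm, ?_⟩
  rw [mk_eq_iff (mul_mem hc hoJ) hc]
  have : (c * o)⁻¹ * c = o⁻¹ := by group
  rw [this]
  exact inv_mem ho

/-- the image of `O(C(x)) ∩ H` in `Aut(J / O(J))` -/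
noncomputable def im (x : G) (H J : Subgroup G) : Subgroup (MulAut (Bar J)) :=
  ((core (centralizer ({x} : Set G)) ⊓ H).subgroupOf (normalizer (J : Set G))).map (act J)

theorem mem_im {x : G} {H J : Subgroup G} {e : MulAut (Bar J)} : e ∈ im x H J ↔
    ∃ d, ∃ hd : d ∈ normalizer (J : Set G), d ∈ core (centralizer ({x} : Set G)) ∧ d ∈ H ∧
      act J ⟨d, hd⟩ = e := by
  constructor
  · rintro ⟨⟨d, hd⟩, h, rfl⟩
    exact ⟨d, hd, h.1, h.2, rfl⟩
  · rintro ⟨d, hd, h1, h2, rfl⟩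
    exact ⟨⟨d, hd⟩, ⟨h1, h2⟩, rfl⟩

theorem act_sq' {x : G} {J : Subgroup G} (hx : orderOf x = 2) (hxJ : x ∈ normalizer (J : Set G)) :
    act J ⟨x, hxJ⟩ * act J ⟨x, hxJ⟩ = 1 := by
  rw [← act_mul hxJ hxJ, act_eq_one_iff]
  rw [sq_of_order hx]
  exact fixes_one J

theorem oddC_of {x : G} {H J : Subgroup G} (hJH : J ≤ H) (hx : orderOf x = 2) (hxJ : x ∈ normalizer (J : Set G)) :
    OddC (act J ⟨x, hxJ⟩) (im x H J) := by
  refine ⟨?_, ?_, ?_⟩
  · refine Odd.of_dvd_nat ?_ (card_map_dvd _ _)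
    refine Odd.of_dvd_nat (odd_card_core (centralizer ({x} : Set G))) ?_
    have h1 := card_comap_dvd_of_injective (core (centralizer ({x} : Set G)) ⊓ H)
      (normalizer (J : Set G)).subtype (subtype_injective _)
    exact h1.trans (card_dvd_of_le inf_le_left)
  · intro e he
    obtain ⟨d, hd, h1, h2, rfl⟩ := mem_im.mp he
    rw [← act_mul, ← act_mul]
    apply act_congr
    exact comm_c (core_le _ h1)
  · intro l hl e he
    obtain ⟨d, hd, h1, h2, rfl⟩ := mem_im.mp he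
    obtain ⟨m, hm, hmx, rfl⟩ := exists_lift_of hx hxJ hl
    rw [← act_of_mem hm, ← act_mul, ← act_inv, ← act_mul]
    refine mem_im.mpr ⟨m * d * m⁻¹, _, ?_, ?_, rfl⟩
    · exact conj_core (mem_c hmx) h1
    · exact mul_mem (mul_mem (hJH hm) h2) (inv_mem (hJH hm))

/-- the image of `J ∩ O(C(x))` in `J / O(J)` -/
noncomputable def yim (x : G) (J : Subgroup G) : Subgroup (Bar J) :=
  ((J ⊓ core (centralizer ({x} : Set G))).subgroupOf J).map (QuotientGroup.mk' (oddCore ↥J))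

theorem mem_yim {x : G} {J : Subgroup G} {k : Bar J} : k ∈ yim x J ↔
    ∃ y, ∃ hy : y ∈ J, y ∈ core (centralizer ({x} : Set G)) ∧ QuotientGroup.mk ⟨y, hy⟩ = k := by
  constructor
  · rintro ⟨⟨d, hd⟩, h, rfl⟩
    exact ⟨d, hd, h.2, rfl⟩
  · rintro ⟨d, hd, h, rfl⟩
    exact ⟨⟨d, hd⟩, ⟨hd, h⟩, rfl⟩

theorem yim_conj {x : G} {J : Subgroup G} (hx : orderOf x = 2) (hxJ : x ∈ normalizer (J : Set G)) {k r : Bar J}
    (hr : act J ⟨x, hxJ⟩ r = r) (hk : k ∈ yim x J) : r * k * r⁻¹ ∈ yim x J := by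
  obtain ⟨y, hy, hyc, rfl⟩ := mem_yim.mp hk
  obtain ⟨m, hm, hmx, rfl⟩ := exists_lift_of hx hxJ hr
  refine mem_yim.mpr ⟨m * y * m⁻¹, mul_mem (mul_mem hm hy) (inv_mem hm), conj_core (mem_c hmx) hyc, rfl⟩

section main

variable {x d : G} {H J : Subgroup G}

/-- every `y` of order 3 centralized by `x` is in the image of `J ∩ O(C(x))` -/
theorem mem_yim_of (hJ : IsComp H J) (hx : orderOf x = 2) (hxH : x ∈ H) (h34 : IsL34 (Bar J))
    (hd : d ∈ core (centralizer ({x} : Set G))) (hdH : d ∈ H) (hf : ¬ Fixes d J) (hxJ : x ∈ normalizer (J : Set G)) :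
    FT (act J ⟨x, hxJ⟩) ∧ ∀ z : Bar J, z ^ 3 = 1 → act J ⟨x, hxJ⟩ z = z → z ∈ yim x J := by
  obtain ⟨ξ, hξ⟩ : ∃ ξ, ξ = act J ⟨x, hxJ⟩ := ⟨_, rfl⟩
  have hdJ := norm_of hJ hx hxH hd hdH
  have hO := oddC_of (H := H) hJ.le hx hxJ
  have he : act J ⟨d, hdJ⟩ ∈ im x H J := mem_im.mpr ⟨d, hdJ, hd, hdH, rfl⟩
  have hne : im x H J ≠ ⊥ := by
    intro h
    rw [h, mem_bot, act_eq_one_iff] at he
    exact hf he
  obtain ⟨F, F3⟩ := N2S.k34 _ h34 _ (act_sq' hx hxJ) _ hO hne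
  refine ⟨F, ?_⟩
  obtain ⟨y, hy, hy3, hyx⟩ := F.core _ hO _ he
  have hy1 : y ≠ 1 := by
    rintro rfl
    rw [map_one, act_eq_one_iff] at hy
    exact hf hy
  obtain ⟨s, hs1, hs2, hs3⟩ := F3.exs
  have hinv := F.inv s y hs1 hs2 hs3 hy3 hyx
  -- `y² ∈ yim`
  have hy2 : y * y ∈ yim x J := by
    obtain ⟨b, hb, hbx, rfl⟩ := exists_lift_of hx hxJ hs3
    have h1 : d * b * d⁻¹ ∈ J := conj_mem hdJ hb
    refine mem_yim.mpr ⟨d * b * d⁻¹ * b⁻¹, mul_mem h1 (inv_mem hb), ?_, ?_⟩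
    · have e : d * b * d⁻¹ * b⁻¹ = d * (b * d⁻¹ * b⁻¹) := by group
      rw [e]
      exact mul_mem hd (conj_core (mem_c hbx) (inv_mem hd))
    · obtain ⟨β, hβ⟩ : ∃ β : Bar J, β = QuotientGroup.mk ⟨b, hb⟩ := ⟨_, rfl⟩
      have h2 : (QuotientGroup.mk (⟨d * b * d⁻¹ * b⁻¹, mul_mem h1 (inv_mem hb)⟩ : ↥J) : Bar J) =
          act J ⟨d, hdJ⟩ (QuotientGroup.mk ⟨b, hb⟩) * (QuotientGroup.mk ⟨b, hb⟩)⁻¹ := by
        rw [act_mk hdJ hb]
        rfl
      rw [h2, hy, MulAut.conj_apply, ← hβ]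
      rw [← hβ] at hinv
      calc y * β * y⁻¹ * β⁻¹ = y * (β * y * β⁻¹)⁻¹ := by group
        _ = y * y := by rw [hinv, inv_inv]
  have hyy : y ∈ yim x J := by
    have h1 := mul_mem hy2 hy2
    have h2 : y * y * (y * y) = y := by
      calc y * y * (y * y) = y ^ 3 * y := by simp only [pow_succ, pow_zero, one_mul, mul_assoc]
        _ = y := by rw [hy3, one_mul]
    rwa [h2] at h1
  intro z hz3 hzx
  have h1 := F.irr y z hy3 hy1 hyx hz3 hzx
  have h2 : closure {w : Bar J | ∃ r, act J ⟨x, hxJ⟩ r = r ∧ w = r * y * r⁻¹} ≤ yim x J := by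
    rw [closure_le]
    rintro _ ⟨r, hr, rfl⟩
    exact yim_conj hx hxJ hr hyy
  exact h2 h1

/-- **`9 ≤ |image of J ∩ O(C(x))|`** -/
theorem nine_of (hJ : IsComp H J) (hx : orderOf x = 2) (hxH : x ∈ H) (h34 : IsL34 (Bar J))
    (hd : d ∈ core (centralizer ({x} : Set G))) (hdH : d ∈ H) (hf : ¬ Fixes d J) : 9 ≤ Nat.card ↥(yim x J) := by
  have hxJ := x_norm_of hJ hx hxH hd hdH hf
  obtain ⟨F, h⟩ := mem_yim_of hJ hx hxH h34 hd hdH hf hxJ
  obtain ⟨Y, hY, hYm⟩ := F.nine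
  rw [← hY]
  exact Subgroup.card_le_of_le fun y hy => h y ((hYm y).mp hy).1 ((hYm y).mp hy).2

theorem exists_of (hJ : IsComp H J) (hx : orderOf x = 2) (hxH : x ∈ H) (h34 : IsL34 (Bar J))
    (hd : d ∈ core (centralizer ({x} : Set G))) (hdH : d ∈ H) (hf : ¬ Fixes d J) :
    ∃ E ≤ J, E ≤ core (centralizer ({x} : Set G)) ∧
      9 ≤ Nat.card ↥((E.subgroupOf J).map (QuotientGroup.mk' (oddCore ↥J))) :=
  ⟨J ⊓ core (centralizer ({x} : Set G)), inf_le_left, inf_le_right, nine_of hJ hx hxH h34 hd hdH hf⟩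

end main

/-- **(nine)** `O(C(x)) ∩ L` covers a `3²` of `L / O(L)` for a triple `(x, a, L)` of type `L₃(4)` -/
theorem nine {x a : G} {L : Subgroup G} (T : IsTriple x a L) (h : IsL34 (Bar L)) :
    ∃ E ≤ L, E ≤ core (centralizer ({x} : Set G)) ∧
      9 ≤ Nat.card ↥((E.subgroupOf L).map (QuotientGroup.mk' (oddCore ↥L))) := by
  obtain ⟨d, hd, hda, hf⟩ := T.bad
  exact exists_of T.comp T.invx (mem_c T.comm.symm) h hd hda hf

/-! ### the image in `N / O(N)` -/

section up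

variable {E J N : Subgroup G}

/-- the image of `E ≤ J ≤ N` in `N / O(N)` is at least as large as the image in `J / O(J)` -/
theorem card_up (hE : E ≤ J) (hJN : J ≤ N) :
    Nat.card ↥((E.subgroupOf J).map (QuotientGroup.mk' (oddCore ↥J))) ∣
      Nat.card ↥((E.subgroupOf N).map (QuotientGroup.mk' (oddCore ↥N))) := by
  obtain ⟨f, hf⟩ : ∃ f : ↥E →* Bar J, f = (QuotientGroup.mk' (oddCore ↥J)).comp (inclusion hE) := ⟨_, rfl⟩
  obtain ⟨g, hg⟩ : ∃ g : ↥E →* Bar N, g = (QuotientGroup.mk' (oddCore ↥N)).comp (inclusion (hE.trans hJN)) :=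
    ⟨_, rfl⟩
  have hfr : (E.subgroupOf J).map (QuotientGroup.mk' (oddCore ↥J)) = f.range := by
    ext k
    constructor
    · rintro ⟨⟨d, hd⟩, h, rfl⟩
      exact ⟨⟨d, h⟩, by rw [hf]; rfl⟩
    · rintro ⟨⟨d, hd⟩, rfl⟩
      exact ⟨⟨d, hE hd⟩, hd, by rw [hf]; rfl⟩
  have hgr : (E.subgroupOf N).map (QuotientGroup.mk' (oddCore ↥N)) = g.range := by
    ext k
    constructor
    · rintro ⟨⟨d, hd⟩, h, rfl⟩
      exact ⟨⟨d, h⟩, by rw [hg]; rfl⟩
    · rintro ⟨⟨d, hd⟩, rfl⟩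
      exact ⟨⟨d, hJN (hE hd)⟩, hd, by rw [hg]; rfl⟩
  have hcore : J ⊓ core N ≤ core J := by
    refine le_core inf_le_left ?_ (Odd.of_dvd_nat (odd_card_core N) (card_dvd_of_le inf_le_right))
    intro k hk
    have e1 : k ∈ normalizer (core N : Set G) := le_normalizer_core _ (hJN hk)
    have e2 := le_normalizer (H := J) hk
    rw [mem_normalizer_iff_cj] at e1 e2 ⊢
    rw [cj_inf, e1, e2]
  have hker : g.ker ≤ f.ker := by
    rintro ⟨d, hd⟩ h
    rw [MonoidHom.mem_ker, hg] at h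
    rw [MonoidHom.mem_ker, hf]
    have h1 : (QuotientGroup.mk (⟨d, hJN (hE hd)⟩ : ↥N) : Bar N) = 1 := h
    change (QuotientGroup.mk (⟨d, hE hd⟩ : ↥J) : Bar J) = 1
    rw [mk_eq_one_iff] at h1 ⊢
    exact hcore ⟨hE hd, h1⟩
  rw [hfr, hgr, ← Subgroup.index_ker, ← Subgroup.index_ker]
  exact Subgroup.index_dvd_of_le hker

theorem nine_up (hE : E ≤ J) (hJN : J ≤ N)
    (h9 : 9 ≤ Nat.card ↥((E.subgroupOf J).map (QuotientGroup.mk' (oddCore ↥J)))) :
    9 ≤ Nat.card ↥((E.subgroupOf N).map (QuotientGroup.mk' (oddCore ↥N))) :=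
  h9.trans (Nat.le_of_dvd Nat.card_pos (card_up hE hJN))

/-- the image of `E ≤ N ∩ O(C(x))` consists of elements of the `OddC` of `N`, `N` a 2-component of `M` -/
theorem conj_mem_im {x : G} {M : Subgroup G} (hNM : N ≤ M) (hEx : E ≤ core (centralizer ({x} : Set G)))
    {k : Bar N} (hk : k ∈ (E.subgroupOf N).map (QuotientGroup.mk' (oddCore ↥N))) :
    MulAut.conj k ∈ im x M N := by
  obtain ⟨⟨d, hd⟩, h, rfl⟩ := hk
  refine mem_im.mpr ⟨d, le_normalizer hd, hEx h, hNM hd, ?_⟩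
  rw [act_of_mem hd]
  rfl

end up

end Cfsg.Agent.UGT.N2W.Nine
end

-- part: UGT/FL34/Seven
section
prune_inst 0x4f03003201522100000180512200020443000000200630001d9210400004613212947270170601e115112aa70200a8020010000590230000020008a0040040120842a72c68348b104270087c0f805100000000000000000000000000000041000000000000
set_option linter.all false
open scoped Cfsg.Agent.FastGrp

/-!
# Facts on `L₃(4)`: characters of `Aut L₃(4)` and generation by fixed points of four-groups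

* `sF`, `sG : MulAut L →* ℤˣ`: the field and the graph character (canonical: `sF_tr`, `sG_tr`); values on
  involutory automorphisms: inner `(1, 1)`, type `f` (`C_L = L₃(2)`) `(-1, 1)`, type `g` (`C_L = A₅`) `(1, -1)`,
  type `u` (`C_L = 3²:Q₈`) `(-1, -1)`.
* `gen_inner`: `⟨C_L(α), C_L(i)⟩ = L`, `α` an outer involution, `i` an involution of `C_L(α)`.
* `gen_fg`: `⟨C_L(f), C_L(g)⟩ = L` for commuting `f`, `g` of field and graph type.
* `gen`: a four-group `{1, α, β, αβ}` of automorphisms which are not all inner: `⟨C_L(α), C_L(β), C_L(αβ)⟩ = L`.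
* `rank_one`: `C_L(u)` contains no four-group.
* `e16`: a four-group `F ≤ C_L(f)` lies in a subgroup `E` of order 16 contained in every subgroup `K ≥ F` normalized
  by `C_L(v)`, `v ∈ F#`.
* `no_q8`: `C_Aut(f)` contains no quaternion group.
-/

set_option autoImplicit false
set_option linter.constructorNameAsVariable false
set_option linter.unusedVariables false

namespace Cfsg.Agent.UGT.FL34.Seven

open Subgroup Cfsg.Agent.UGT.FL34
open Cfsg.Agent.SporadicA.FieldFour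
open Cfsg.Agent.LThreeFour Cfsg.Agent.LThreeFour.Dat
open Cfsg.Agent.ONType.Psl (PSL3)
open Cfsg.Agent.UGT.ThEL34 (fx mem_fx)
open Cfsg.Agent.UGT.Iface (IsL34)

universe u

/-! ### the characters -/

section

variable {L : Type u} [Group L] {M : Type u} [Group M]

theorem exists_e (h : IsL34 L) : Nonempty (PSL3 ≃* L) := by
  obtain ⟨F, _, _, hF, ⟨e⟩⟩ := h
  obtain ⟨e'⟩ := nonempty_psl_equiv (n := Fin 3) F hF
  exact ⟨e'.trans e.symm⟩

/-- the field character -/
noncomputable def sF (h : IsL34 L) : MulAut L →* ℤˣ := chF (exists_e h).some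

/-- the graph character -/
noncomputable def sG (h : IsL34 L) : MulAut L →* ℤˣ := chG (exists_e h).some

theorem sF_eq (h : IsL34 L) (e : PSL3 ≃* L) (α : MulAut L) :
    sF h α = if (bits ((D e).tyHom α)).1 then -1 else 1 := by
  rw [sF, chF_eq, bits_indep e]

theorem sG_eq (h : IsL34 L) (e : PSL3 ≃* L) (α : MulAut L) :
    sG h α = if (bits ((D e).tyHom α)).2 then -1 else 1 := by
  rw [sG, chG_eq, bits_indep e]

theorem hasTy_tr {A : Dat L} (f : L ≃* M) {β : MulAut L} {τ : Ty} (h : A.HasTy β τ) :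
    (A.map f).HasTy (tr f β) τ := by
  obtain ⟨l, hl⟩ := h
  have h1 := isTau_map (A := A) f hl
  refine ⟨f l, ?_⟩
  have e : tr f (MulAut.conj l * β) = MulAut.conj (f l) * tr f β := by
    apply MulEquiv.ext
    intro m
    obtain ⟨m, rfl⟩ := f.surjective m
    rw [tr_e, MulAut.mul_apply, MulAut.mul_apply, tr_e, MulAut.conj_apply, MulAut.conj_apply,
      map_mul, map_mul, map_inv]
  rwa [e] at h1

theorem tyHom_tr (e : PSL3 ≃* L) (f : L ≃* M) (β : MulAut L) :
    (D (e.trans f)).tyHom (tr f β) = (D e).tyHom β := by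
  have h := hasTy_tr (A := D e) f ((D e).hasTy_tyHom β)
  exact h.tyHom

theorem sF_tr (h : IsL34 L) (h' : IsL34 M) (f : L ≃* M) (α : MulAut L) :
    sF h' (tr f α) = sF h α := by
  obtain ⟨e⟩ := exists_e h
  rw [sF_eq h e, sF_eq h' (e.trans f), tyHom_tr]

theorem sF_cases (h : IsL34 L) (α : MulAut L) : sF h α = 1 ∨ sF h α = -1 := Int.units_eq_one_or _

theorem sG_cases (h : IsL34 L) (α : MulAut L) : sG h α = 1 ∨ sG h α = -1 := Int.units_eq_one_or _

theorem ite_one {b : Bool} : (if b then (-1 : ℤˣ) else 1) = 1 ↔ b = false := by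
  cases b <;> decide

theorem ite_neg {b : Bool} : (if b then (-1 : ℤˣ) else 1) = -1 ↔ b = true := by
  cases b <;> decide

theorem bits_of (h : IsL34 L) (e : PSL3 ≃* L) {α : MulAut L} {b c : Bool}
    (h1 : sF h α = if b then -1 else 1) (h2 : sG h α = if c then -1 else 1) :
    bits ((D e).tyHom α) = (b, c) := by
  rw [sF_eq h e] at h1
  rw [sG_eq h e] at h2
  apply Prod.ext
  · cases b
    · exact ite_one.mp h1
    · exact ite_neg.mp h1
  · cases c
    · exact ite_one.mp h2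
    · exact ite_neg.mp h2

/-- inner involutory automorphisms -/
theorem inner (h : IsL34 L) {α : MulAut L} (hα : α * α = 1) (h1 : sF h α = 1) (h2 : sG h α = 1) :
    ∃ l, α = MulAut.conj l := by
  obtain ⟨e⟩ := exists_e h
  have hb := bits_of h e (b := false) (c := false) h1 h2
  rcases ty_sq ((D e).tyHom α) (by rw [← map_mul, hα, map_one]) with h3 | h3 | h3 | h3
  · exact (D e).inner_iff.1 h3
  · rw [hb] at h3; exact absurd h3 (by decide)
  · rw [hb] at h3; exact absurd h3 (by decide)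
  · rw [h3] at hb; exact absurd hb (by decide)

/-- outer involutory automorphisms in adapted coordinates -/
theorem outer (h : IsL34 L) {α : MulAut L} (hα : α * α = 1) {b c : Bool}
    (h1 : sF h α = if b then -1 else 1) (h2 : sG h α = if c then -1 else 1)
    (hne : (b, c) ≠ (false, false)) : ∃ e : PSL3 ≃* L, (D e).IsTau (b, c, 0) α := by
  obtain ⟨e⟩ := exists_e h
  exact pure1 e hα (bits_of h e h1 h2) hne

/-! ### generation -/

/-- **`⟨C_L(α), C_L(i)⟩ = L`** -/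
theorem gen_inner (h : IsL34 L) {α : MulAut L} (hα : α * α = 1) (ho : sF h α = -1 ∨ sG h α = -1)
    {i : L} (hi : i * i = 1) (hi1 : i ≠ 1) (hαi : α i = i) {K : Subgroup L} (h1 : fx α ≤ K)
    (h2 : centralizer ({i} : Set L) ≤ K) : K = ⊤ := by
  obtain ⟨e⟩ := exists_e h
  have key : ∃ e' : PSL3 ≃* L, ∃ τ : Ty, (D e').IsTau τ α ∧ ∃ c, c ≠ 0 ∧ i = (D e').x 0 2 c := by
    rcases sF_cases h α with hF | hF <;> rcases sG_cases h α with hG | hG
    · rw [hF, hG] at ho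
      exact absurd ho (by decide)
    · have hb := bits_of h e (b := false) (c := true) hF hG
      obtain ⟨e', h3 | h3, c, hc, h4⟩ := pla e hα (Or.inr hb) hi hi1 hαi
      · exact ⟨e', _, h3, c, hc, h4⟩
      · exact ⟨e', _, h3, c, hc, h4⟩
    · have hb := bits_of h e (b := true) (c := false) hF hG
      obtain ⟨e', h3 | h3, c, hc, h4⟩ := pla e hα (Or.inl hb) hi hi1 hαi
      · exact ⟨e', _, h3, c, hc, h4⟩
      · exact ⟨e', _, h3, c, hc, h4⟩
    · have hb := bits_of h e (b := true) (c := true) hF hG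
      obtain ⟨e', h3, h4⟩ := plx' e hα hb hi hi1 hαi
      exact ⟨e', _, h3, 1, by decide, h4⟩
  obtain ⟨e', τ, hτ, c, hc, rfl⟩ := key
  apply gen_T (D e')
  · intro l hl
    apply h2
    rw [mem_centralizer_singleton_iff]
    exact (cent_x02_any hc).2 hl
  · exact h1 (fx_x20 hτ)

/-- **`⟨C_L(f), C_L(g)⟩ = L`** -/
theorem gen_fg (h : IsL34 L) {φ γ : MulAut L} (hφ : φ * φ = 1) (hγ : γ * γ = 1) (hc : φ * γ = γ * φ)
    (h1 : sF h φ = -1) (h2 : sG h φ = 1) (h3 : sF h γ = 1) (h4 : sG h γ = -1) {K : Subgroup L}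
    (k1 : fx φ ≤ K) (k2 : fx γ ≤ K) : K = ⊤ := by
  obtain ⟨e⟩ := exists_e h
  obtain ⟨x, hx⟩ : ∃ x, x = φ * γ := ⟨_, rfl⟩
  have hxx : x * x = 1 := by
    rw [hx]
    calc φ * γ * (φ * γ) = φ * (γ * φ) * γ := by group
      _ = (φ * φ) * (γ * γ) := by rw [← hc]; group
      _ = 1 := by rw [hφ, hγ, one_mul]
  have hxF : sF h x = -1 := by rw [hx, map_mul, h1, h3]; decide
  have hxG : sG h x = -1 := by rw [hx, map_mul, h2, h4]; decide
  obtain ⟨e', h5, h6⟩ := pl2 e hxx (bits_of h e (b := true) (c := true) hxF hxG) hφ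
    (bits_of h e (b := true) (c := false) h1 h2) (by rw [hx, ← mul_assoc, mul_assoc φ γ φ, ← hc, ← mul_assoc])
  have h7 := h6.mul h5
  have h8 : φ * x = γ := by rw [hx, ← mul_assoc, hφ, one_mul]
  rw [h8] at h7
  have h9 : (D e').IsTau (false, true, 0) γ := h7
  exact gen_pair (D e') (fun i j hij => k1 (fx_one h6 hij)) (fun u => k2 (fx_u h9 u))

theorem fx_conj_le {K : Subgroup L} {β : MulAut L} {i : L} (hβ : β = MulAut.conj i) (h : fx β ≤ K) :
    centralizer ({i} : Set L) ≤ K := by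
  intro l hl
  apply h
  rw [mem_fx, hβ, MulAut.conj_apply]
  rw [mem_centralizer_singleton_iff] at hl
  rw [← hl, mul_inv_cancel_right]

/-- **A four-group of automorphisms, not all inner.** -/
theorem gen (h : IsL34 L) {α β : MulAut L} (hα : α * α = 1) (hβ : β * β = 1) (hc : α * β = β * α)
    (hβ1 : β ≠ 1) (hαβ : α ≠ β) (ho : sF h α = -1 ∨ sG h α = -1)
    {K : Subgroup L} (k1 : fx α ≤ K) (k2 : fx β ≤ K) (k3 : fx (α * β) ≤ K) : K = ⊤ := by
  obtain ⟨e⟩ := exists_e h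
  have hin : ∀ γ : MulAut L, γ * γ = 1 → γ ≠ 1 → α * γ = γ * α → sF h γ = 1 → sG h γ = 1 →
      fx γ ≤ K → K = ⊤ := by
    intro γ hγ hγ1 hcγ g1 g2 hK
    obtain ⟨i, hi⟩ := inner h hγ g1 g2
    have hi1 : i ≠ 1 := by
      rintro rfl
      exact hγ1 (by rw [hi, map_one])
    have hii : i * i = 1 := by
      apply (D e).conj_injective
      rw [map_mul, ← hi, hγ, map_one]
    refine gen_inner h hα ho hii hi1 ?_ k1 (fx_conj_le hi hK)
    apply (D e).conj_injective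
    rw [conj_map, ← hi, hcγ, mul_inv_cancel_right]
  have hαβ2 : (α * β) * (α * β) = 1 := by
    calc α * β * (α * β) = α * (β * α) * β := by group
      _ = (α * α) * (β * β) := by rw [← hc]; group
      _ = 1 := by rw [hα, hβ, one_mul]
  have hαβ1 : α * β ≠ 1 := by
    intro h1
    apply hαβ
    calc α = α * (β * β) := by rw [hβ, mul_one]
      _ = (α * β) * β := by rw [mul_assoc]
      _ = β := by rw [h1, one_mul]
  have hcαβ : α * (α * β) = α * β * α := by rw [hc, ← mul_assoc, hc, mul_assoc]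
  have e1 : sF h (α * β) = sF h α * sF h β := map_mul _ _ _
  have e2 : sG h (α * β) = sG h α * sG h β := map_mul _ _ _
  have hc2 : α * (α * β) = (α * β) * α := hcαβ
  have hc3 : β * (α * β) = (α * β) * β := by rw [← mul_assoc, ← hc]
  have hcs : (α * β) * α = α * (α * β) := hcαβ.symm
  rcases sF_cases h α with a1 | a1 <;> rcases sG_cases h α with a2 | a2 <;>
    rcases sF_cases h β with b1 | b1 <;> rcases sG_cases h β with b2 | b2 <;>
    rw [a1, b1] at e1 <;> rw [a2, b2] at e2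
  -- `α` inner
  · rw [a1, a2] at ho; exact absurd ho (by decide)
  · rw [a1, a2] at ho; exact absurd ho (by decide)
  · rw [a1, a2] at ho; exact absurd ho (by decide)
  · rw [a1, a2] at ho; exact absurd ho (by decide)
  -- `α` of type `g`
  · exact hin β hβ hβ1 hc b1 b2 k2
  · exact hin _ hαβ2 hαβ1 hcαβ (e1.trans (by decide)) (e2.trans (by decide)) k3
  · exact gen_fg h hβ hα hc.symm b1 b2 a1 a2 k2 k1
  · exact gen_fg h hαβ2 hα hcs (e1.trans (by decide)) (e2.trans (by decide)) a1 a2 k3 k1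
  -- `α` of type `f`
  · exact hin β hβ hβ1 hc b1 b2 k2
  · exact gen_fg h hα hβ hc a1 a2 b1 b2 k1 k2
  · exact hin _ hαβ2 hαβ1 hcαβ (e1.trans (by decide)) (e2.trans (by decide)) k3
  · exact gen_fg h hα hαβ2 hc2 a1 a2 (e1.trans (by decide)) (e2.trans (by decide)) k1 k3
  -- `α` of type `u`
  · exact hin β hβ hβ1 hc b1 b2 k2
  · exact gen_fg h hαβ2 hβ hc3.symm (e1.trans (by decide)) (e2.trans (by decide)) b1 b2 k3 k2
  · exact gen_fg h hβ hαβ2 hc3 b1 b2 (e1.trans (by decide)) (e2.trans (by decide)) k2 k3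
  · exact hin _ hαβ2 hαβ1 hcαβ (e1.trans (by decide)) (e2.trans (by decide)) k3

/-- `C_L(u)` contains no four-group -/
theorem rank_one (h : IsL34 L) {υ : MulAut L} (hυ : υ * υ = 1) (h1 : sF h υ = -1) (h2 : sG h υ = -1)
    {s t : L} (hs : s * s = 1) (ht : t * t = 1) (hs1 : s ≠ 1) (ht1 : t ≠ 1) (hυs : υ s = s)
    (hυt : υ t = t) (hc : s * t = t * s) : s = t := by
  obtain ⟨e⟩ := exists_e h
  exact comm e hυ (bits_of h e (b := true) (c := true) h1 h2) s t hs ht hs1 ht1 hυs hυt hc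

/-! ### the field type -/

theorem fld_code : ∀ p : Code, ctau (true, false, 0) p = p → cmul p p = cone → p ≠ cone →
    p ≠ ⟨0, 0, 1⟩ → (p = ⟨1, 0, 0⟩ ∨ p = ⟨1, 0, 1⟩) ∨ (p = ⟨0, 1, 0⟩ ∨ p = ⟨0, 1, 1⟩) := by
  decide +kernel

theorem fr_one : ∀ c : F4, c ≠ 0 → fr true c = c → c = 1 := by decide

/-- adapted coordinates for a field automorphism and a fixed involution -/
theorem exists_fld (h : IsL34 L) {φ : MulAut L} (hφ : φ * φ = 1) (h1 : sF h φ = -1)
    (h2 : sG h φ = 1) {s : L} (hs : s * s = 1) (hs1 : s ≠ 1) (hφs : φ s = s) :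
    ∃ e : PSL3 ≃* L, (D e).IsTau (true, false, 0) φ ∧ s = (D e).x 0 2 1 := by
  obtain ⟨e⟩ := exists_e h
  obtain ⟨e', h3 | h3, c, hc, h4⟩ :=
    pla e hφ (Or.inl (bits_of h e (b := true) (c := false) h1 h2)) hs hs1 hφs
  · refine ⟨e', h3, ?_⟩
    have h5 : φ ((D e').x 0 2 c) = (D e').x 0 2 c := by rw [← h4]; exact hφs
    rw [h3.x02] at h5
    have h6 : fr true c = c := by
      have h7 := (D e').inj (p := ⟨0, 0, fr true c⟩) (q := ⟨0, 0, c⟩) (by
        rw [(D e').el_x02, (D e').el_x02]; exact h5)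
      exact congrArg Code.c h7
    rw [h4, fr_one c hc h6]
  · exfalso
    have h5 := h3.hasTy.tyHom
    have h6 := bits_of h e' (b := true) (c := false) h1 h2
    rw [h5] at h6
    exact absurd h6 (by decide)

/-! ### `C_Aut(f)` contains no quaternion group -/

/-- the types commuting with `f` -/
def tl : List Ty := [(false, false, 0), (true, false, 0), (false, true, 0), (true, true, 0)]

end

end Cfsg.Agent.UGT.FL34.Seven

private theorem dce_af0bc6d8a222 : _root_.True := by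
  try have : _root_.True := by simp only [_root_.Cfsg.Agent.UGT.FL34.Seven.sF.eq_1]
  try have : _root_.True := by simp only [_root_.Cfsg.Agent.UGT.FL34.Seven.sG.eq_1]
  exact _root_.True.intro
end

-- part: UGT/CE/HStar34
section
set_option linter.all false
open scoped Cfsg.Agent.FastGrp

/-!
# Theorem H* for `L = L₃(4)`: `N(Y) ≤ N(L)`

`B e` : `e` is bad for `L`, `Y = YY L e = O(C_L(e))`. Paired or not. With it, `C(e) ≤ N(L)` for bad `e` (`HGrp.main`).
-/

set_option autoImplicit false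

open Subgroup

namespace Cfsg.Agent.UGT.CE.L34

open Cfsg.Agent.UGT.ThE.Base (IsT IsS comm_of_mem L_conj L_conj' K_le_M L_le_M K_conj K_conj')
open Cfsg.Agent.UGT.CE.Base
open Cfsg.Agent.UGT.ThEL34 (Acts Facts Facts2 fx mem_fx exists_acts acts_one_iff acts_coe acts_of_mem acts_one
  acts_norm exists_hom)
open Cfsg.Agent.UGT.Blk

universe u

variable {G : Type u} [Group G]

/-- The hypotheses of Theorem H*. -/
structure HGrp (O : G → Subgroup G) (L : Subgroup G) (B : G → Prop) : Prop extends Grp0 O L B where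
  c5 : ∀ {e}, B e → ∀ X : MulAut L, Acts L e X → Facts5 X
  Oodd : ∀ t, Odd (Nat.card (O t))
  Bt : ∀ {e}, B e → ∀ t, IsT L e t → B (e * t)
  four : ∀ {e}, B e → ∃ t u, IsT L e t ∧ IsT L e u ∧ t ≠ u ∧ t * u = u * t
  /-- `L` is a component of `C(t)` -/
  cmp : ∀ {e}, B e → ∀ t, IsT L e t → ∀ c, c * t = t * c →
    (∀ l ∈ L, c * l * c⁻¹ ∈ L) ∨ ∀ l ∈ L, c * l * c⁻¹ ∈ centralizer (L : Set G)
  nc : ∀ {e}, B e → ∀ g, g * e = e * g → ¬ ∀ l ∈ L, g * l * g⁻¹ ∈ centralizer (L : Set G)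
  /-- `O(C_L(e)) ≤ O(C(e))` -/
  bad : ∀ {e}, B e → ∀ y ∈ L, y ^ 3 = 1 → y * e = e * y → y ∈ O e

namespace HGrp

variable {O : G → Subgroup G} {L : Subgroup G} {B : G → Prop} (H : HGrp O L B)
include H

theorem O_conj {e c : G} (h : c * e = e * c) {a : G} (ha : a ∈ O e) : c * a * c⁻¹ ∈ O e := by
  have h1 := H.Ocj c e a ha
  rwa [cj_eq h] at h1

theorem norm_of [Finite G] {e t : G} (he : B e) (ht : IsT L e t) {c : G} (hct : c * t = t * c)
    (hce : c * e = e * c) : c ∈ normalizer (L : Set G) := by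
  rcases H.cmp he t ht c hct with h | h
  · exact Res.ThH.mem_normalizer_of_le h
  · exact absurd h (H.nc he c hce)

theorem O_le [Finite G] {e : G} (he : B e) : O e ≤ normalizer (L : Set G) := by
  obtain ⟨t, u, ht, hu, hne, htu⟩ := H.four he
  refine Cfsg.Agent.Lib.KleinGen.le_of_klein (O e) _ (H.odd he) t u ht.sq hu.sq htu
    (fun a ha => H.O_conj ht.comm ha) (fun a ha => H.O_conj hu.comm ha) ?_ ?_ ?_
  · intro c hc
    exact H.norm_of he ht (mem_centralizer_singleton_iff.mp hc.2) (H.Oc he c hc.1)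
  · intro c hc
    exact H.norm_of he hu (mem_centralizer_singleton_iff.mp hc.2) (H.Oc he c hc.1)
  · intro c hc
    exact H.norm_of he (isT_mul ht hu hne htu) (mem_centralizer_singleton_iff.mp hc.2) (H.Oc he c hc.1)

omit H in
/-- `YY L (e t) = YY L e` -/
theorem YY_mul {e t : G} (ht : t ∈ centralizer (L : Set G)) : YY L (e * t) = YY L e := by
  unfold YY
  congr 1
  ext y
  constructor
  · rintro ⟨h1, h2, h3⟩
    refine ⟨h1, h2, ?_⟩
    have h4 : y * t = t * y := comm_of_mem h1 ht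
    have h5 : y * e * t = e * y * t := by
      calc y * e * t = y * (e * t) := by group
        _ = e * t * y := h3
        _ = e * (y * t) := by rw [h4]; group
        _ = e * y * t := by group
    exact mul_right_cancel h5
  · rintro ⟨h1, h2, h3⟩
    refine ⟨h1, h2, ?_⟩
    have h4 : y * t = t * y := comm_of_mem h1 ht
    calc y * (e * t) = y * e * t := by group
      _ = e * (y * t) := by rw [h3]; group
      _ = e * t * y := by rw [h4]; group

theorem data [Finite G] {e₀ : G} (he₀ : B e₀) : HStar.Data O L (YY L e₀) (fun e => B e ∧ YY L e = YY L e₀) := by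
  obtain ⟨X₀, hX₀, F₀⟩ := H.facts he₀
  have hY : ∀ y, y ∈ YY L e₀ ↔ y ∈ L ∧ y ^ 3 = 1 ∧ y * e₀ = e₀ * y := fun y => mem_YY hX₀ F₀.toFacts
  have hYL : YY L e₀ ≤ L := fun y hy => ((hY y).mp hy).1
  have hYO : ∀ {e}, B e ∧ YY L e = YY L e₀ → ∀ a ∈ YY L e₀, a ∈ O e := by
    rintro e ⟨he, hee⟩ a ha
    rw [← hee] at ha
    obtain ⟨X, hX, F⟩ := H.facts he
    obtain ⟨h1, h2, h3⟩ := (mem_YY hX F.toFacts).mp ha
    exact H.bad he a h1 h2 h3
  have hYab : ∀ a ∈ YY L e₀, ∀ b ∈ YY L e₀, a * b = b * a := by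
    intro a ha b hb
    obtain ⟨h1, h2, h3⟩ := (hY a).mp ha
    obtain ⟨h4, h5, h6⟩ := (hY b).mp hb
    have := y_comm F₀ (y := ⟨a, h1⟩) (z := ⟨b, h4⟩) (Subtype.ext h2) ((fix_iff' hX₀ _).mpr h3) (Subtype.ext h5)
      ((fix_iff' hX₀ _).mpr h6)
    exact congrArg Subtype.val this
  obtain ⟨y₀, hy₀, hy₀1⟩ : ∃ y ∈ YY L e₀, y ≠ 1 := by
    obtain ⟨a, b, ha3, hxa, hb3, hxb, ha1, hb1', hab, hab'⟩ := F₀.indep
    exact ⟨a, (hY a).mpr ⟨a.2, congrArg Subtype.val ha3, (fix_iff' hX₀ a).mp hxa⟩, fun h => ha1 (Subtype.ext h)⟩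
  have hs : IsSimpleGroup L := F₀.simp
  have hLK : ∀ a ∈ L, a ∈ centralizer (L : Set G) → a = 1 := fun a ha hk => H.toGrp0.disj he₀ ha hk
  have hYodd : Odd (Nat.card (YY L e₀)) :=
    (H.Oodd e₀).of_dvd_nat (card_dvd_of_le fun y hy => hYO ⟨he₀, rfl⟩ y hy)
  refine
    { Ocj := H.Ocj
      YL := hYL
      Yab := hYab
      Yodd := hYodd
      YK := fun a ha hk => hLK a (hYL ha) hk
      Ynn := ?_
      gen := ?_
      inv := ?_
      mem := ?_
      core := hYO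
      coreK := ?_
      Oodd := H.Oodd
      LZ := hLK
      gen2 := ?_
      comm := ?_
      mul := ?_
      four := ?_
      good := ?_
      aut := ?_
      pair := ?_ }
  · -- `L` does not normalize `Y`
    intro h
    obtain ⟨s, hs'⟩ := H.toGrp0.exS he₀
    have h1 := H.toGrp0.simp he₀ (YY L e₀) hYL (fun l hl n hn => (mem_normalizer_iff.mp (h hl) n).mp hn)
    rcases h1 with h1 | h1
    · rw [h1, mem_bot] at hy₀
      exact hy₀1 hy₀
    · have h2 : s ∈ YY L e₀ := by rw [h1]; exact hs'.mem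
      have h3 := ((hY s).mp h2).2.1
      have h4 : s = s ^ 3 := by rw [pow_three, hs'.sq, mul_one]
      exact hs'.ne (h4.trans h3)
  · intro K hK
    obtain ⟨N, hN⟩ : ∃ N : Subgroup G, N = closure {w | ∃ l ∈ L, ∃ a ∈ YY L e₀, w = l * a * l⁻¹} := ⟨_, rfl⟩
    have hNK : N ≤ K := by
      rw [hN, closure_le]
      rintro _ ⟨l, hl, a, ha, rfl⟩
      exact hK l hl a ha
    have hNL : N ≤ L := by
      rw [hN, closure_le]
      rintro _ ⟨l, hl, a, ha, rfl⟩
      exact mul_mem (mul_mem hl (hYL ha)) (inv_mem hl)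
    have h1 := H.toGrp0.simp he₀ N hNL (by
      intro l hl n hn
      have h2 : N ≤ N.comap (MulAut.conj l).toMonoidHom := by
        nth_rewrite 1 [hN]
        rw [closure_le]
        rintro _ ⟨m, hm, a, ha, rfl⟩
        rw [SetLike.mem_coe, mem_comap]
        change l * (m * a * m⁻¹) * l⁻¹ ∈ N
        rw [hN]
        exact Subgroup.subset_closure ⟨l * m, mul_mem hl hm, a, ha, by group⟩
      exact h2 hn)
    rcases h1 with h1 | h1
    · exfalso
      apply hy₀1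
      have h2 : y₀ ∈ N := by
        rw [hN]
        exact Subgroup.subset_closure ⟨1, one_mem _, y₀, hy₀, by group⟩
      rw [h1, mem_bot] at h2
      exact h2
    · rw [← h1]
      exact hNK
  · rintro e ⟨he, -⟩
    apply Res.ThH.order_two (H.sq he)
    rintro rfl
    obtain ⟨X, hX, F⟩ := H.facts he
    obtain ⟨χ, hχ⟩ := F.chi0
    have h2 : X = 1 := hX.uniq acts_one
    rw [h2, map_one] at hχ
    exact absurd hχ (by decide)
  · rintro e ⟨he, -⟩
    obtain ⟨X, hX, F⟩ := H.facts he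
    exact hX.mem
  · rintro e ⟨he, hee⟩ d hd
    obtain ⟨y, hy, k, hk, rfl⟩ := H.toGrp0.core he (H.O_le he) d hd
    rw [hee] at hy
    exact ⟨y, hy, by rwa [inv_mul_cancel_left]⟩
  · intro K hK
    obtain ⟨N, hN⟩ : ∃ N : Subgroup G, N = closure {w | w ∈ L ∧ w * w = 1} := ⟨_, rfl⟩
    have hNK : N ≤ K := by
      rw [hN, closure_le]
      rintro w ⟨hw, hww⟩
      exact hK w hw hww
    have hNL : N ≤ L := by
      rw [hN, closure_le]
      rintro w ⟨hw, -⟩
      exact hw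
    have h1 := H.toGrp0.simp he₀ N hNL (by
      intro l hl n hn
      have h2 : N ≤ N.comap (MulAut.conj l).toMonoidHom := by
        nth_rewrite 1 [hN]
        rw [closure_le]
        rintro w ⟨hw, hww⟩
        rw [SetLike.mem_coe, mem_comap]
        change l * w * l⁻¹ ∈ N
        rw [hN]
        exact Subgroup.subset_closure ⟨mul_mem (mul_mem hl hw) (inv_mem hl), Res.ThH.conj_mul_self hww⟩
      exact h2 hn)
    rcases h1 with h1 | h1
    · exfalso
      obtain ⟨s, hs'⟩ := H.toGrp0.exS he₀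
      apply hs'.ne
      have h2 : s ∈ N := by
        rw [hN]
        exact Subgroup.subset_closure ⟨hs'.mem, hs'.sq⟩
      rw [h1, mem_bot] at h2
      exact h2
    · rw [← h1]
      exact hNK
  · rintro e ⟨he, hee⟩ a ha
    rw [← hee] at ha
    obtain ⟨X, hX, F⟩ := H.facts he
    exact ((mem_YY hX F.toFacts).mp ha).2.2.symm
  · rintro e t ⟨he, hee⟩ htK ht2 hte
    exact ⟨H.Bt he t ⟨htK, hte, Res.ThH.sq ht2, Res.ThH.ne_one ht2⟩, by rw [YY_mul htK, hee]⟩
  · rintro e ⟨he, hee⟩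
    obtain ⟨t, u, ht, hu, hne, htu⟩ := H.four he
    exact ⟨t, u, ht.mem, hu.mem, Res.ThH.order_two ht.sq ht.ne, Res.ThH.order_two hu.sq hu.ne, hne, htu, ht.comm,
      hu.comm⟩
  · rintro e t ⟨he, hee⟩ htK ht2 hte
    have ht : IsT L e t := ⟨htK, hte, Res.ThH.sq ht2, Res.ThH.ne_one ht2⟩
    constructor
    · intro c hct hcY
      rcases H.cmp he t ht c hct with h | h
      · exact Res.ThH.mem_normalizer_of_le h
      · exfalso
        have h1 : c * y₀ * c⁻¹ ∈ YY L e₀ := (mem_normalizer_iff.mp hcY _).mp hy₀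
        have h2 := hLK _ (hYL h1) (h y₀ (hYL hy₀))
        apply hy₀1
        calc y₀ = c⁻¹ * (c * y₀ * c⁻¹) * c := by group
          _ = 1 := by rw [h2]; group
    · intro c hct a ha
      rcases H.cmp he t ht c hct with h | h
      · exact L_le_M (h a (hYL ha))
      · exact K_le_M (h a (hYL ha))
  · rintro e c ⟨he, hee⟩ hcL hcY
    obtain ⟨X, hX, F⟩ := H.facts he
    have F5 := H.c5 he X hX
    obtain ⟨α, hα⟩ := exists_acts hcL
    obtain ⟨y, hy3, hXy, h⟩ := F5.aut α (by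
      intro y h1 h2
      have h3 : (y : G) ∈ YY L e₀ := by
        rw [← hee]
        exact subset_closure ⟨y.2, congrArg Subtype.val h1, (fix_iff' hX y).mp h2⟩
      have h4 := mem_centralizer_iff.mp hcY _ h3
      apply Subtype.ext
      rw [hα y, ← h4, mul_inv_cancel_right])
    refine ⟨(y : G)⁻¹, inv_mem ?_, ?_⟩
    · rw [← hee]
      exact subset_closure ⟨y.2, congrArg Subtype.val hy3, (fix_iff' hX y).mp hXy⟩
    · have h1 : Acts L ((y : G)⁻¹ * c) ((MulAut.conj y)⁻¹ * α) := (acts_coe y).inv.mul hα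
      rcases h with h | h
      · left
        rw [h, inv_mul_cancel] at h1
        exact acts_one_iff.mp h1
      · right
        have h2 := h1.mul hX
        rw [h] at h2
        have h3 : (MulAut.conj y)⁻¹ * (MulAut.conj y * X) * X = 1 := by
          rw [inv_mul_cancel_left]
          exact F.xx
        rw [h3] at h2
        exact acts_one_iff.mp h2
  · rintro e ⟨he, hee⟩
    obtain ⟨s, hs'⟩ := H.toGrp0.exS he
    obtain ⟨l, hl, hls⟩ := H.toGrp0.cj he s hs'
    refine ⟨s, hs'.mem, l, hl, Res.ThH.order_two hs'.sq hs'.ne, hs'.comm, ?_, hls, ?_⟩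
    · intro a ha
      rw [← hee] at ha
      exact H.toGrp0.inv he s hs' a ha
    · intro K h1 h2
      rw [← hee] at h1 h2
      apply H.toGrp0.gen1 he s hs' K h1
      rw [YY, closure_le]
      rintro y ⟨hy, hy3, hyc⟩
      have h3 : l⁻¹ * y * l ∈ YY L e := by
        refine subset_closure ⟨mul_mem (mul_mem (inv_mem hl) hy) hl, ?_, ?_⟩
        · have : l⁻¹ * y * l = l⁻¹ * y * l⁻¹⁻¹ := by group
          rw [this, conj_pow, hy3]
          group
        · have h4 : e = l⁻¹ * (e * s) * l := by rw [← hls]; group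
          calc l⁻¹ * y * l * e = l⁻¹ * y * l * (l⁻¹ * (e * s) * l) := by rw [← h4]
            _ = l⁻¹ * (y * (e * s)) * l := by group
            _ = l⁻¹ * (e * s * y) * l := by rw [hyc]
            _ = (l⁻¹ * (e * s) * l) * (l⁻¹ * y * l) := by group
            _ = e * (l⁻¹ * y * l) := by rw [← h4]
      have h4 := h2 _ h3
      have h5 : l * (l⁻¹ * y * l) * l⁻¹ = y := by group
      rw [h5] at h4
      exact h4

/-- **THEOREM H\***: `N(Y) ≤ N(L)` -/
theorem NY [Finite G] {e : G} (he : B e) {c : G} (hc : ∀ y ∈ YY L e, c * y * c⁻¹ ∈ YY L e) :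
    c ∈ normalizer (L : Set G) :=
  (H.data he).normalizer_le ⟨he, rfl⟩ (Res.ThH.mem_normalizer_of_le hc)

end HGrp

/-- The hypotheses of `QGrp.main` (as `PGrp`, without `NY`). -/
structure QGrp (O : G → Subgroup G) (L : Subgroup G) (B : G → Prop) : Prop extends HGrp O L B where
  Bcj : ∀ {e}, B e → ∀ l ∈ L, B (l * e * l⁻¹)
  /-- `L` is the only component of its class of `C(t)` moved by `O(C(e))` -/
  uni : ∀ {e}, B e → ∀ z, IsT L e z → ∀ g, g * e = e * g → IsT L e (g * z * g⁻¹) →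
    g ∈ normalizer (L : Set G)
  fin : ∀ {e}, B e → ∀ t, IsT L e t → O t ≤ centralizer (L : Set G)

namespace QGrp

variable {O : G → Subgroup G} {L : Subgroup G} {B : G → Prop} (H : QGrp O L B)
include H

theorem pgrp [Finite G] : PGrp O L B where
  toGrp0 := H.toGrp0
  cY he X hX := (H.c5 he X hX).toFacts4
  Bcj := H.Bcj
  Bt := H.Bt
  four := H.four
  uni := H.uni
  cmp := H.cmp
  fin := H.fin
  nc := H.nc
  NY he _ hc := H.toHGrp.NY he hc
  bad := H.bad

/-- `C(e) ≤ N(L)` for bad `e` -/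
theorem main [Finite G] {e : G} (he : B e) {c : G} (hc : c * e = e * c) : c ∈ normalizer (L : Set G) :=
  H.pgrp.main he hc

end QGrp

end Cfsg.Agent.UGT.CE.L34
end

-- part: UAlt/Case0
section
prune_inst 0x4d03047205522100000180512200020443000000200630001d9610502090e1321a942270178701e115112a2e0600a006001100059401000000000020040040120802b72c6937cad0437008780f807180c00000000000000000000000000041000000000000
set_option linter.all false
open scoped Cfsg.Agent.FastGrp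

/-!
# Case N or case D

`caseN_or_caseD`: the pump-ups in `C(v)` of the 2-components `C_L(v)^∞`, `v` a root of `L`.
-/

set_option autoImplicit false
set_option linter.unusedSectionVars false

namespace Cfsg.Agent.UAlt

open Cfsg Equiv Equiv.Perm Subgroup
open Cfsg.Agent.Intrinsic.Basic Cfsg.Agent.Intrinsic Cfsg.Agent.Intrinsic.Cen
open Cfsg.Agent.Intrinsic.Diag
open Cfsg.Agent.SignalizersComponents Cfsg.Agent.Lib
open Cfsg.Agent.SignalizersComponents.IntrinsicBasic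
open Cfsg.Agent.StdAlt (V4 four4 mem_four4)
open Cfsg.Agent.StdAlt.Roots (IsRoot)
open Cfsg.Agent.UGT.Triple Cfsg.Agent.McLLyComp.Act
open scoped commutatorElement

variable {G : Type*} [Group G] [Finite G] {α : Type*} [Fintype α] [DecidableEq α]
  {L : Subgroup G} {Ω : Finset α} {x a : G}

/-! ### the triple -/

/-- `L` centralises `a` -/
theorem comm_of_triple (T : IsTriple x a L) {l : G} (hl : l ∈ L) : l * a = a * l :=
  comm_c (T.comp.le hl)

/-- `O(C(x)) ∩ C(a)` acts inside `Alt(Fix x)` -/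
theorem Mod.label_core (M : Mod L Ω) (T : IsTriple x a L) {d : G}
    (hd : d ∈ core (centralizer ({x} : Set G))) (hda : d ∈ centralizer ({a} : Set G)) :
    M.φ d ∈ alt (fixIn Ω (M.φ x)) := by
  obtain ⟨D, hD⟩ : ∃ D, D = core (centralizer ({x} : Set G)) ⊓ centralizer ({a} : Set G) := ⟨_, rfl⟩
  have ho : Odd (Nat.card D) := Odd.of_dvd_nat (odd_card_core (centralizer ({x} : Set G)))
    (by rw [hD]; exact card_dvd_of_le inf_le_left)
  refine UAlt.core_cent_le (M.mem_sym x T.x_mem) (M.sq T.x_mem (sq_of_order T.invx))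
    (M.phi_mem_core T.x_mem (sq_of_order T.invx) ho ?_ ?_ ?_ d (hD ▸ ⟨hd, hda⟩))
  · rw [hD]
    exact fun e he => T.mem_normalizer_of_core he.1 he.2
  · rw [hD]
    exact fun e he => comm_c ((core_le _) he.1)
  · rw [hD]
    intro k hk hkx e he
    have hka : k ∈ centralizer ({a} : Set G) := T.comp.le hk
    exact ⟨conj_core (mem_c hkx) he.1, Subgroup.mul_mem _ (Subgroup.mul_mem _ hka he.2)
      (Subgroup.inv_mem _ hka)⟩

/-- some `d ∈ O(C(x)) ∩ C(a) ∩ C(c)` acts nontrivially on `L`, `c` an involution commuting with `a`, `x` and fixing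
the fixed points of `x` -/
theorem Mod.exists_bad (M : Mod L Ω) (T : IsTriple x a L) {c : G} (hc2 : c * c = 1)
    (hcL : c ∈ normalizer (L : Set G)) (hca : c * a = a * c) (hcx : c * x = x * c)
    (hfix : ∀ y ∈ fixIn Ω (M.φ x), M.φ c y = y) :
    ∃ d ∈ core (centralizer ({x} : Set G)), d ∈ centralizer ({a} : Set G) ∧
      d ∈ centralizer ({c} : Set G) ∧ d ∈ normalizer (L : Set G) ∧
      M.φ d ∈ alt (fixIn Ω (M.φ x)) ∧ M.φ d ≠ 1 := by
  obtain ⟨d, hd, hda, hf⟩ := T.bad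
  obtain ⟨F, hF⟩ : ∃ F : Subgroup G, ∀ e, e ∈ F ↔ e ∈ core (centralizer ({x} : Set G)) ∧
      e ∈ centralizer ({a} : Set G) ∧ Fixes e L := by
    refine ⟨{ carrier := {e | e ∈ core (centralizer ({x} : Set G)) ∧
        e ∈ centralizer ({a} : Set G) ∧ Fixes e L}
              mul_mem' := ?_
              one_mem' := ?_
              inv_mem' := ?_ }, fun e => Iff.rfl⟩
    · rintro e e' ⟨h1, h2, h3⟩ ⟨h1', h2', h3'⟩
      exact ⟨mul_mem h1 h1', mul_mem h2 h2', fixes_mul h3 h3'⟩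
    · exact ⟨one_mem _, one_mem _, fixes_one L⟩
    · rintro e ⟨h1, h2, h3⟩
      exact ⟨inv_mem h1, inv_mem h2, fixes_inv h3⟩
  have hFodd : Odd (Nat.card F) :=
    Odd.of_dvd_nat (odd_card_core (centralizer ({x} : Set G)))
      (card_dvd_of_le fun e he => ((hF e).mp he).1)
  have hci : c⁻¹ = c := inv_eq_of_mul_eq_one_left hc2
  have hcF : ∀ e ∈ F, c * e * c⁻¹ ∈ F := by
    intro e he
    obtain ⟨h1, h2, h3⟩ := (hF e).mp he
    refine (hF _).mpr ⟨conj_core (mem_c hcx) h1, ?_, fixes_conj h3 hcL⟩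
    exact mul_mem (mul_mem (mem_c hca) h2) (inv_mem (mem_c hca))
  have hcn : c ∈ normalizer (F : Set G) := by
    rw [mem_normalizer_iff]
    intro e
    refine ⟨hcF e, fun h => ?_⟩
    have h1 := hcF _ h
    have h2 : c * (c * e * c⁻¹) * c⁻¹ = e := by
      rw [hci]
      calc c * (c * e * c) * c = (c * c) * e * (c * c) := by group
        _ = e := by rw [hc2]; group
    rwa [h2] at h1
  have hdL : d ∈ normalizer (L : Set G) := T.mem_normalizer_of_core hd hda
  have hdφ := M.label_core T hd hda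
  have hcd : M.φ c * M.φ d = M.φ d * M.φ c := comm_of_fix hfix (alt_le_sym _ hdφ)
  have hcdL : c * d * c⁻¹ ∈ normalizer (L : Set G) := mul_mem (mul_mem hcL hdL) (inv_mem hcL)
  have hmem : d⁻¹ * (c * d * c⁻¹) ∈ F := by
    refine (hF _).mpr ⟨mul_mem (inv_mem hd) (conj_core (mem_c hcx) hd), ?_, ?_⟩
    · exact mul_mem (inv_mem hda) (mul_mem (mul_mem (mem_c hca) hda) (inv_mem (mem_c hca)))
    · rw [← M.fixes_iff (mul_mem (inv_mem hdL) hcdL), M.mul _ _ (inv_mem hdL) hcdL, M.inv hdL,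
        M.conj hcL hdL, hcd, mul_inv_cancel_right, inv_mul_cancel]
  obtain ⟨o, ho, hco⟩ := Intrinsic.Lifting.exists_commute (n := 1) hFodd
    (by rw [pow_one, pow_two, hc2]) hcn hmem
  obtain ⟨h1, h2, h3⟩ := (hF o).mp ho
  have hoL : M.φ o = 1 := (M.fixes_iff h3.1).mpr h3
  have hlab : M.φ (d * o) = M.φ d := by rw [M.mul _ _ hdL h3.1, hoL, mul_one]
  refine ⟨d * o, mul_mem hd h1, mul_mem hda h2, mem_c hco.symm, mul_mem hdL h3.1, ?_, ?_⟩
  · rw [hlab]; exact hdφ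
  · rw [hlab]
    intro h
    exact hf ((M.fixes_iff hdL).mp h)

/-! ### a good root -/

/-- there is a root four-group commuting with `x` with support disjoint from `Fix x` -/
theorem Mod.exists_good (M : Mod L Ω) (T : IsTriple x a L) (h : 7 ≤ Ω.card) :
    ∃ (S : Finset α) (V : Subgroup G), RF M V S ∧ Disjoint S (fixIn Ω (M.φ x)) ∧
      Cm V (zpowers x) := by
  have h3 := M.card_of_triple T
  have hxx : ∀ y, M.φ x (M.φ x y) = y := by
    intro y
    rw [← Perm.mul_apply, M.sq T.x_mem (sq_of_order T.invx)]; rfl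
  have hxΩ : ∀ y ∈ Ω, M.φ x y ∈ Ω := fun y hy => mem_of_mem_sym (M.mem_sym x T.x_mem) hy
  have hmv : (Ω \ fixIn Ω (M.φ x)).card = Ω.card - 3 := by
    rw [Finset.card_sdiff_of_subset (fixIn_subset _ _), h3]
  obtain ⟨p, hp⟩ : (Ω \ fixIn Ω (M.φ x)).Nonempty := Finset.card_pos.mp (by omega)
  obtain ⟨q, hq⟩ : ((Ω \ fixIn Ω (M.φ x)) \ {p, M.φ x p}).Nonempty := by
    apply Finset.card_pos.mp
    have h4 := Finset.le_card_sdiff ({p, M.φ x p} : Finset α) (Ω \ fixIn Ω (M.φ x))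
    have h5 : ({p, M.φ x p} : Finset α).card ≤ 2 := Finset.card_le_two
    omega
  simp only [Finset.mem_sdiff, mem_fixIn, not_and, Finset.mem_insert, Finset.mem_singleton,
    not_or] at hp hq
  obtain ⟨hpΩ, hp⟩ := hp
  obtain ⟨⟨hqΩ, hq⟩, hqp, hqxp⟩ := hq
  have hp' : M.φ x p ≠ p := hp hpΩ
  have hq' : M.φ x q ≠ q := hq hqΩ
  have hnd : [p, M.φ x p, q, M.φ x q].Nodup :=
    StdAlt.PermTypes.nodup_four hp'.symm (Ne.symm hqp) (fun e => hqxp (by rw [e, hxx]))
      (Ne.symm hqxp) (fun e => hqp ((M.φ x).injective e).symm) hq'.symm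
  have hsub : four4 p (M.φ x p) q (M.φ x q) ⊆ Ω := by
    intro y hy
    rcases mem_four4.mp hy with rfl | rfl | rfl | rfl
    · exact hpΩ
    · exact hxΩ _ hpΩ
    · exact hqΩ
    · exact hxΩ _ hqΩ
  have hdis : Disjoint (four4 p (M.φ x p) q (M.φ x q)) (fixIn Ω (M.φ x)) := by
    rw [Finset.disjoint_left]
    intro y hy hy'
    have h5 := (mem_fixIn.mp hy').2
    rcases mem_four4.mp hy with rfl | rfl | rfl | rfl
    · exact hp' h5
    · rw [hxx] at h5; exact hp' h5.symm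
    · exact hq' h5
    · rw [hxx] at h5; exact hq' h5.symm
  have hP : IsPGroup 2 (zpowers x) := by
    refine IsPGroup.of_card (n := 1) ?_
    rw [Nat.card_zpowers, T.invx, pow_one]
  have hPN : zpowers x ≤ normalizer (L : Set G) := by
    rw [zpowers_le]; exact T.x_mem
  -- `φ x` commutes with `four T`
  have hσ : swap p (M.φ x p) * swap q (M.φ x q) ∈ four (four4 p (M.φ x p) q (M.φ x q)) := by
    rw [UAlt.mem_four (card_four4 hnd)]
    exact (V4_iff hnd).mp (Or.inr (Or.inl rfl))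
  have hx : ∀ v ∈ four (four4 p (M.φ x p) q (M.φ x q)), M.φ x * v = v * M.φ x := by
    intro v hv
    -- on the four points `φ x` agrees with a member of the four-group
    have hvc := four_comm (card_four4 hnd) hv hσ
    have hag : ∀ y ∈ four4 p (M.φ x p) q (M.φ x q),
        (swap p (M.φ x p) * swap q (M.φ x q)) y = M.φ x y := by
      obtain ⟨⟨m1, m2, m3⟩, ⟨m4, m5⟩, m6⟩ := StdAlt.PermTypes.of_nodup_four hnd
      intro y hy
      rcases mem_four4.mp hy with rfl | rfl | rfl | rfl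
      · rw [Perm.mul_apply, swap_apply_of_ne_of_ne m2 m3, swap_apply_left]
      · rw [Perm.mul_apply, swap_apply_of_ne_of_ne m4 m5, swap_apply_right, hxx]
      · rw [Perm.mul_apply, swap_apply_left, swap_apply_of_ne_of_ne m3.symm m5.symm]
      · rw [Perm.mul_apply, swap_apply_right, swap_apply_of_ne_of_ne m2.symm m4.symm, hxx]
    ext y
    rw [Perm.mul_apply, Perm.mul_apply]
    by_cases hy : y ∈ four4 p (M.φ x p) q (M.φ x q)
    · have hvy : v y ∈ four4 p (M.φ x p) q (M.φ x q) :=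
        mem_of_mem_sym (alt_le_sym _ (four_le_alt (card_four4 hnd) hv)) hy
      rw [← hag _ hvy, ← hag _ hy, ← Perm.mul_apply, ← Perm.mul_apply, hvc]
    · have hy' : M.φ x y ∉ four4 p (M.φ x p) q (M.φ x q) := by
        intro h5
        apply hy
        have h6 : M.φ x (M.φ x y) ∈ four4 p (M.φ x p) q (M.φ x q) := by
          rw [← hag _ h5]
          exact mem_of_mem_sym (alt_le_sym _ (four_le_alt (card_four4 hnd) hσ)) h5
        rwa [hxx] at h6
      rw [(four_le_alt (card_four4 hnd) hv).2 y hy, (four_le_alt (card_four4 hnd) hv).2 _ hy']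
  obtain ⟨V, hV, hc⟩ := exists_RF M hsub (card_four4 hnd) hP hPN (by
    intro t ht σ h5 h6
    have hσ4 : σ ∈ four (four4 p (M.φ x p) q (M.φ x q)) :=
      (UAlt.mem_four (card_four4 hnd)).mpr ⟨h5, h6⟩
    obtain ⟨n, rfl⟩ := mem_zpowers_iff.mp ht
    have h7 : M.φ (x ^ n) = M.φ x ^ n := map_zpow M.hom ⟨x, T.x_mem⟩ n
    rw [h7]
    exact (Commute.zpow_left (hx σ hσ4) n))
  exact ⟨_, V, hV, hdis, hc⟩

/-- **(0.1)** the pump-up of `C_L(r)^∞` at a good root `r` -/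
theorem Mod.pump_good (M : Mod L Ω) (T : IsTriple x a L) (h : 11 ≤ Ω.card) :
    ∃ r N, M.Rt r ∧ IsTriple x r N ∧ ((a ∈ normalizer (N : Set G) ∧ M.cmp r ≤ N) ∨
      (IntrinsicBasic.cj a N ≠ N ∧ M.cmp r = diag (centralizer ({r} : Set G)) N a)) := by
  obtain ⟨S, V, hV, hdis, hc⟩ := M.exists_good T (by omega)
  obtain ⟨r, hr, hr1⟩ := hV.exists_ne
  have hR := hV.rt hr hr1
  have hrL := hV.le hr
  have hra : r * a = a * r := comm_of_triple T hrL
  have hrx : r * x = x * r := hc r hr x (mem_zpowers x)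
  have hfx : ∀ y ∈ fixIn Ω (M.φ x), M.φ r y = y := fun y hy =>
    (hV.root hr hr1).apply_eq fun h' => Finset.disjoint_left.mp hdis h' hy
  obtain ⟨d, hd, hda, hdr, hdL, hdφ, hd1⟩ := M.exists_bad T hR.sq (le_normalizer hrL) hra hrx hfx
  have h9 : (fixIn Ω (M.φ r)).card = Ω.card - 4 := hR.root.card_fix
  have hE := M.isComp_cmp_of T.comp (le_normalizer hrL) hR.sq (by omega)
  rw [inf_comm] at hE
  have hnf : ¬ Fixes d (M.cmp r) := by
    intro hf
    apply hd1
    ext y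
    by_cases hy : y ∈ fixIn Ω (M.φ x)
    · exact M.apply_of_fixes_cmp (le_normalizer hrL) hR.sq (by omega) hdL hf
        (mem_fixIn.mpr ⟨(mem_fixIn.mp hy).1, hfx y hy⟩)
    · exact hdφ.2 y hy
  obtain ⟨N, hN, -, hor⟩ := UGT.PumpGen.pump T.invx hR.root.order (sq_of_order T.inva) hra hrx hE hd
    hda hdr hnf
  exact ⟨r, N, hR, hN, hor⟩

/-! ### conjugation -/

/-- `cmp` and conjugation -/
theorem Mod.cmp_conj (M : Mod L Ω) {g t : G} (hg : g ∈ normalizer (L : Set G))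
    (ht : t ∈ normalizer (L : Set G)) (htt : t * t = 1) (h5 : 5 ≤ (fixIn Ω (M.φ t)).card) :
    M.cmp (g * t * g⁻¹) = IntrinsicBasic.cj g (M.cmp t) := by
  have h1 := (M.isComp_cmp ht htt h5).cj g
  rw [cj_inf, mem_normalizer_iff_cj.mp hg, cj_centralizer] at h1
  refine ((M.isComp_iff_cmp (mul_mem (mul_mem hg ht) (inv_mem hg)) ?_).mp h1).1.symm
  rw [show g * t * g⁻¹ * (g * t * g⁻¹) = g * (t * t) * g⁻¹ by group, htt]; group

theorem caseD_of_one (M : Mod L Ω) (T : IsTriple x a L) (h : 11 ≤ Ω.card) {r : G} {K : Subgroup G}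
    (hr : M.Rt r) (hK : IsComp (centralizer ({r} : Set G)) K) (hne : IntrinsicBasic.cj a K ≠ K)
    (hd : M.cmp r = diag (centralizer ({r} : Set G)) K a) : CaseD M a := by
  intro v hv
  obtain ⟨g, hg, hgv⟩ := M.exists_conj_root hr.mem hv.mem hr.sq hv.sq hr.isRoot hv.isRoot
  have hga : g * a = a * g := comm_of_triple T hg
  have hgag : g * a * g⁻¹ = a := by rw [hga, mul_inv_cancel_right]
  have h9 : (fixIn Ω (M.φ r)).card = Ω.card - 4 := hr.root.card_fix
  have hC : IntrinsicBasic.cj g (centralizer ({r} : Set G)) = centralizer ({v} : Set G) := by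
    rw [cj_centralizer, hgv]
  refine ⟨IntrinsicBasic.cj g K, ?_, ?_, ?_⟩
  · rw [← hC]; exact hK.cj g
  · intro h1
    apply hne
    apply IntrinsicBasic.cj_injective g
    rw [← IntrinsicBasic.cj_mul, hga, IntrinsicBasic.cj_mul, h1]
  · rw [← hgv, M.cmp_conj (le_normalizer hg) (le_normalizer hr.mem) hr.sq (by omega), hd, cj_diag,
      hgag, hC, hgv]

/-! ### case N -/

theorem subset_of_alt_le {A B : Finset α} (h3 : 3 ≤ A.card) (h : alt A ≤ alt B) : A ⊆ B := by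
  intro p hp
  by_contra hpB
  obtain ⟨q, hq, r, hr, hne⟩ := Finset.one_lt_card.mp
    (show 1 < (A.erase p).card by rw [Finset.card_erase_of_mem hp]; omega)
  rw [Finset.mem_erase] at hq hr
  have h1 := cyc_mem_alt (S := A) hp hq.2 hr.2 hq.1.symm hne
  have h2 := (h h1).2 p hpB
  rw [StdAlt.PermTypes.cyc_apply_fst hr.1.symm hq.1.symm] at h2
  exact hq.1 h2

/-- the transport of the data `KD` by an element of `L` -/
theorem KD.conj {M : Mod L Ω} {X : Finset α} (hdis : Disjoint Ω X) {r g : G} {K : Subgroup G}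
    {Mr : Mod K (fixIn Ω (M.φ r) ∪ X)} (h : KD M a X r K Mr) (hg : g ∈ L) (hga : g * a = a * g)
    (hr : r ∈ normalizer (L : Set G)) (hrr : r * r = 1) (h5 : 5 ≤ (fixIn Ω (M.φ r)).card) :
    ∃ Mv : Mod (IntrinsicBasic.cj g K) (fixIn Ω (M.φ (g * r * g⁻¹)) ∪ X),
      KD M a X (g * r * g⁻¹) (IntrinsicBasic.cj g K) Mv := by
  have hgN : g ∈ normalizer (L : Set G) := le_normalizer hg
  obtain ⟨τ, hτ⟩ : ∃ τ, τ = M.φ g := ⟨_, rfl⟩
  have hτS : τ ∈ sym Ω := hτ ▸ M.mem_sym g hgN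
  have hτX : ∀ y ∈ X, τ y = y := fun y hy => hτS y fun h => Finset.disjoint_left.mp hdis h hy
  have hlab : M.φ (g * r * g⁻¹) = τ * M.φ r * τ⁻¹ := by rw [hτ]; exact M.conj hgN hr
  have hfix : ∀ {S : Finset α} {σ : Perm α}, (fixIn S σ).map τ.toEmbedding =
      fixIn (S.map τ.toEmbedding) (τ * σ * τ⁻¹) := by
    intro S σ
    ext y
    simp only [Finset.mem_map, mem_fixIn, Equiv.coe_toEmbedding]
    constructor
    · rintro ⟨z, ⟨h1, h2⟩, rfl⟩
      refine ⟨⟨z, h1, rfl⟩, ?_⟩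
      rw [Perm.mul_apply, Perm.mul_apply, show τ⁻¹ (τ z) = z by simp, h2]
    · rintro ⟨⟨z, h1, rfl⟩, h2⟩
      refine ⟨z, ⟨h1, ?_⟩, rfl⟩
      rw [Perm.mul_apply, Perm.mul_apply, show τ⁻¹ (τ z) = z by simp] at h2
      exact τ.injective h2
  have hΩ : Ω.map τ.toEmbedding = Ω := by
    ext y
    simp only [Finset.mem_map, Equiv.coe_toEmbedding]
    constructor
    · rintro ⟨z, h1, rfl⟩
      exact mem_of_mem_sym hτS h1
    · intro hy
      exact ⟨τ⁻¹ y, mem_of_mem_sym (inv_mem hτS) hy, by simp⟩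
  have hX : X.map τ.toEmbedding = X := by
    ext y
    simp only [Finset.mem_map, Equiv.coe_toEmbedding]
    constructor
    · rintro ⟨z, h1, rfl⟩
      rw [hτX z h1]; exact h1
    · intro hy
      exact ⟨y, hy, hτX y hy⟩
  have hF : (fixIn Ω (M.φ r)).map τ.toEmbedding = fixIn Ω (M.φ (g * r * g⁻¹)) := by
    rw [hfix, hΩ, hlab]
  have hS : (fixIn Ω (M.φ r) ∪ X).map τ.toEmbedding = fixIn Ω (M.φ (g * r * g⁻¹)) ∪ X := by
    rw [Finset.map_union, hF, hX]
  have key : ∀ (S' : Finset α) (M' : Mod (IntrinsicBasic.cj g K) S'),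
      (∀ y, M'.φ y = τ * Mr.φ (g⁻¹ * y * g) * τ⁻¹) → S' = fixIn Ω (M.φ (g * r * g⁻¹)) ∪ X →
      ∃ Mv : Mod (IntrinsicBasic.cj g K) (fixIn Ω (M.φ (g * r * g⁻¹)) ∪ X),
        ∀ y, Mv.φ y = τ * Mr.φ (g⁻¹ * y * g) * τ⁻¹ := by
    rintro S' M' h1 rfl
    exact ⟨M', h1⟩
  obtain ⟨Mv, hMv⟩ := key _ ((Mr.cj g).relabel τ) (fun y => rfl) hS
  have hcmp := M.cmp_conj hgN hr hrr h5
  refine ⟨Mv, ?_, ?_, ?_, ?_, ?_⟩
  · rw [← cj_centralizer]; exact h.comp.cj g
  · rw [mem_normalizer_iff_cj, ← IntrinsicBasic.cj_mul, ← hga, IntrinsicBasic.cj_mul,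
      mem_normalizer_iff_cj.mp h.norm]
  · rw [hcmp]; exact IntrinsicBasic.cj_mono h.le
  · intro y hy
    rw [hcmp, mem_cj] at hy
    have hyL : g⁻¹ * y * g ∈ L := M.cmp_le r hy
    rw [hMv, h.agree _ hy, hτ, ← M.conj hgN (le_normalizer hyL)]
    congr 1
    group
  · rw [hMv, ← hS, show g⁻¹ * a * g = a by rw [mul_assoc, ← hga]; group, ← hfix, h.fixa, hF]

/-- **(0.2)** case N for one root; `hbig` is the statement on the types -/
theorem exists_KD_aux {n : ℕ} (hn : Odd n) (h13 : 11 ≤ n) (M : Mod L Ω) (T : IsTriple x a L)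
    (hΩ : Ω.card = n) (hα : 4 ≤ Ωᶜ.card) {r : G} {N : Subgroup G} (hr : M.Rt r)
    (hN : IsTriple x r N) (ha : a ∈ normalizer (N : Set G)) (hle : M.cmp r ≤ N)
    (hbig : ∀ {E : Subgroup G}, IsComp (N ⊓ centralizer ({a} : Set G)) E → AltType E (n - 4) →
      ∃ m, Odd m ∧ 7 ≤ m ∧ m ≤ n ∧ AltType N m) :
    ∃ X : Finset α, Disjoint Ω X ∧ (X.card = 0 ∨ X.card = 2 ∨ X.card = 4) ∧
      ∃ Mr : Mod N (fixIn Ω (M.φ r) ∪ X), KD M a X r N Mr := by
  have haa := sq_of_order T.inva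
  have hrN := le_normalizer hr.mem
  have h9 : (fixIn Ω (M.φ r)).card = Ω.card - 4 := hr.root.card_fix
  have hra : r * a = a * r := comm_of_triple T hr.mem
  have hE := M.isComp_cmp_of T.comp hrN hr.sq (by omega)
  rw [inf_comm] at hE
  have hE' : IsComp (N ⊓ centralizer ({a} : Set G)) (M.cmp r) :=
    hE.restrict (inf_le_inf_right _ hN.comp.le) (le_inf hle (hE.le.trans inf_le_right))
  obtain ⟨ME, hME⟩ := M.exists_cmp hrN hr.sq (by omega)
  obtain ⟨m, hm, hm7, hmn, hAT⟩ := hbig hE' (ME.altType_of_card (by omega))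
  -- a labelling of `N` by `m` points
  have hcard : Ω.card + Ωᶜ.card = Fintype.card α := by
    rw [Finset.card_compl]
    have := Finset.card_le_univ Ω
    omega
  obtain ⟨S₀, -, hS₀⟩ : ∃ S₀ ⊆ (Finset.univ : Finset α), S₀.card = m :=
    Finset.exists_subset_card_eq (by rw [Finset.card_univ]; omega)
  obtain ⟨M₀⟩ := hAT.mod_of_card hS₀ hm7
  obtain ⟨e1, e2⟩ := (M₀.isComp_iff_cmp ha haa).mp hE'
  have e3 : (fixIn S₀ (M₀.φ a)).card = Ω.card - 4 := by
    obtain ⟨M1, -⟩ : ∃ M1 : Mod (M₀.cmp a) (fixIn Ω (M.φ r)), ∀ y ∈ M₀.cmp a, M1.φ y = M.φ y := by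
      rw [← e1]; exact ⟨ME, hME⟩
    rw [CaseD.card_fixIn M₀ ha haa e2 M1, h9]
  have e4 : (fixIn S₀ (M₀.φ a)).card ≤ m := by
    rw [← hS₀]; exact Finset.card_le_card (fixIn_subset _ _)
  obtain ⟨X, hX, hXc⟩ : ∃ X ⊆ Ωᶜ, X.card = m - (n - 4) :=
    Finset.exists_subset_card_eq (by omega)
  have hdis : Disjoint Ω X := by
    rw [Finset.disjoint_left]
    intro y hy hy'
    exact (Finset.mem_compl.mp (hX hy')) hy
  have hdis' : Disjoint (fixIn Ω (M.φ r)) X := Finset.disjoint_of_subset_left (fixIn_subset _ _) hdis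
  have hodd := hn
  have hXcard : X.card = 0 ∨ X.card = 2 ∨ X.card = 4 := by
    obtain ⟨i, hi⟩ := hm
    obtain ⟨j, hj⟩ := hodd
    omega
  have hcS : (fixIn Ω (M.φ r) ∪ X).card = m := by
    rw [Finset.card_union_of_disjoint hdis', h9, hXc]; omega
  obtain ⟨M1, hM1⟩ : ∃ M1 : Mod (M₀.cmp a) (fixIn Ω (M.φ r)), ∀ y ∈ M₀.cmp a, M1.φ y = M.φ y := by
    rw [← e1]; exact ⟨ME, hME⟩
  obtain ⟨Mr, hMr⟩ := M₀.exists_relabel_cmp ha haa (by omega) M1
    (S' := fixIn Ω (M.φ r) ∪ X) Finset.subset_union_left (by rw [hS₀, hcS])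
  have hMr' : ∀ y ∈ M.cmp r, Mr.φ y = M.φ y := by
    intro y hy
    rw [e1] at hy
    rw [hMr y hy, hM1 y hy]
  refine ⟨X, hdis, hXcard, Mr, hN.comp, ha, hle, hMr', ?_⟩
  obtain ⟨f1, f2⟩ := (Mr.isComp_iff_cmp ha haa).mp hE'
  apply Finset.Subset.antisymm
  · refine subset_of_alt_le (by omega) fun σ hσ => ?_
    obtain ⟨k, hk, rfl⟩ := Mr.cmp_lift ha haa f2 hσ
    rw [← f1] at hk
    rw [hMr' k hk]
    exact M.cmp_mem_alt hk
  · refine subset_of_alt_le (by omega) fun σ hσ => ?_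
    obtain ⟨k, hk, rfl⟩ := M.cmp_lift hrN hr.sq (by omega) hσ
    rw [← hMr' k hk]
    rw [f1] at hk
    exact Mr.cmp_mem_alt hk

/-- **(0)** case N or case D; `hbig` is the statement on the types -/
theorem caseN_or_caseD_aux {n : ℕ} (hn : Odd n) (h11 : 11 ≤ n) (T : IsTriple x a L) (M : Mod L Ω)
    (hΩ : Ω.card = n) (hα : 4 ≤ Ωᶜ.card)
    (hbig : ∀ {r : G} {N E : Subgroup G}, IsTriple x r N → a ∈ normalizer (N : Set G) →
      IsComp (N ⊓ centralizer ({a} : Set G)) E → AltType E (n - 4) →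
      ∃ m, Odd m ∧ 7 ≤ m ∧ m ≤ n ∧ AltType N m) : (∃ X, CaseN M a X) ∨ CaseD M a := by
  obtain ⟨r, N, hr, hN, hor⟩ := M.pump_good T (by omega)
  rcases hor with ⟨ha, hle⟩ | ⟨hne, hd⟩
  · left
    obtain ⟨X, hdis, hX, Mr, hMr⟩ := exists_KD_aux hn h11 M T hΩ hα hr hN ha hle
      fun hE hA => hbig hN ha hE hA
    refine ⟨X, hdis, hX, fun v hv => ?_⟩
    obtain ⟨g, hg, rfl⟩ := M.exists_conj_root hr.mem hv.mem hr.sq hv.sq hr.isRoot hv.isRoot
    have h9 : (fixIn Ω (M.φ r)).card = Ω.card - 4 := hr.root.card_fix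
    obtain ⟨Mv, hMv⟩ := hMr.conj hdis hg (comm_of_triple T hg) (le_normalizer hr.mem) hr.sq (by omega)
    exact ⟨_, Mv, hMv⟩
  · right
    exact caseD_of_one M T (by omega) hr hN.comp hne hd

/-- **(0)** case N or case D -/
theorem caseN_or_caseD {n : ℕ} (H : Hyp G n) (T : IsTriple x a L) (M : Mod L Ω) (hΩ : Ω.card = n)
    (hα : 4 ≤ Ωᶜ.card) : (∃ X, CaseN M a X) ∨ CaseD M a := by
  have h13 := H.h13
  exact caseN_or_caseD_aux H.odd (by omega) T M hΩ hα fun hN ha hE hA =>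
    H.big hN ha (sq_of_order T.inva) hE (k := n - 4) (by omega) hA

end Cfsg.Agent.UAlt
end

-- part: UAlt/Eleven/Case0
section
set_option linter.all false

/-!
# Case N or case D for `n = 11`
-/

set_option autoImplicit false

namespace Cfsg.Agent.UAlt

open Cfsg Equiv Equiv.Perm Subgroup
open Cfsg.Agent.Intrinsic.Basic
open Cfsg.Agent.SignalizersComponents Cfsg.Agent.Lib
open Cfsg.Agent.SignalizersComponents.IntrinsicBasic
open Cfsg.Agent.UGT.Triple

variable {G : Type*} [Group G] [Finite G] {α : Type*} [Fintype α] [DecidableEq α]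
  {L : Subgroup G} {Ω : Finset α} {x a : G}

/-- **(E0)** case N or case D, `n = 11` -/
theorem caseN_or_caseD11 (H : Hyp11 G) (T : IsTriple x a L) (M : Mod L Ω) (hΩ : Ω.card = 11)
    (hα : 4 ≤ Ωᶜ.card) : (∃ X, CaseN M a X) ∨ CaseD M a :=
  caseN_or_caseD_aux (by decide) (by omega) T M hΩ hα fun hN ha hE hA =>
    H.big hN ha (sq_of_order T.inva) hE (k := 11 - 4) (by omega) hA

end Cfsg.Agent.UAlt
end
end
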